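import Groth.Agent.AlgGlue.Absolute
import Mathlib.CategoryTheory.Filtered.Final

/-!
# Models of finite type over the integers of morphisms of quasi-compact quasi-separated schemes
-/

universe u

set_option autoImplicit false
set_option backward.isDefEq.respectTransparency false
set_option backward.isDefEq.respectTransparency.types false
set_option linter.style.haveILetI false
set_option linter.unusedSectionVars false
set_option linter.unusedVariables false

open CategoryTheory CategoryTheory.Limits AlgebraicGeometry TopologicalSpace Opposite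

namespace Groth.Agent.AlgGlue

/-- A presentation of a scheme as a limit of schemes of finite type over the integers. -/
structure Model (S : Scheme.{u}) where
  /-- the index -/
  A : Type u
  [pre : Preorder A]
  [dir : IsDirectedOrder A]
  [ne : Nonempty A]
  /-- the stages -/
  D : Aᵒᵖ ⥤ Scheme.{u}
  /-- the projections -/
  π : ∀ a, S ⟶ D.obj a
  w : ∀ {a b : Aᵒᵖ} (h : a ⟶ b), π a ≫ D.map h = π b
  affine : ∀ {a b : Aᵒᵖ} (h : a ⟶ b), IsAffineHom (D.map h)
  ftz : ∀ a, FTZ (D.obj a)
  /-- it is a limit -/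
  isLimit : IsLimit (Cone.mk S
    { app := π
      naturality := fun a b h => (Category.id_comp _).trans (w h).symm } : Cone D)

attribute [instance] Model.pre Model.dir Model.ne

namespace Model

variable {S : Scheme.{u}} (M : Model S)

/-- The cone. -/
def cone : Cone M.D :=
  Cone.mk S
    { app := M.π
      naturality := fun a b h => (Category.id_comp _).trans (M.w h).symm }

instance {a b : M.Aᵒᵖ} (h : a ⟶ b) : IsAffineHom (M.D.map h) := M.affine h

instance (a : M.Aᵒᵖ) : CompactSpace (M.D.obj a) := (M.ftz a).compactSpace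

instance (a : M.Aᵒᵖ) : QuasiSeparatedSpace (M.D.obj a) := (M.ftz a).quasiSeparatedSpace

theorem isAffineHom_π (a : M.Aᵒᵖ) : IsAffineHom (M.π a) :=
  isAffineHom_π_app M.D M.cone M.isLimit a

theorem compactSpace (M : Model S) : CompactSpace S := by
  haveI := M.isAffineHom_π (op (Classical.arbitrary M.A))
  exact QuasiCompact.compactSpace_of_compactSpace (M.π (op (Classical.arbitrary M.A)))

theorem hom_ext {T : Scheme.{u}} {p q : T ⟶ S} (h : ∀ a, p ≫ M.π a = q ≫ M.π a) : p = q :=
  M.isLimit.hom_ext h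

end Model

/-- Every quasi-compact quasi-separated scheme has a model. -/
theorem nonempty_model (S : Scheme.{u}) [CompactSpace S] [QuasiSeparatedSpace S] :
    Nonempty (Model S) := by
  obtain ⟨T, g, hg, hT⟩ := approximable_of_qcqs S
  haveI := hT.compactSpace
  haveI := hT.quasiSeparatedSpace
  obtain ⟨hlim⟩ := nonempty_isLimit_systemCone g
  exact ⟨{
    A := Idx g
    D := system g
    π := (systemCone g).π.app
    w := fun h => (systemCone g).w h
    affine := fun h => inferInstance
    ftz := fun a => hT.of_hom (systemProj g a)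
    isLimit := hlim }⟩

section Arrow

variable {X S : Scheme.{u}} (MX : Model X) (MS : Model S) (f : X ⟶ S)

/-- A stage of an arrow. -/
structure ArrowStage where
  /-- the stage of the source -/
  a : MX.A
  /-- the stage of the target -/
  b : MS.A
  /-- the morphism -/
  hom : MX.D.obj (op a) ⟶ MS.D.obj (op b)
  comm : MX.π (op a) ≫ hom = f ≫ MS.π (op b)

instance : Preorder (ArrowStage MX MS f) where
  le x y := ∃ (ha : x.a ≤ y.a) (hb : x.b ≤ y.b),
    y.hom ≫ MS.D.map (homOfLE hb).op = MX.D.map (homOfLE ha).op ≫ x.hom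
  le_refl x := ⟨le_rfl, le_rfl, by simp⟩
  le_trans x y z := by
    rintro ⟨ha, hb, h⟩ ⟨ha', hb', h'⟩
    refine ⟨ha.trans ha', hb.trans hb', ?_⟩
    rw [← homOfLE_comp hb hb', op_comp, Functor.map_comp, reassoc_of% h', h,
      ← homOfLE_comp ha ha', op_comp, Functor.map_comp, Category.assoc]

theorem exists_arrowStage (a₀ : MX.A) (b : MS.A) :
    ∃ x : ArrowStage MX MS f, a₀ ≤ x.a ∧ x.b = b := by
  obtain ⟨h1, -, -⟩ := FTZ.finitePresentation_hom FTZ.specInt (MS.ftz (op b))
    (specULiftZIsTerminal.from _)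
  let t : MX.D ⟶ (Functor.const MX.Aᵒᵖ).obj (Spec (CommRingCat.of (ULift.{u} ℤ))) :=
    { app := fun a => specULiftZIsTerminal.from _
      naturality := fun _ _ _ => specULiftZIsTerminal.hom_ext _ _ }
  obtain ⟨i, g, hg, -⟩ := Scheme.exists_π_app_comp_eq_of_locallyOfFinitePresentation
    (D := MX.D) (t := t) (f := specULiftZIsTerminal.from (MS.D.obj (op b))) (c := MX.cone)
    MX.isLimit (f ≫ MS.π (op b)) (by ext a; exact specULiftZIsTerminal.hom_ext _ _)
  obtain ⟨a, ha, ha'⟩ := exists_ge_ge a₀ i.unop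
  refine ⟨⟨a, b, MX.D.map (homOfLE ha').op ≫ g, ?_⟩, ha, rfl⟩
  rw [← Category.assoc, MX.w]
  exact hg

theorem map_stage_comp (w : ArrowStage MX MS f) {a' a : MX.A} (h : w.a ≤ a') (ha : a' ≤ a)
    {za : MX.A} {zb : MS.A} (hza : za ≤ w.a) (hzb : zb ≤ w.b) {zh : MX.D.obj (op za) ⟶ MS.D.obj (op zb)}
    (hwa : w.a ≤ a) (hzaa : za ≤ a)
    (e : MX.D.map (homOfLE h).op ≫ w.hom ≫ MS.D.map (homOfLE hzb).op =
      MX.D.map (homOfLE h).op ≫ MX.D.map (homOfLE hza).op ≫ zh) :
    (MX.D.map (homOfLE hwa).op ≫ w.hom) ≫ MS.D.map (homOfLE hzb).op =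
      MX.D.map (homOfLE hzaa).op ≫ zh := by
  have h1 : MX.D.map (homOfLE hwa).op =
      MX.D.map (homOfLE ha).op ≫ MX.D.map (homOfLE h).op := by
    rw [← MX.D.map_comp]
    rfl
  have h2 : MX.D.map (homOfLE hzaa).op =
      MX.D.map (homOfLE ha).op ≫ MX.D.map (homOfLE h).op ≫ MX.D.map (homOfLE hza).op := by
    rw [← MX.D.map_comp, ← MX.D.map_comp]
    rfl
  rw [h1, h2, Category.assoc, Category.assoc, e, Category.assoc, Category.assoc]

theorem exists_le_both (x y : ArrowStage MX MS f) : ∃ z, x ≤ z ∧ y ≤ z := by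
  obtain ⟨b, hxb, hyb⟩ := exists_ge_ge x.b y.b
  obtain ⟨a₀, hxa, hya⟩ := exists_ge_ge x.a y.a
  obtain ⟨w, hw, rfl⟩ := exists_arrowStage MX MS f a₀ b
  let t : MX.D ⟶ (Functor.const MX.Aᵒᵖ).obj (Spec (CommRingCat.of (ULift.{u} ℤ))) :=
    { app := fun a => specULiftZIsTerminal.from _
      naturality := fun _ _ _ => specULiftZIsTerminal.hom_ext _ _ }
  have key : ∀ (z : ArrowStage MX MS f) (hz : z.b ≤ w.b) (hza : z.a ≤ w.a),
      ∃ a' : MX.A, ∃ h : w.a ≤ a', MX.D.map (homOfLE h).op ≫ w.hom ≫ MS.D.map (homOfLE hz).op =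
        MX.D.map (homOfLE h).op ≫ MX.D.map (homOfLE hza).op ≫ z.hom := by
    intro z hz hza
    haveI := (MS.ftz (op z.b)).2
    obtain ⟨k, hk, e⟩ := Scheme.exists_hom_comp_eq_comp_of_locallyOfFiniteType
      (D := MX.D) (t := t) (f := specULiftZIsTerminal.from (MS.D.obj (op z.b))) (c := MX.cone)
      MX.isLimit (i := op w.a) (w.hom ≫ MS.D.map (homOfLE hz).op)
      (MX.D.map (homOfLE hza).op ≫ z.hom) (specULiftZIsTerminal.hom_ext _ _)
      (specULiftZIsTerminal.hom_ext _ _) (by
        show MX.π _ ≫ _ = MX.π _ ≫ _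
        rw [reassoc_of% w.comm, MS.w, ← Category.assoc (MX.π _), MX.w, z.comm])
    exact ⟨k.unop, leOfHom hk.unop, e⟩
  obtain ⟨a₁, h₁, e₁⟩ := key x hxb (hxa.trans hw)
  obtain ⟨a₂, h₂, e₂⟩ := key y hyb (hya.trans hw)
  obtain ⟨a, ha₁, ha₂⟩ := exists_ge_ge a₁ a₂
  refine ⟨⟨a, w.b, MX.D.map (homOfLE (h₁.trans ha₁)).op ≫ w.hom, ?_⟩,
    ⟨hxa.trans (hw.trans (h₁.trans ha₁)), hxb, ?_⟩, ⟨hya.trans (hw.trans (h₁.trans ha₁)), hyb, ?_⟩⟩
  · rw [← Category.assoc, MX.w, w.comm]
  · exact map_stage_comp MX MS f w h₁ ha₁ (hxa.trans hw) hxb _ _ e₁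
  · exact map_stage_comp MX MS f w h₂ ha₂ (hya.trans hw) hyb _ _ e₂

instance : IsDirectedOrder (ArrowStage MX MS f) :=
  ⟨fun x y => exists_le_both MX MS f x y⟩

instance : Nonempty (ArrowStage MX MS f) :=
  let ⟨x, _⟩ := exists_arrowStage MX MS f (Classical.arbitrary _) (Classical.arbitrary _)
  ⟨x⟩

theorem monotone_a : Monotone (fun x : ArrowStage MX MS f => x.a) := fun _ _ h => h.1

theorem monotone_b : Monotone (fun x : ArrowStage MX MS f => x.b) := fun _ _ h => h.2.1

/-- The projection of stages to the source. -/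
def projA : (ArrowStage MX MS f)ᵒᵖ ⥤ MX.Aᵒᵖ := (monotone_a MX MS f).functor.op

/-- The projection of stages to the target. -/
def projB : (ArrowStage MX MS f)ᵒᵖ ⥤ MS.Aᵒᵖ := (monotone_b MX MS f).functor.op

instance : (projA MX MS f).Initial := by
  haveI : (monotone_a MX MS f).functor.Final := by
    rw [Monotone.final_functor_iff]
    intro a
    obtain ⟨x, hx, -⟩ := exists_arrowStage MX MS f a (Classical.arbitrary _)
    exact ⟨x, hx⟩
  exact Functor.initial_op_of_final _

instance : (projB MX MS f).Initial := by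
  haveI : (monotone_b MX MS f).functor.Final := by
    rw [Monotone.final_functor_iff]
    intro b
    obtain ⟨x, -, hx⟩ := exists_arrowStage MX MS f (Classical.arbitrary _) b
    exact ⟨x, hx.ge⟩
  exact Functor.initial_op_of_final _

/-- The system of sources. -/
def DA : (ArrowStage MX MS f)ᵒᵖ ⥤ Scheme.{u} := projA MX MS f ⋙ MX.D

/-- The system of targets. -/
def DB : (ArrowStage MX MS f)ᵒᵖ ⥤ Scheme.{u} := projB MX MS f ⋙ MS.D

/-- The system of morphisms. -/
def arrowNat : DA MX MS f ⟶ DB MX MS f where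
  app x := x.unop.hom
  naturality x y h := by
    obtain ⟨ha, hb, e⟩ := leOfHom h.unop
    exact e.symm

/-- The cone of sources. -/
def coneA : Cone (DA MX MS f) := MX.cone.whisker (projA MX MS f)

/-- The cone of targets. -/
def coneB : Cone (DB MX MS f) := MS.cone.whisker (projB MX MS f)

/-- The source is the limit. -/
noncomputable def isLimitA : IsLimit (coneA MX MS f) :=
  (Functor.Initial.isLimitWhiskerEquiv (projA MX MS f) MX.cone).symm MX.isLimit

/-- The target is the limit. -/
noncomputable def isLimitB : IsLimit (coneB MX MS f) :=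
  (Functor.Initial.isLimitWhiskerEquiv (projB MX MS f) MS.cone).symm MS.isLimit

/-- The pullback of a stage to the target. -/
noncomputable def fpObj (x : (ArrowStage MX MS f)ᵒᵖ) : Scheme.{u} :=
  pullback x.unop.hom (MS.π (op x.unop.b))

/-- The system of schemes of finite presentation over the target. -/
noncomputable def fpSystem : (ArrowStage MX MS f)ᵒᵖ ⥤ Scheme.{u} where
  obj x := fpObj MX MS f x
  map {x y} h := pullback.map _ _ _ _ ((DA MX MS f).map h) (𝟙 S) ((DB MX MS f).map h)
    ((arrowNat MX MS f).naturality h).symm (by rw [Category.id_comp]; exact MS.w _)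
  map_id x := by
    apply pullback.hom_ext
    · rw [pullback.map, pullback.lift_fst, CategoryTheory.Functor.map_id]
      exact (Category.comp_id _).trans (Category.id_comp _).symm
    · rw [pullback.map, pullback.lift_snd]
      exact (Category.comp_id _).trans (Category.id_comp _).symm
  map_comp h k := by
    apply pullback.hom_ext
    · simp only [pullback.map, Category.assoc, pullback.lift_fst, pullback.lift_fst_assoc,
        Functor.map_comp]
    · simp only [pullback.map, Category.assoc, pullback.lift_snd, pullback.lift_snd_assoc,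
        Category.comp_id]

theorem fpSystem_map_fst {x y : (ArrowStage MX MS f)ᵒᵖ} (h : x ⟶ y) :
    (fpSystem MX MS f).map h ≫ pullback.fst y.unop.hom (MS.π (op y.unop.b)) =
      pullback.fst x.unop.hom (MS.π (op x.unop.b)) ≫ (DA MX MS f).map h :=
  pullback.lift_fst _ _ _

theorem fpSystem_map_snd {x y : (ArrowStage MX MS f)ᵒᵖ} (h : x ⟶ y) :
    (fpSystem MX MS f).map h ≫ pullback.snd y.unop.hom (MS.π (op y.unop.b)) =
      pullback.snd x.unop.hom (MS.π (op x.unop.b)) :=
  (pullback.lift_snd _ _ _).trans (Category.comp_id _)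

/-- The structure maps. -/
noncomputable def fpHom : fpSystem MX MS f ⟶ (Functor.const _).obj S where
  app x := pullback.snd _ _
  naturality x y h := by
    exact (fpSystem_map_snd MX MS f h).trans (Category.comp_id _).symm

/-- The cone over the pullbacks. -/
noncomputable def fpCone : Cone (fpSystem MX MS f) where
  pt := X
  π :=
    { app := fun x => pullback.lift (MX.π (op x.unop.a)) f x.unop.comm
      naturality := fun x y h => by
        refine (Category.id_comp _).trans ?_
        apply pullback.hom_ext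
        · show _ = (_ ≫ (fpSystem MX MS f).map h) ≫ _
          rw [Category.assoc, fpSystem_map_fst, pullback.lift_fst, pullback.lift_fst_assoc]
          exact (MX.w _).symm
        · show _ = (_ ≫ (fpSystem MX MS f).map h) ≫ _
          rw [Category.assoc, fpSystem_map_snd, pullback.lift_snd, pullback.lift_snd] }

theorem fpCone_snd (x : (ArrowStage MX MS f)ᵒᵖ) :
    (fpCone MX MS f).π.app x ≫ (fpHom MX MS f).app x = f :=
  pullback.lift_snd _ _ _

/-- The source is the limit of the pullbacks. -/
theorem nonempty_isLimit_fpCone : Nonempty (IsLimit (fpCone MX MS f)) := by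
  haveI : IsCofiltered (ArrowStage MX MS f)ᵒᵖ := inferInstance
  let toA : fpSystem MX MS f ⟶ DA MX MS f :=
    { app := fun x => pullback.fst _ _
      naturality := fun x y h => fpSystem_map_fst MX MS f h }
  let lft : ∀ s : Cone (fpSystem MX MS f), s.pt ⟶ X := fun s =>
    (isLimitA MX MS f).lift ((Cone.postcompose toA).obj s)
  have hlA : ∀ s x, lft s ≫ MX.π (op x.unop.a) = s.π.app x ≫ pullback.fst _ _ := fun s x =>
    (isLimitA MX MS f).fac _ x
  have hlS : ∀ s x, lft s ≫ f = s.π.app x ≫ pullback.snd _ _ := by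
    intro s x₀
    refine (isLimitB MX MS f).hom_ext fun x => ?_
    show (lft s ≫ f) ≫ MS.π (op x.unop.b) = (_ ≫ _) ≫ MS.π (op x.unop.b)
    rw [Category.assoc, ← x.unop.comm, ← Category.assoc, hlA, Category.assoc,
      pullback.condition, ← Category.assoc]
    refine congrArg (· ≫ _) ?_
    obtain ⟨z, hz₀, hz⟩ := exists_ge_ge x₀.unop x.unop
    have key : ∀ {y y' : (ArrowStage MX MS f)ᵒᵖ} (h : y ⟶ y'),
        s.π.app y ≫ pullback.snd _ _ = s.π.app y' ≫ pullback.snd _ _ := fun {y y'} h => by
      rw [← s.w h, Category.assoc]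
      exact congrArg _ (((fpHom MX MS f).naturality h).trans (Category.comp_id _)).symm
    exact (key (y := op z) (homOfLE hz).op).symm.trans (key (y := op z) (homOfLE hz₀).op)
  exact ⟨{
    lift := lft
    fac := fun s x => by
      apply pullback.hom_ext
      · show (lft s ≫ pullback.lift _ _ _) ≫ _ = _
        rw [Category.assoc, pullback.lift_fst, hlA]
      · show (lft s ≫ pullback.lift _ _ _) ≫ _ = _
        rw [Category.assoc, pullback.lift_snd, hlS s x]
    uniq := fun s m hm => by
      refine (isLimitA MX MS f).hom_ext fun x => ?_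
      show m ≫ MX.π (op x.unop.a) = lft s ≫ MX.π (op x.unop.a)
      rw [hlA, ← hm x, Category.assoc]
      show _ = m ≫ pullback.lift _ _ _ ≫ _
      rw [pullback.lift_fst] }⟩

theorem fpHom_props (x : (ArrowStage MX MS f)ᵒᵖ) :
    LocallyOfFinitePresentation ((fpHom MX MS f).app x) ∧ QuasiCompact ((fpHom MX MS f).app x) ∧
      QuasiSeparated ((fpHom MX MS f).app x) := by
  obtain ⟨h1, h2, h3⟩ := FTZ.finitePresentation_hom (MS.ftz (op x.unop.b)) (MX.ftz (op x.unop.a))
    x.unop.hom
  exact ⟨inferInstanceAs (LocallyOfFinitePresentation (pullback.snd _ _)),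
    inferInstanceAs (QuasiCompact (pullback.snd _ _)),
    inferInstanceAs (QuasiSeparated (pullback.snd _ _))⟩

instance isAffineHom_fpSystem_map {x y : (ArrowStage MX MS f)ᵒᵖ} (h : x ⟶ y) :
    IsAffineHom ((fpSystem MX MS f).map h) := by
  haveI : ∀ b, IsAffineHom (MS.π b) := MS.isAffineHom_π
  haveI : IsAffineHom ((fpSystem MX MS f).map h ≫
      pullback.fst y.unop.hom (MS.π (op y.unop.b))) := by
    rw [fpSystem_map_fst]
    haveI : IsAffineHom ((DA MX MS f).map h) := MX.affine _
    haveI : IsAffineHom (pullback.fst x.unop.hom (MS.π (op x.unop.b))) :=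
      MorphismProperty.pullback_fst (P := @IsAffineHom) _ _ (MS.isAffineHom_π _)
    exact MorphismProperty.comp_mem _ _ _ ‹_› ‹_›
  exact IsAffineHom.of_comp _ (pullback.fst y.unop.hom (MS.π (op y.unop.b)))

theorem isAffineHom_fpCone (x : (ArrowStage MX MS f)ᵒᵖ) :
    IsAffineHom ((fpCone MX MS f).π.app x) :=
  isAffineHom_π_app _ _ (nonempty_isLimit_fpCone MX MS f).some x

theorem compactSpace_fpSystem (x : (ArrowStage MX MS f)ᵒᵖ) :
    CompactSpace ((fpSystem MX MS f).obj x) := by
  haveI := MS.compactSpace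
  obtain ⟨-, h, -⟩ := fpHom_props MX MS f x
  exact QuasiCompact.compactSpace_of_compactSpace (Y := S) ((fpHom MX MS f).app x)

theorem quasiSeparatedSpace_fpSystem [QuasiSeparatedSpace S] (x : (ArrowStage MX MS f)ᵒᵖ) :
    QuasiSeparatedSpace ((fpSystem MX MS f).obj x) := by
  obtain ⟨-, -, h⟩ := fpHom_props MX MS f x
  exact quasiSeparatedSpace_of_quasiSeparated (Y := S) ((fpHom MX MS f).app x)

end Arrow

/-- Promote a limit of schemes with structure maps to a limit over the base. -/
theorem exists_over_limit {I : Type u} [SmallCategory I] [IsCofiltered I] {S : Scheme.{u}}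
    (D : I ⥤ Scheme.{u}) (t : D ⟶ (Functor.const I).obj S) (c : Cone D) (hc : IsLimit c)
    (f : c.pt ⟶ S) (hf : ∀ i, c.π.app i ≫ t.app i = f) :
    ∃ (E : I ⥤ Over S) (_ : E ⋙ Over.forget S = D) (c' : Cone E) (_ : IsLimit c'),
      (∀ i, (E.obj i).left = D.obj i ∧ HEq (E.obj i).hom (t.app i)) ∧
        Nonempty (c'.pt ≅ Over.mk f) := by
  let E : I ⥤ Over S :=
    { obj := fun i => Over.mk (t.app i)
      map := fun {i j} a => Over.homMk (D.map a) ((t.naturality a).trans (Category.comp_id _))
      map_id := fun i => Over.OverMorphism.ext (D.map_id i)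
      map_comp := fun a b => Over.OverMorphism.ext (D.map_comp a b) }
  let c' : Cone E :=
    { pt := Over.mk f
      π :=
        { app := fun i => Over.homMk (c.π.app i) (hf i)
          naturality := fun i j a => Over.OverMorphism.ext (c.π.naturality a) } }
  have hc' : IsLimit c' :=
    { lift := fun s => Over.homMk (hc.lift ((Over.forget S).mapCone s)) (by
        have i : I := IsCofiltered.nonempty.some
        show hc.lift _ ≫ f = _
        rw [← hf i, ← Category.assoc, hc.fac]
        exact Over.w (s.π.app i))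
      fac := fun s i => Over.OverMorphism.ext (hc.fac _ i)
      uniq := fun s m hm => Over.OverMorphism.ext
        (hc.uniq ((Over.forget S).mapCone s) m.left fun i => congrArg CommaMorphism.left (hm i)) }
  exact ⟨E, rfl, c', hc', fun i => ⟨rfl, HEq.rfl⟩, ⟨Iso.refl _⟩⟩

/-- A quasi-compact open containing a quasi-compact set. -/
theorem exists_isCompact_open_ge {S : Scheme.{u}} {K : Set S} (hK : IsCompact K) :
    ∃ U : S.Opens, IsCompact (U : Set S) ∧ K ⊆ U := by
  obtain ⟨F, hF⟩ := hK.elim_finite_subcover (fun V : S.affineOpens => (V.1 : Set S))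
    (fun V => V.1.2) fun x _ => by
      obtain ⟨_, ⟨V, hV, rfl⟩, hxV, -⟩ := S.isBasis_affineOpens.exists_subset_of_mem_open
        (Set.mem_univ x) isOpen_univ
      exact Set.mem_iUnion.2 ⟨⟨V, hV⟩, hxV⟩
  refine ⟨⨆ V ∈ F, V.1, ?_, ?_⟩
  · simp only [Opens.coe_iSup]
    exact F.finite_toSet.isCompact_biUnion fun V _ => V.2.isCompact
  · simpa only [Opens.coe_iSup] using hF

/-- A morphism from a qcqs scheme to a quasi-separated scheme is a limit of morphisms of finite
presentation with affine transition morphisms. -/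
theorem exists_fp_system {X S : Scheme.{u}} (f : X ⟶ S) [CompactSpace X] [QuasiSeparatedSpace X]
    [QuasiSeparatedSpace S] :
    ∃ (I : Type u) (_ : Preorder I) (_ : IsDirectedOrder I) (_ : Nonempty I)
      (D : Iᵒᵖ ⥤ Scheme.{u}) (t : D ⟶ (Functor.const Iᵒᵖ).obj S) (π : ∀ i, X ⟶ D.obj i)
      (hw : ∀ {i j : Iᵒᵖ} (a : i ⟶ j), π i ≫ D.map a = π j)
      (_ : IsLimit (Cone.mk X { app := π
                                naturality := fun i j a => (Category.id_comp _).trans (hw a).symm } : Cone D)),
      (∀ i, π i ≫ t.app i = f) ∧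
      (∀ i, LocallyOfFinitePresentation (t.app i) ∧ QuasiCompact (t.app i) ∧
        QuasiSeparated (t.app i) ∧ CompactSpace (D.obj i) ∧ QuasiSeparatedSpace (D.obj i)) ∧
      (∀ {i j : Iᵒᵖ} (a : i ⟶ j), IsAffineHom (D.map a)) ∧ ∀ i, IsAffineHom (π i) := by
  obtain ⟨U, hU, hfU⟩ := exists_isCompact_open_ge (isCompact_range f.continuous)
  haveI : CompactSpace (U : Scheme.{u}) := isCompact_iff_compactSpace.mp hU
  haveI : QuasiSeparatedSpace (U : Scheme.{u}) :=
    QuasiSeparatedSpace.of_isOpenEmbedding U.ι.isOpenEmbedding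
  haveI := Groth.Agent.QCoh.quasiCompact_ι_of_compact U hU
  let f' : X ⟶ U := IsOpenImmersion.lift U.ι f (by rwa [Scheme.Opens.range_ι])
  have hf' : f' ≫ U.ι = f := IsOpenImmersion.lift_fac _ _ _
  obtain ⟨MX⟩ := nonempty_model X
  obtain ⟨MS⟩ := nonempty_model (U : Scheme.{u})
  obtain ⟨hlim⟩ := nonempty_isLimit_fpCone MX MS f'
  refine ⟨ArrowStage MX MS f', inferInstance, inferInstance, inferInstance, fpSystem MX MS f',
    fpHom MX MS f' ≫ (Functor.const _).map U.ι, (fpCone MX MS f').π.app,
    fun a => (fpCone MX MS f').w a, hlim, fun i => ?_, fun i => ?_,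
    fun a => isAffineHom_fpSystem_map MX MS f' a, isAffineHom_fpCone MX MS f'⟩
  · show (fpCone MX MS f').π.app i ≫ (fpHom MX MS f').app i ≫ U.ι = f
    rw [← Category.assoc, fpCone_snd, hf']
  · obtain ⟨h1, h2, h3⟩ := fpHom_props MX MS f' i
    show LocallyOfFinitePresentation ((fpHom MX MS f').app i ≫ U.ι) ∧
      QuasiCompact ((fpHom MX MS f').app i ≫ U.ι) ∧ QuasiSeparated ((fpHom MX MS f').app i ≫ U.ι) ∧ _
    exact ⟨MorphismProperty.comp_mem _ _ _ h1 inferInstance,
      MorphismProperty.comp_mem _ _ _ h2 inferInstance,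
      MorphismProperty.comp_mem _ _ _ h3 inferInstance,
      compactSpace_fpSystem MX MS f' i, quasiSeparatedSpace_fpSystem MX MS f' i⟩

end Groth.Agent.AlgGlue
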