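import Groth.Agent.AlgSpDec.LimFiniteScheme
import Mathlib.AlgebraicGeometry.AffineTransitionLimit

/-!
# Finiteness of a stage over a base
-/

universe u

set_option autoImplicit false
set_option backward.isDefEq.respectTransparency false
set_option backward.isDefEq.respectTransparency.types false
set_option linter.style.haveILetI false

open CategoryTheory CategoryTheory.Limits AlgebraicGeometry TopologicalSpace Opposite

namespace Groth.Agent.AlgGlue

theorem isFinite_resLE_of_eq {A S : Scheme.{u}} (f : A ⟶ S) (V : S.Opens) (W : A.Opens)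
    (hW : W = f ⁻¹ᵁ V) (h : IsFinite (f.resLE V W hW.le)) : IsFinite (f ∣_ V) := by
  subst hW
  rwa [Scheme.Hom.resLE_eq_morphismRestrict] at h

/-- If a limit along finite transition morphisms is integral over a qcqs base, a stage is finite. -/
theorem exists_isFinite_base {I : Type u} [SmallCategory I] [IsCofiltered I] (S : Scheme.{u})
    [CompactSpace S] [QuasiSeparatedSpace S] (D : I ⥤ Scheme.{u})
    (t : D ⟶ (Functor.const I).obj S) (c : Cone D) (hc : IsLimit c)
    (hfin : ∀ {i j : I} (a : i ⟶ j), IsFinite (D.map a))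
    [∀ i, CompactSpace (D.obj i)] [∀ i, QuasiSeparatedSpace (D.obj i)]
    [∀ i, LocallyOfFiniteType (t.app i)] (f : c.pt ⟶ S) [IsIntegralHom f]
    (hf : ∀ i, c.π.app i ≫ t.app i = f) :
    ∃ i₀ : I, ∀ (i : I) (_ : i ⟶ i₀), IsFinite (t.app i) := by
  classical
  haveI : ∀ {i j : I} (a : i ⟶ j), IsAffineHom (D.map a) := fun a => haveI := hfin a; inferInstance
  have iI : I := IsCofiltered.nonempty.some
  have ht : ∀ {i j : I} (a : i ⟶ j), D.map a ≫ t.app j = t.app i := fun a =>
    (t.naturality a).trans (Category.comp_id _)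
  have key : ∀ V : S.affineOpens, ∃ j : Over iI, ∀ k : Over iI, (k ⟶ j) →
      IsFinite (t.app k.left ∣_ V.1) := by
    intro V
    haveI : IsAffine (V.1 : Scheme.{u}) := V.2
    let E := opensDiagram D iI (t.app iI ⁻¹ᵁ V.1)
    have hU : ∀ k : Over iI, D.map k.hom ⁻¹ᵁ t.app iI ⁻¹ᵁ V.1 = t.app k.left ⁻¹ᵁ V.1 := fun k => by
      rw [← Scheme.Hom.comp_preimage, ht]
    let r : ∀ k : Over iI, E.obj k ⟶ (V.1 : Scheme.{u}) := fun k =>
      (t.app k.left).resLE V.1 _ (hU k).le
    haveI : QuasiSeparatedSpace (((Functor.const I).obj S).obj iI) := ‹QuasiSeparatedSpace S›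
    haveI : QuasiCompact (t.app iI) := inferInstance
    haveI : ∀ k : Over iI, CompactSpace (E.obj k) := fun k => isCompact_iff_compactSpace.mp (by
      exact (D.map k.hom).isCompact_preimage ((t.app iI).isCompact_preimage V.2.isCompact))
    haveI : ∀ k : Over iI, QuasiSeparatedSpace (E.obj k) := fun k =>
      QuasiSeparatedSpace.of_isOpenEmbedding
        (D.map k.hom ⁻¹ᵁ t.app iI ⁻¹ᵁ V.1).ι.isOpenEmbedding
    haveI : ∀ k, LocallyOfFiniteType (r k) := fun k => by
      haveI : LocallyOfFiniteType (r k ≫ V.1.ι) := by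
        rw [Scheme.Hom.resLE_comp_ι]; infer_instance
      exact locallyOfFiniteType_of_comp _ V.1.ι
    have hEfin : ∀ {k l : Over iI} (a : k ⟶ l), IsFinite (E.map a) := by
      intro k l a
      show IsFinite ((D.map a.left).resLE _ _ _)
      haveI := hfin a.left
      have heq : D.map k.hom ⁻¹ᵁ t.app iI ⁻¹ᵁ V.1 =
          D.map a.left ⁻¹ᵁ (D.map l.hom ⁻¹ᵁ t.app iI ⁻¹ᵁ V.1) := by
        rw [← Scheme.Hom.comp_preimage (D.map a.left) (D.map l.hom), ← D.map_comp, Over.w a]
      have hgen : ∀ (W : (D.obj k.left).Opens) (h : W = D.map a.left ⁻¹ᵁ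
          (D.map l.hom ⁻¹ᵁ t.app iI ⁻¹ᵁ V.1)), IsFinite ((D.map a.left).resLE _ W h.le) := by
        rintro W rfl
        rw [Scheme.Hom.resLE_eq_morphismRestrict]
        exact IsZariskiLocalAtTarget.restrict (P := @IsFinite) inferInstance _
      exact hgen _ heq
    haveI : ∀ {k l : Over iI} (a : k ⟶ l), IsFinite (E.map a) := hEfin
    let cE := opensCone D c iI (t.app iI ⁻¹ᵁ V.1)
    let q : cE.pt ⟶ (V.1 : Scheme.{u}) := f.resLE V.1 _ (by
      rw [← Scheme.Hom.comp_preimage, hf])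
    haveI : IsIntegralHom q := by
      have hgen : ∀ (W : c.pt.Opens) (h : W = f ⁻¹ᵁ V.1), IsIntegralHom (f.resLE V.1 W h.le) := by
        rintro W rfl
        rw [Scheme.Hom.resLE_eq_morphismRestrict]
        exact IsZariskiLocalAtTarget.restrict (P := @IsIntegralHom) inferInstance _
      exact hgen _ (by rw [← Scheme.Hom.comp_preimage, hf])
    obtain ⟨j, hj⟩ := Groth.Agent.AlgSpDec.exists_isFinite_stage
      (isLimitOpensCone D c hc iI (t.app iI ⁻¹ᵁ V.1)) r
      (fun {k l} a => by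
        rw [← cancel_mono V.1.ι, Category.assoc, Scheme.Hom.resLE_comp_ι, Scheme.Hom.resLE_comp_ι]
        show (D.map a.left).resLE _ _ _ ≫ _ ≫ _ = _
        rw [Scheme.Hom.resLE_comp_ι_assoc, ht])
      q (fun k => by
        rw [← cancel_mono V.1.ι, Category.assoc, Scheme.Hom.resLE_comp_ι, Scheme.Hom.resLE_comp_ι]
        show (c.π.app k.left).resLE _ _ _ ≫ _ ≫ _ = _
        rw [Scheme.Hom.resLE_comp_ι_assoc, hf])
    exact ⟨j, fun k a => isFinite_resLE_of_eq _ _ _ (hU k) (hj k a)⟩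
  choose j hj using key
  obtain ⟨F, hF⟩ := isCompact_univ.elim_finite_subcover (fun V : S.affineOpens => (V.1 : Set S))
    (fun V => V.1.2) fun x _ => by
      obtain ⟨_, ⟨V, hV, rfl⟩, hxV, -⟩ := S.isBasis_affineOpens.exists_subset_of_mem_open
        (Set.mem_univ x) isOpen_univ
      exact Set.mem_iUnion.2 ⟨⟨V, hV⟩, hxV⟩
  obtain ⟨i₀, hi₀⟩ := IsCofiltered.inf_objs_exists (F.image j : Finset (Over iI))
  refine ⟨i₀.left, fun i a => ?_⟩
  have hcov : ⨆ V : F, (V.1.1 : S.Opens) = ⊤ := top_le_iff.1 fun x _ => by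
    obtain ⟨V, hV, hxV⟩ := Set.mem_iUnion₂.1 (hF (Set.mem_univ x))
    exact Opens.mem_iSup.2 ⟨⟨V, hV⟩, hxV⟩
  refine IsZariskiLocalAtTarget.of_iSup_eq_top (P := @IsFinite) _ hcov fun V => ?_
  exact hj V.1 (Over.mk (a ≫ i₀.hom))
    ((Over.homMk a rfl : Over.mk (a ≫ i₀.hom) ⟶ i₀) ≫ (hi₀ (Finset.mem_image_of_mem j V.2)).some)

end Groth.Agent.AlgGlue
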