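import Groth.Agent.AlgGlue.ClosedInFP
import Groth.Agent.AlgGlue.FiniteStage
import Groth.Agent.S9200
import Mathlib.CategoryTheory.Limits.Constructions.Over.Connected

/-!
# Finite and integral morphisms as limits of finite morphisms of finite presentation
-/

universe u

set_option autoImplicit false
set_option backward.isDefEq.respectTransparency false
set_option backward.isDefEq.respectTransparency.types false
set_option linter.style.haveILetI false
set_option linter.unusedSectionVars false
set_option linter.unusedVariables false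

open CategoryTheory CategoryTheory.Limits AlgebraicGeometry TopologicalSpace Opposite
open Scheme (IdealSheafData)
open Groth.Agent.MorLib.IdealFG

namespace Groth.Agent.AlgGlue

/-- A scheme-theoretic image which is integral and of finite type is finite. -/
theorem isFinite_image {X Y S : Scheme.{u}} (a : X ⟶ Y) (g : Y ⟶ S) [IsAffineHom g]
    [LocallyOfFiniteType g] [QuasiCompact a] [IsIntegralHom (a ≫ g)] :
    IsFinite (a.imageι ≫ g) := by
  rw [IsFinite.iff_isIntegralHom_and_locallyOfFiniteType]
  refine ⟨?_, inferInstance⟩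
  haveI : IsIntegralHom (a.toImage ≫ a.imageι ≫ g) := by
    rw [← Category.assoc, a.toImage_imageι]; infer_instance
  refine ⟨fun V hV => ?_⟩
  refine RingHom.IsIntegral.tower_bot _ (a.toImage.app (a.imageι ⁻¹ᵁ g ⁻¹ᵁ V)).hom
    (a.toImage_app_injective ⟨g ⁻¹ᵁ V, hV.preimage g⟩) ?_
  exact (a.toImage ≫ a.imageι ≫ g).isIntegral_app V hV

section Sub

variable {Y S : Scheme.{u}} (g : Y ⟶ S) (I : Y.IdealSheafData) [CompactSpace Y]
  [QuasiSeparatedSpace Y] [CompactSpace S] [QuasiSeparatedSpace S]

/-- A closed subscheme finite over the base lies in one finitely presented and finite. -/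
theorem exists_sub_isFinite [LocallyOfFiniteType g] (h : IsFinite (I.subschemeι ≫ g)) :
    ∃ K₀ : Sub I, ∀ K : Sub I, K₀ ≤ K → IsFinite (K.1.subschemeι ≫ g) := by
  haveI : Nonempty (Sub I) := ⟨⟨⊥, bot_le, isFG_bot⟩⟩
  let E := subDiagram g I
  let D : (Sub I)ᵒᵖ ⥤ Scheme.{u} := E ⋙ Over.forget S
  let t : D ⟶ (Functor.const _).obj S :=
    { app := fun K => (E.obj K).hom
      naturality := fun K L a => (Over.w (E.map a)).trans (Category.comp_id _).symm }
  haveI : IsConnected (Sub I)ᵒᵖ := IsCofiltered.isConnected _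
  let c : Cone D := (Over.forget S).mapCone (subCone g I)
  have hc : IsLimit c := isLimitOfPreserves (Over.forget S) (isLimitSubCone g I)
  have hfin : ∀ {K L : (Sub I)ᵒᵖ} (a : K ⟶ L), IsFinite (D.map a) := fun a => by
    haveI := isClosedImmersion_map g I a
    exact inferInstanceAs (IsFinite (E.map a).left)
  haveI : ∀ K, CompactSpace (D.obj K) := fun K =>
    QuasiCompact.compactSpace_of_compactSpace K.unop.1.subschemeι
  haveI : ∀ K, QuasiSeparatedSpace (D.obj K) := fun K =>
    quasiSeparatedSpace_of_quasiSeparated K.unop.1.subschemeι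
  haveI : ∀ K, LocallyOfFiniteType (t.app K) := fun K =>
    inferInstanceAs (LocallyOfFiniteType (K.unop.1.subschemeι ≫ g))
  haveI : IsIntegralHom (I.subschemeι ≫ g) := inferInstance
  haveI : IsIntegralHom (show c.pt ⟶ S from I.subschemeι ≫ g) := this
  obtain ⟨K₀, hK₀⟩ := exists_isFinite_base S D t c hc hfin
    (show c.pt ⟶ S from I.subschemeι ≫ g) (fun K => Over.w ((subCone g I).π.app K))
  exact ⟨K₀.unop, fun K hK => hK₀ (op K) (homOfLE hK).op⟩

theorem isFinite_of_ge {K L : Y.IdealSheafData} (h : K ≤ L) (hK : IsFinite (K.subschemeι ≫ g)) :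
    IsFinite (L.subschemeι ≫ g) := by
  haveI : IsClosedImmersion (IdealSheafData.inclusion h) := by
    haveI : IsClosedImmersion (IdealSheafData.inclusion h ≫ K.subschemeι) := by
      rw [IdealSheafData.inclusion_subschemeι]; infer_instance
    exact IsClosedImmersion.of_comp _ K.subschemeι
  rw [show L.subschemeι ≫ g = IdealSheafData.inclusion h ≫ K.subschemeι ≫ g from
    (IdealSheafData.inclusion_subschemeι_assoc h g).symm]
  infer_instance

end Sub

/-- A finite morphism is a closed subscheme of a finite morphism of finite presentation. -/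
theorem exists_closedImmersion_finite_fp {X S : Scheme.{u}} (f : X ⟶ S) [IsFinite f]
    [CompactSpace S] [QuasiSeparatedSpace S] :
    ∃ (Y : Scheme.{u}) (g : Y ⟶ S) (j : X ⟶ Y), IsClosedImmersion j ∧ j ≫ g = f ∧ IsFinite g ∧
      LocallyOfFinitePresentation g ∧ CompactSpace Y ∧ QuasiSeparatedSpace Y := by
  haveI : CompactSpace X := QuasiCompact.compactSpace_of_compactSpace f
  haveI : QuasiSeparatedSpace X := quasiSeparatedSpace_of_quasiSeparated f
  obtain ⟨Y, g, j, hj, hjg, h1, h2, h3, h4, h5, -⟩ := exists_closedImmersion_fp f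
  have hfin : IsFinite (j.ker.subschemeι ≫ g) := by
    haveI : IsFinite (j.toImage ≫ j.ker.subschemeι ≫ g) := by
      rw [show j.toImage ≫ j.ker.subschemeι ≫ g = f from by
        rw [← Category.assoc]; exact (congrArg (· ≫ g) j.toImage_imageι).trans hjg]
      infer_instance
    exact (MorphismProperty.cancel_left_of_respectsIso @IsFinite j.toImage _).1 this
  obtain ⟨K₀, hK₀⟩ := exists_sub_isFinite g j.ker hfin
  haveI := lfp_subschemeι K₀.2.2
  refine ⟨K₀.1.subscheme, K₀.1.subschemeι ≫ g,
    IsClosedImmersion.lift K₀.1.subschemeι j (by rw [K₀.1.ker_subschemeι]; exact K₀.2.1), ?_, ?_,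
    hK₀ K₀ le_rfl, inferInstance, QuasiCompact.compactSpace_of_compactSpace K₀.1.subschemeι,
    quasiSeparatedSpace_of_quasiSeparated K₀.1.subschemeι⟩
  · haveI : IsClosedImmersion (IsClosedImmersion.lift K₀.1.subschemeι j
        (by rw [K₀.1.ker_subschemeι]; exact K₀.2.1) ≫ K₀.1.subschemeι) := by
      rw [IsClosedImmersion.lift_fac]; exact hj
    exact IsClosedImmersion.of_comp _ K₀.1.subschemeι
  · rw [IsClosedImmersion.lift_fac_assoc, hjg]

section Integral

variable {I : Type u} [Preorder I] {X S : Scheme.{u}} (D : Iᵒᵖ ⥤ Scheme.{u})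
  (t : D ⟶ (Functor.const Iᵒᵖ).obj S) (π : ∀ i, X ⟶ D.obj i)
  (hw : ∀ {i j : Iᵒᵖ} (a : i ⟶ j), π i ≫ D.map a = π j)

/-- A finitely presented closed subscheme of a stage which contains the image and is finite. -/
structure FinStage where
  /-- the stage -/
  i : I
  /-- the subscheme -/
  K : Sub (π (op i)).ker
  fin : IsFinite (K.1.subschemeι ≫ t.app (op i))

instance : Preorder (FinStage D t π) where
  le x y := ∃ h : x.i ≤ y.i, x.K.1.comap (D.map (homOfLE h).op) ≤ y.K.1
  le_refl x := ⟨le_rfl, by simp [show (homOfLE (le_refl x.i)).op = 𝟙 _ from rfl]⟩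
  le_trans x y z := by
    rintro ⟨h, e⟩ ⟨h', e'⟩
    refine ⟨h.trans h', ?_⟩
    rw [← homOfLE_comp h h', op_comp, Functor.map_comp, IdealSheafData.comap_comp]
    exact (IdealSheafData.comap_mono _ e).trans e'

theorem finStage_cond {x y : FinStage D t π} (h : x.i ≤ y.i)
    (e : x.K.1.comap (D.map (homOfLE h).op) ≤ y.K.1) :
    x.K.1.subschemeι.ker ≤ (y.K.1.subschemeι ≫ D.map (homOfLE h).op).ker := by
  rw [x.K.1.ker_subschemeι]
  have h1 : x.K.1 ≤ y.K.1.map (D.map (homOfLE h).op) := IdealSheafData.le_map_iff_comap_le.2 e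
  exact h1.trans (le_of_eq rfl)

/-- The system of finite closed subschemes. -/
noncomputable def finSystem : (FinStage D t π)ᵒᵖ ⥤ Over S where
  obj x := Over.mk (x.unop.K.1.subschemeι ≫ t.app (op x.unop.i))
  map {x y} a := Over.homMk
    (IsClosedImmersion.lift y.unop.K.1.subschemeι
      (x.unop.K.1.subschemeι ≫ D.map (homOfLE (leOfHom a.unop).1).op)
      (finStage_cond D t π (leOfHom a.unop).1 (leOfHom a.unop).2))
    (by
      show _ ≫ y.unop.K.1.subschemeι ≫ _ = _
      rw [IsClosedImmersion.lift_fac_assoc, Category.assoc]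
      exact congrArg _ ((t.naturality _).trans (Category.comp_id _)))
  map_id x := by
    ext : 1
    show IsClosedImmersion.lift _ _ _ = 𝟙 _
    rw [← cancel_mono x.unop.K.1.subschemeι, IsClosedImmersion.lift_fac, Category.id_comp]
    exact (congrArg (_ ≫ ·) (D.map_id _)).trans (Category.comp_id _)
  map_comp {x y z} a b := by
    ext : 1
    show IsClosedImmersion.lift _ _ _ = IsClosedImmersion.lift _ _ _ ≫ IsClosedImmersion.lift _ _ _
    rw [← cancel_mono z.unop.K.1.subschemeι, IsClosedImmersion.lift_fac, Category.assoc,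
      IsClosedImmersion.lift_fac, IsClosedImmersion.lift_fac_assoc, Category.assoc, ← D.map_comp]
    rfl

/-- The cone over the finite closed subschemes. -/
noncomputable def finCone {f : X ⟶ S} (hπ : ∀ i, π i ≫ t.app i = f)
    (hw' : ∀ {i j : Iᵒᵖ} (a : i ⟶ j), π i ≫ D.map a = π j) : Cone (finSystem D t π) where
  pt := Over.mk f
  π :=
    { app := fun x => Over.homMk
        (IsClosedImmersion.lift x.unop.K.1.subschemeι (π (op x.unop.i))
          (by rw [x.unop.K.1.ker_subschemeι]; exact x.unop.K.2.1))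
        (by
          show _ ≫ x.unop.K.1.subschemeι ≫ _ = f
          rw [IsClosedImmersion.lift_fac_assoc, hπ])
      naturality := fun x y a => by
        ext : 1
        show 𝟙 X ≫ IsClosedImmersion.lift _ _ _ =
          IsClosedImmersion.lift _ _ _ ≫ IsClosedImmersion.lift _ _ _
        rw [Category.id_comp, ← cancel_mono y.unop.K.1.subschemeι, IsClosedImmersion.lift_fac,
          Category.assoc, IsClosedImmersion.lift_fac, IsClosedImmersion.lift_fac_assoc]
        exact (hw' _).symm }

theorem monotone_finStage : Monotone (fun x : FinStage D t π => x.i) := fun _ _ h => h.1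

/-- The limit property of the finite closed subschemes. -/
theorem nonempty_isLimit_finCone [IsDirectedOrder (FinStage D t π)] [Nonempty (FinStage D t π)]
    {f : X ⟶ S} (hπ : ∀ i, π i ≫ t.app i = f)
    (hw' : ∀ {i j : Iᵒᵖ} (a : i ⟶ j), π i ≫ D.map a = π j)
    (hlim : IsLimit (Cone.mk X { app := π
                                 naturality := fun i j a => (Category.id_comp _).trans (hw' a).symm } : Cone D))
    (hcof : ∀ i : I, ∃ x : FinStage D t π, i ≤ x.i) :
    Nonempty (IsLimit (finCone D t π hπ hw')) := by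
  let p : (FinStage D t π)ᵒᵖ ⥤ Iᵒᵖ := (monotone_finStage D t π).functor.op
  haveI : (monotone_finStage D t π).functor.Final := by
    rw [Monotone.final_functor_iff]; exact hcof
  haveI : p.Initial := Functor.initial_op_of_final _
  let c := (Cone.mk X { app := π
                        naturality := fun i j a => (Category.id_comp _).trans (hw' a).symm } : Cone D)
  have hp : IsLimit (c.whisker p) := (Functor.Initial.isLimitWhiskerEquiv p c).symm hlim
  let toD : ∀ s : Cone (finSystem D t π), Cone (p ⋙ D) := fun s =>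
    { pt := s.pt.left
      π :=
        { app := fun x => (s.π.app x).left ≫ x.unop.K.1.subschemeι
          naturality := fun x y a => by
            refine (Category.id_comp _).trans ?_
            have h := congrArg CommaMorphism.left (s.w a)
            refine ((congrArg (· ≫ y.unop.K.1.subschemeι) h).symm).trans ?_
            show ((s.π.app x).left ≫ IsClosedImmersion.lift _ _ _) ≫ y.unop.K.1.subschemeι = _
            rw [Category.assoc, IsClosedImmersion.lift_fac, ← Category.assoc]
            rfl } }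
  have hfac : ∀ s x, hp.lift (toD s) ≫ π (op x.unop.i) =
      (s.π.app x).left ≫ x.unop.K.1.subschemeι := fun s x => hp.fac (toD s) x
  exact ⟨{
    lift := fun s => Over.homMk (hp.lift (toD s)) (by
      obtain ⟨x⟩ := ‹Nonempty (FinStage D t π)›
      show hp.lift (toD s) ≫ f = s.pt.hom
      rw [← hπ (op x.i), ← Category.assoc, hfac s (op x), Category.assoc]
      exact Over.w (s.π.app (op x)))
    fac := fun s x => by
      ext : 1
      show hp.lift (toD s) ≫ IsClosedImmersion.lift _ _ _ = _
      rw [← cancel_mono x.unop.K.1.subschemeι, Category.assoc, IsClosedImmersion.lift_fac]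
      exact hfac s x
    uniq := fun s m hm => by
      ext : 1
      refine hp.hom_ext fun x => ?_
      show m.left ≫ π (op x.unop.i) = hp.lift (toD s) ≫ π (op x.unop.i)
      rw [hfac, ← hm x]
      show _ = (m.left ≫ IsClosedImmersion.lift _ _ _) ≫ _
      rw [Category.assoc, IsClosedImmersion.lift_fac] }⟩

end Integral

/-- An integral morphism is a limit of finite morphisms of finite presentation. -/
theorem exists_finite_fp_system {X S : Scheme.{u}} (f : X ⟶ S) [IsIntegralHom f]
    [CompactSpace S] [QuasiSeparatedSpace S] :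
    ∃ (J : Type u) (_ : Preorder J) (_ : IsDirectedOrder J) (_ : Nonempty J)
      (E : Jᵒᵖ ⥤ Over S) (c : Cone E) (_ : IsLimit c),
      (∀ j, IsFinite (E.obj j).hom ∧ LocallyOfFinitePresentation (E.obj j).hom) ∧
      Nonempty (c.pt ≅ Over.mk f) := by
  haveI : CompactSpace X := QuasiCompact.compactSpace_of_compactSpace f
  haveI : QuasiSeparatedSpace X := quasiSeparatedSpace_of_quasiSeparated f
  obtain ⟨I, hI, hdir, hne, D, t, π, hw, hlim, hπ, hprops, haff, hπaff⟩ := exists_fp_system f
  haveI : ∀ (i j : Iᵒᵖ) (a : i ⟶ j), IsAffineHom (D.map a) := fun i j a => haff a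
  haveI : ∀ i, CompactSpace (D.obj i) := fun i => (hprops i).2.2.2.1
  haveI : ∀ i, QuasiSeparatedSpace (D.obj i) := fun i => (hprops i).2.2.2.2
  let c : Cone D := Cone.mk X
    { app := π
      naturality := fun i j a => (Category.id_comp _).trans (hw a).symm }
  let i₀ : Iᵒᵖ := op hne.some
  haveI : IsAffineHom (c.π.app i₀ ≫ t.app i₀) := by
    show IsAffineHom (π i₀ ≫ t.app i₀)
    rw [hπ]; infer_instance
  obtain ⟨i₁, hi₁⟩ := Groth.Agent.S9200.result S D t c hlim i₀
  have hmk : ∀ i : I, i₁.unop ≤ i → ∀ L : (D.obj (op i)).IdealSheafData, L ≤ (π (op i)).ker →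
      IsFG L → ∃ x : FinStage D t π, ∃ h : x.i = i, L.comap (D.map (eqToHom (congrArg op h))) ≤ x.K.1 := by
    intro i hi L hL hLfg
    haveI : IsAffineHom (t.app (op i)) := hi₁ (op i) (homOfLE hi).op
    haveI := (hprops (op i)).1
    haveI : QuasiCompact (π (op i)) := inferInstance
    haveI : IsIntegralHom (π (op i) ≫ t.app (op i)) := by rw [hπ]; infer_instance
    obtain ⟨K₀, hK₀⟩ := exists_sub_isFinite (S := S) (t.app (op i)) (π (op i)).ker
      (isFinite_image (π (op i)) (t.app (op i)))
    let K : Sub (π (op i)).ker := ⟨K₀.1 ⊔ L, sup_le K₀.2.1 hL, isFG_sup K₀.2.2 hLfg⟩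
    refine ⟨⟨i, K, hK₀ K (show K₀.1 ≤ K₀.1 ⊔ L from le_sup_left)⟩, rfl, ?_⟩
    simp
    exact le_sup_right
  have hge : ∀ i, ∃ i' : I, i ≤ i' ∧ i₁.unop ≤ i' := fun i => exists_ge_ge i i₁.unop
  have hcof : ∀ i : I, ∃ x : FinStage D t π, i ≤ x.i := by
    intro i
    obtain ⟨i', h, h'⟩ := hge i
    obtain ⟨x, rfl, -⟩ := hmk i' h' ⊥ bot_le isFG_bot
    exact ⟨x, h⟩
  haveI : Nonempty (FinStage D t π) := ⟨(hcof hne.some).choose⟩
  haveI : IsDirectedOrder (FinStage D t π) := ⟨fun x y => by
    obtain ⟨i, hx, hy⟩ := exists_ge_ge x.i y.i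
    obtain ⟨i', h, h'⟩ := hge i
    have key : ∀ z : FinStage D t π, ∀ hz : z.i ≤ i',
        z.K.1.comap (D.map (homOfLE hz).op) ≤ (π (op i')).ker := by
      intro z hz
      rw [← IdealSheafData.le_map_iff_comap_le]
      refine z.K.2.1.trans (le_of_eq ?_)
      rw [← hw (homOfLE hz).op]
      exact Scheme.Hom.ker_comp _ _
    obtain ⟨w, rfl, hwK⟩ := hmk i' h'
      (x.K.1.comap (D.map (homOfLE (hx.trans h)).op) ⊔ y.K.1.comap (D.map (homOfLE (hy.trans h)).op))
      (sup_le (key x _) (key y _)) (isFG_sup (isFG_comap x.K.2.2 _) (isFG_comap y.K.2.2 _))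
    simp only [eqToHom_refl, CategoryTheory.Functor.map_id, IdealSheafData.comap_id] at hwK
    exact ⟨w, ⟨hx.trans h, le_sup_left.trans hwK⟩, ⟨hy.trans h, le_sup_right.trans hwK⟩⟩⟩
  obtain ⟨hlim'⟩ := nonempty_isLimit_finCone D t π hπ hw hlim hcof
  refine ⟨FinStage D t π, inferInstance, inferInstance, inferInstance, finSystem D t π,
    finCone D t π hπ hw, hlim', fun x => ⟨x.unop.fin, ?_⟩, ⟨Iso.refl _⟩⟩
  haveI := lfp_subschemeι x.unop.K.2.2
  haveI := (hprops (op x.unop.i)).1
  exact inferInstanceAs (LocallyOfFinitePresentation (x.unop.K.1.subschemeι ≫ t.app (op x.unop.i)))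

end Groth.Agent.AlgGlue
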