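import Groth.Agent.AlgGlue.FTZ
import Mathlib.AlgebraicGeometry.Morphisms.QuasiSeparated

/-!
# Extending an affine model of a quasi-compact open of an affine scheme
-/

universe u

set_option autoImplicit false
set_option backward.isDefEq.respectTransparency false
set_option backward.isDefEq.respectTransparency.types false
set_option linter.style.haveILetI false
set_option linter.unusedSectionVars false

open CategoryTheory CategoryTheory.Limits AlgebraicGeometry TopologicalSpace Opposite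

namespace Groth.Agent.AlgGlue

section Qcqs

variable {W : Scheme.{u}} [CompactSpace W] [QuasiSeparatedSpace W] (s : Γ(W, ⊤)) {O : W.Opens}

theorem exists_pow_eq_of_restrict_eq (hO : O = W.basicOpen s) {x y : Γ(W, ⊤)}
    (h : W.presheaf.map (homOfLE le_top).op x = (W.presheaf.map (homOfLE le_top).op y : Γ(W, O))) :
    ∃ l : ℕ, s ^ l * x = s ^ l * y := by
  subst hO
  letI := (W.presheaf.map (homOfLE (le_top : W.basicOpen s ≤ ⊤)).op).hom.toAlgebra
  haveI : IsLocalization.Away s Γ(W, W.basicOpen s) :=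
    isLocalization_basicOpen_of_qcqs isCompact_univ isQuasiSeparated_univ s
  obtain ⟨⟨_, l, rfl⟩, hl⟩ := IsLocalization.exists_of_eq (M := Submonoid.powers s) h
  exact ⟨l, hl⟩

theorem exists_restrict_eq_mul_pow (hO : O = W.basicOpen s) (z : Γ(W, O)) :
    ∃ (n : ℕ) (x : Γ(W, ⊤)), W.presheaf.map (homOfLE le_top).op x =
      z * W.presheaf.map (homOfLE le_top).op s ^ n := by
  subst hO
  letI := (W.presheaf.map (homOfLE (le_top : W.basicOpen s ≤ ⊤)).op).hom.toAlgebra
  haveI : IsLocalization.Away s Γ(W, W.basicOpen s) :=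
    isLocalization_basicOpen_of_qcqs isCompact_univ isQuasiSeparated_univ s
  obtain ⟨⟨x, ⟨_, n, rfl⟩⟩, hx⟩ := IsLocalization.surj (Submonoid.powers s) z
  refine ⟨n, x, ?_⟩
  rw [map_pow] at hx
  exact hx.symm

end Qcqs

/-- A function on `X` multiplied by a power of a basic function extends to the affine scheme `V`. -/
theorem exists_extend {W V : Scheme.{u}} [IsAffine V] (j : W ⟶ V) [IsOpenImmersion j]
    [CompactSpace W] (r : Γ(V, ⊤)) (hr : V.basicOpen r ≤ j.opensRange) (x : Γ(W, ⊤)) :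
    ∃ (M : ℕ) (v : Γ(V, ⊤)), j.appTop v = x * j.appTop r ^ M := by
  haveI : QuasiSeparatedSpace W := QuasiSeparatedSpace.of_isOpenEmbedding j.isOpenEmbedding
  let D := V.basicOpen r
  have hD : j ⁻¹ᵁ D = W.basicOpen (j.appTop r) := Scheme.preimage_basicOpen_top j r
  haveI : IsIso (j.app D) := j.isIso_app D hr
  obtain ⟨u, hu⟩ := (ConcreteCategory.bijective_of_isIso (j.app D)).2
    (W.presheaf.map (homOfLE le_top).op x)
  obtain ⟨m, v', hv'⟩ := exists_restrict_eq_mul_pow r (O := D) rfl u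
  have key : ∀ a : Γ(V, ⊤), j.app D (V.presheaf.map (homOfLE le_top).op a) =
      W.presheaf.map (homOfLE le_top).op (j.appTop a) := fun a =>
    congr($(j.naturality (homOfLE (le_top : D ≤ ⊤)).op).hom a)
  have h2 := congrArg (j.app D) hv'
  rw [map_mul, map_pow, key, key, hu, ← map_pow, ← map_mul] at h2
  obtain ⟨l, hl⟩ := exists_pow_eq_of_restrict_eq (j.appTop r) hD h2
  refine ⟨m + l, r ^ l * v', ?_⟩
  rw [map_mul, map_pow, hl, pow_add]
  ring

/-- A morphism to an affine scheme which is an isomorphism over a basic open. -/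
theorem isIso_restrict_basicOpen_top {X Y : Scheme.{u}} [IsAffine Y] [CompactSpace X]
    [QuasiSeparatedSpace X] (q : X ⟶ Y) (t : Γ(Y, ⊤)) (haff : IsAffineOpen (q ⁻¹ᵁ Y.basicOpen t))
    (hinj : ∀ c : Γ(Y, ⊤), q.appTop c = 0 → ∃ m : ℕ, t ^ m * c = 0)
    (hsurj : ∃ G : Set Γ(X, q ⁻¹ᵁ Y.basicOpen t), Subring.closure G = ⊤ ∧
      ∀ z ∈ G, ∃ (n : ℕ) (c : Γ(Y, ⊤)), X.presheaf.map (homOfLE le_top).op (q.appTop c) =
        z * X.presheaf.map (homOfLE le_top).op (q.appTop t) ^ n) :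
    IsIso (q ∣_ Y.basicOpen t) := by
  let D := Y.basicOpen t
  haveI : IsAffine (D : Scheme.{u}) := (isAffineOpen_top Y).basicOpen t
  haveI : IsAffine (q ⁻¹ᵁ D : Scheme.{u}) := haff
  suffices h : IsIso (q.app D) by
    refine (HasAffineProperty.iff_of_isAffine (P := MorphismProperty.isomorphisms Scheme)).mpr
      ⟨inferInstance, ?_⟩
    rw [morphismRestrict_appTop]
    haveI : IsIso (q.app (D.ι ''ᵁ ⊤)) := (Scheme.Opens.ι_image_top _).symm ▸ h
    infer_instance
  rw [ConcreteCategory.isIso_iff_bijective]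
  have key : ∀ a : Γ(Y, ⊤), q.app D (Y.presheaf.map (homOfLE le_top).op a) =
      X.presheaf.map (homOfLE le_top).op (q.appTop a) := fun a =>
    congr($(q.naturality (homOfLE (le_top : D ≤ ⊤)).op).hom a)
  have hut : IsUnit (Y.presheaf.map (homOfLE (le_top : D ≤ ⊤)).op t) :=
    Y.toRingedSpace.isUnit_res_basicOpen t
  refine ⟨(injective_iff_map_eq_zero _).mpr fun z hz => ?_, ?_⟩
  · obtain ⟨n, c, hc⟩ := exists_restrict_eq_mul_pow t (O := D) rfl z
    have h0 := congrArg (q.app D) hc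
    rw [map_mul, hz, zero_mul, key] at h0
    have hpre : q ⁻¹ᵁ D = X.basicOpen (q.appTop t) := Scheme.preimage_basicOpen_top q t
    obtain ⟨l, hl⟩ := exists_pow_eq_of_restrict_eq (q.appTop t) hpre (y := 0)
      (h0.trans (map_zero _).symm)
    rw [mul_zero] at hl
    obtain ⟨m, hm⟩ := hinj (t ^ l * c) (by rw [map_mul, map_pow, hl])
    have h1 := congrArg (Y.presheaf.map (homOfLE (le_top : D ≤ ⊤)).op) hm
    rw [map_mul, map_mul, map_pow, map_pow, map_zero, hc] at h1
    rwa [(hut.pow m).mul_right_eq_zero, (hut.pow l).mul_right_eq_zero,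
      (hut.pow n).mul_left_eq_zero] at h1
  · obtain ⟨G, hG, hgen⟩ := hsurj
    have h3 : (⊤ : Subring Γ(X, q ⁻¹ᵁ D)) ≤ (q.app D).hom.range := by
      rw [← hG, Subring.closure_le]
      intro z hz
      obtain ⟨n, c, hc⟩ := hgen z hz
      obtain ⟨w, hw⟩ := hut.pow n
      refine ⟨(Y.presheaf.map (homOfLE le_top).op c : Γ(Y, D)) * ((w⁻¹ : Γ(Y, D)ˣ) : Γ(Y, D)), ?_⟩
      have h4 : q.app D (Y.presheaf.map (homOfLE le_top).op c) =
          z * q.app D ↑w := by rw [hw, map_pow, key, key, hc]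
      change q.app D _ = z
      rw [map_mul, h4, mul_assoc, ← map_mul, Units.mul_inv, map_one, mul_one]
    exact fun z => h3 trivial

theorem restrict_mul_pow_eq {Z : Scheme.{u}} {O O' : Z.Opens} (h : O' = O) {num : ℕ}
    {c t : Γ(Z, ⊤)} {z : Γ(Z, O)} (hc : Z.presheaf.map (homOfLE le_top).op c =
      z * Z.presheaf.map (homOfLE le_top).op t ^ num) (M : ℕ) :
    Z.presheaf.map (homOfLE (le_top : O' ≤ ⊤)).op (c * t ^ M) =
      Z.presheaf.map (eqToHom h).op z *
        Z.presheaf.map (homOfLE (le_top : O' ≤ ⊤)).op t ^ (num + M) := by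
  subst h
  rw [map_mul, map_pow, hc, eqToHom_refl, op_id, CategoryTheory.Functor.map_id, pow_add,
    mul_assoc]
  rfl

/-- A morphism landing in a union of opens over each of which it is an isomorphism. -/
theorem isOpenImmersion_of_isIso_restrict {X Y : Scheme.{u}} (q : X ⟶ Y) {κ : Type u}
    (D : κ → Y.Opens) (htop : q ⁻¹ᵁ (⨆ k, D k) = ⊤) (h : ∀ k, IsIso (q ∣_ D k)) :
    IsOpenImmersion q := by
  haveI : IsIso (q ∣_ ⨆ k, D k) := by
    refine IsZariskiLocalAtTarget.of_iSup_eq_top (P := MorphismProperty.isomorphisms Scheme.{u})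
      (fun k => (⨆ k, D k).ι ⁻¹ᵁ D k) ?_ fun k => ?_
    · refine top_le_iff.1 fun y _ => ?_
      obtain ⟨k, hk⟩ := Opens.mem_iSup.1 y.2
      exact Opens.mem_iSup.2 ⟨k, hk⟩
    · refine ((MorphismProperty.isomorphisms Scheme.{u}).arrow_mk_iso_iff
        (morphismRestrictRestrict q (⨆ k, D k) _ ≪≫ morphismRestrictEq q ?_)).2 (h k)
      rw [Scheme.Hom.image_preimage_eq_opensRange_inf, Scheme.Opens.opensRange_ι, inf_eq_right]
      exact le_iSup D k
  have hfac : q = (X.topIso.inv ≫ (X.isoOfEq htop).inv) ≫ (q ∣_ ⨆ k, D k) ≫ (⨆ k, D k).ι := by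
    rw [morphismRestrict_ι, Category.assoc, Scheme.isoOfEq_inv_ι_assoc, ← Category.assoc]
    simp
  rw [hfac]
  infer_instance

theorem closure_image_eq_top {R R' : Type*} [CommRing R] [CommRing R'] (e : R →+* R')
    (he : Function.Surjective e) {G : Set R} (hG : Subring.closure G = ⊤) :
    Subring.closure (e '' G) = ⊤ := by
  rw [← RingHom.map_closure, hG, ← RingHom.range_eq_map, RingHom.range_eq_top]
  exact he

set_option maxHeartbeats 800000 in
/-- An affine morphism from an open of an affine scheme to a scheme of finite type over the integers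
extends, given enough functions. -/
theorem exists_affine_extension {W V W₀ : Scheme.{u}} [IsAffine V] (j : W ⟶ V) [IsOpenImmersion j]
    [CompactSpace W] (a : W ⟶ W₀) (hW₀ : FTZ W₀) {κ : Type u} [Finite κ] (r : κ → Γ(V, ⊤))
    (r' : κ → Γ(W₀, ⊤)) (hrr : ∀ k, a.appTop (r' k) = j.appTop (r k))
    (hr : ∀ k, V.basicOpen (r k) ≤ j.opensRange) (hcov : ⨆ k, W₀.basicOpen (r' k) = ⊤)
    (haff : ∀ k, IsAffineOpen (W₀.basicOpen (r' k))) :
    ∃ (P : Scheme.{u}) (β : W₀ ⟶ P) (γ : V ⟶ P), IsAffine P ∧ FTZ P ∧ IsOpenImmersion β ∧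
      a ≫ β = j ≫ γ ∧ γ ⁻¹' Set.range β ⊆ Set.range j := by
  classical
  haveI := hW₀.compactSpace
  haveI := hW₀.quasiSeparatedSpace
  choose G hGfin hGgen using fun k => hW₀.exists_gens (haff k)
  choose num nm hnum using fun k (z : Γ(W₀, W₀.basicOpen (r' k))) => 
    exists_restrict_eq_mul_pow (r' k) (O := W₀.basicOpen (r' k)) rfl z
  choose M v hv using fun k (z : Γ(W₀, W₀.basicOpen (r' k))) =>
    exists_extend j (r k) (hr k) (a.appTop (nm k z))
  let E : Set (Γ(W₀, ⊤) × Γ(V, ⊤)) := Set.range (fun k => (r' k, r k)) ∪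
    ⋃ k, (fun z => (nm k z * r' k ^ M k z, v k z)) '' G k
  have hE : E.Finite :=
    (Set.finite_range _).union (Set.finite_iUnion fun k => (hGfin k).image _)
  let A := Subring.closure E
  have hA : A ≤ ((a.appTop).hom.comp (RingHom.fst _ _)).eqLocus
      ((j.appTop).hom.comp (RingHom.snd _ _)) := by
    refine Subring.closure_le.mpr ?_
    rintro p (⟨k, rfl⟩ | hp)
    · exact hrr k
    · obtain ⟨k, z, -, rfl⟩ := Set.mem_iUnion.1 hp
      show a.appTop (nm k z * r' k ^ M k z) = j.appTop (v k z)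
      rw [hv, map_mul, map_pow, hrr]
  haveI : Algebra.FiniteType ℤ A := by
    refine ⟨⟨(hE.preimage (f := (Subtype.val : A → _)) Subtype.val_injective.injOn).toFinset,
      eq_top_iff.mpr fun z _ => ?_⟩⟩
    rw [Set.Finite.coe_toFinset]
    suffices H : ∀ x (hx : x ∈ A),
        (⟨x, hx⟩ : A) ∈ Algebra.adjoin ℤ (Subtype.val ⁻¹' E : Set A) from H z.1 z.2
    intro x hx
    induction hx using Subring.closure_induction with
    | mem x hx => exact Algebra.subset_adjoin hx
    | zero => exact zero_mem _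
    | one => exact one_mem _
    | add x y _ _ hx hy => exact add_mem hx hy
    | neg x _ hx => exact neg_mem hx
    | mul x y _ _ hx hy => exact mul_mem hx hy
  let π₁ : CommRingCat.of A ⟶ Γ(W₀, ⊤) :=
    CommRingCat.ofHom ((RingHom.fst Γ(W₀, ⊤) Γ(V, ⊤)).comp A.subtype)
  let π₂ : CommRingCat.of A ⟶ Γ(V, ⊤) :=
    CommRingCat.ofHom ((RingHom.snd Γ(W₀, ⊤) Γ(V, ⊤)).comp A.subtype)
  let P : Scheme.{u} := Spec (CommRingCat.of A)
  let β : W₀ ⟶ P := W₀.toSpecΓ ≫ Spec.map π₁
  let γ : V ⟶ P := V.toSpecΓ ≫ Spec.map π₂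
  let ιA := (Scheme.ΓSpecIso (CommRingCat.of A)).inv
  have happ : ∀ {Z : Scheme.{u}} (φ : CommRingCat.of A ⟶ Γ(Z, ⊤)) (p : A),
      (Z.toSpecΓ ≫ Spec.map φ).appTop (ιA p) = φ p := fun {Z} φ p => by
    rw [Scheme.Hom.comp_appTop, Scheme.toSpecΓ_appTop, ← ConcreteCategory.comp_apply]
    simp only [ιA]
    rw [← Scheme.ΓSpecIso_inv_naturality_assoc, Iso.inv_hom_id, Category.comp_id]
  let t : κ → A := fun k => ⟨(r' k, r k), Subring.subset_closure (.inl ⟨k, rfl⟩)⟩
  have hβt : ∀ k, β.appTop (ιA (t k)) = r' k := fun k => happ π₁ _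
  have hγt : ∀ k, γ.appTop (ιA (t k)) = r k := fun k => happ π₂ _
  let O : P.Opens := ⨆ k, P.basicOpen (ιA (t k))
  have hβpre : ∀ k, β ⁻¹ᵁ P.basicOpen (ιA (t k)) = W₀.basicOpen (r' k) := fun k => by
    rw [Scheme.preimage_basicOpen_top, hβt]
  have hβO : β ⁻¹ᵁ O = ⊤ := by
    simp only [O, Scheme.Hom.preimage_iSup, hβpre, hcov]
  haveI : QuasiSeparatedSpace W := QuasiSeparatedSpace.of_isOpenEmbedding j.isOpenEmbedding
  have hiso : ∀ k, IsIso (β ∣_ P.basicOpen (ιA (t k))) := by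
    intro k
    refine isIso_restrict_basicOpen_top β _ (by rw [hβpre]; exact haff k) ?_ ?_
    · intro c hc
      obtain ⟨⟨⟨c₁, c₂⟩, hcA⟩, rfl⟩ := (ConcreteCategory.bijective_of_isIso ιA).2 c
      have hc1 : c₁ = 0 := (happ π₁ ⟨(c₁, c₂), hcA⟩).symm.trans hc
      have hc2 : j.appTop c₂ = 0 := by
        have := hA hcA
        change a.appTop c₁ = j.appTop c₂ at this
        rw [hc1, map_zero] at this
        exact this.symm
      -- `c₂` vanishes on the basic open of `r k`
      haveI : IsIso (j.app (V.basicOpen (r k))) := j.isIso_app _ (hr k)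
      have hz : V.presheaf.map (homOfLE (le_top : V.basicOpen (r k) ≤ ⊤)).op c₂ = 0 := by
        apply (ConcreteCategory.bijective_of_isIso (j.app (V.basicOpen (r k)))).1
        rw [map_zero]
        have := congr($(j.naturality (homOfLE (le_top : V.basicOpen (r k) ≤ ⊤)).op).hom c₂)
        refine this.trans ?_
        show W.presheaf.map _ (j.appTop c₂) = 0
        rw [hc2, map_zero]
      obtain ⟨m, hm⟩ := exists_pow_eq_of_restrict_eq (r k) rfl (y := 0) (hz.trans (map_zero _).symm)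
      refine ⟨m, ?_⟩
      rw [← map_pow, ← map_mul]
      refine (congrArg ιA (Subtype.ext ?_)).trans (map_zero _)
      show (r' k ^ m * c₁, r k ^ m * c₂) = (0 : Γ(W₀, ⊤) × Γ(V, ⊤))
      rw [hc1, mul_zero, hm, mul_zero]
      rfl
    · let e := W₀.presheaf.map (eqToHom (hβpre k)).op
      refine ⟨e '' G k, ?_, ?_⟩
      · exact closure_image_eq_top e.hom (ConcreteCategory.bijective_of_isIso e).2 (hGgen k)
      · rintro _ ⟨z, hz, rfl⟩
        let p : A := ⟨(nm k z * r' k ^ M k z, v k z),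
          Subring.subset_closure (.inr (Set.mem_iUnion.2 ⟨k, z, hz, rfl⟩))⟩
        refine ⟨num k z + M k z, ιA p, ?_⟩
        have hp : β.appTop (ιA p) = nm k z * r' k ^ M k z := happ π₁ p
        rw [hp, hβt]
        exact restrict_mul_pow_eq (hβpre k) (hnum k z) (M k z)
  haveI : IsOpenImmersion β :=
    isOpenImmersion_of_isIso_restrict β (fun k => P.basicOpen (ιA (t k))) hβO hiso
  refine ⟨P, β, γ, inferInstanceAs (IsAffine (Spec _)), FTZ.ofSpec, inferInstance, ?_, ?_⟩
  · show a ≫ W₀.toSpecΓ ≫ Spec.map π₁ = j ≫ V.toSpecΓ ≫ Spec.map π₂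
    rw [Scheme.toSpecΓ_naturality_assoc, Scheme.toSpecΓ_naturality_assoc, ← Spec.map_comp,
      ← Spec.map_comp]
    congr 2
    ext p
    exact hA p.2
  · intro x hx
    obtain ⟨w, hw⟩ := hx
    have hxO : γ x ∈ O := by
      rw [← hw]
      exact hβO.ge (Set.mem_univ w)
    obtain ⟨k, hk⟩ := Opens.mem_iSup.1 hxO
    have : x ∈ γ ⁻¹ᵁ P.basicOpen (ιA (t k)) := hk
    rw [Scheme.preimage_basicOpen_top, hγt] at this
    exact hr k this

end Groth.Agent.AlgGlue
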