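import Groth.Agent.AlgGlue.Approx
import Groth.Agent.AlgGlue.AffExt

/-!
# Absolute Noetherian approximation
-/

universe u

set_option autoImplicit false
set_option backward.isDefEq.respectTransparency false
set_option backward.isDefEq.respectTransparency.types false
set_option linter.style.haveILetI false
set_option linter.unusedSectionVars false

open CategoryTheory CategoryTheory.Limits AlgebraicGeometry TopologicalSpace Opposite

namespace Groth.Agent.AlgGlue

section Stage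

variable {I : Type u} [SmallCategory I] [IsCofiltered I] (D : I ⥤ Scheme.{u}) (c : Cone D)
  (hc : IsLimit c) [∀ {i j : I} (a : i ⟶ j), IsAffineHom (D.map a)] (hD : ∀ i, FTZ (D.obj i))

include hc hD in
theorem exists_isAffineOpen_stage (i : I) (U : (D.obj i).Opens)
    (h : IsAffineOpen (c.π.app i ⁻¹ᵁ U)) :
    ∃ (j : I) (a : j ⟶ i), IsAffineOpen (D.map a ⁻¹ᵁ U) := by
  haveI : ∀ j : Over i, CompactSpace ((opensDiagram D i U).obj j) := fun j =>
    ((hD j.left).opens _).compactSpace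
  haveI : ∀ j : Over i, QuasiSeparatedSpace ((opensDiagram D i U).obj j) := fun j =>
    ((hD j.left).opens _).quasiSeparatedSpace
  haveI : IsAffine (opensCone D c i U).pt := h
  obtain ⟨j, hj⟩ := Scheme.exists_isAffine_of_isLimit _ _ (isLimitOpensCone D c hc i U)
  exact ⟨j.left, j.hom, hj⟩

include hD in
/-- An open of an affine scheme which is open in a limit has an affine model at a stage. -/
theorem exists_stage_extension {W V : Scheme.{u}} [IsAffine V] (j : W ⟶ V) [IsOpenImmersion j]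
    [CompactSpace W] {κ : Type u} [Finite κ] (r : κ → Γ(V, ⊤))
    (hrle : ∀ k, V.basicOpen (r k) ≤ j.opensRange) (hrcov : ⨆ k, j ⁻¹ᵁ V.basicOpen (r k) = ⊤)
    (π : ∀ i, W ⟶ D.obj i) (hπ : ∀ {i i' : I} (a : i ⟶ i'), π i ≫ D.map a = π i')
    (hlim : IsLimit (Cone.mk W
      { app := π
        naturality := fun i i' a => (Category.id_comp _).trans (hπ a).symm } : Cone D)) :
    ∃ (i : I) (P : Scheme.{u}) (β : D.obj i ⟶ P) (γ : V ⟶ P),
      IsAffine P ∧ FTZ P ∧ IsOpenImmersion β ∧ π i ≫ β = j ≫ γ ∧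
        γ ⁻¹' Set.range β ⊆ Set.range j := by
  classical
  haveI : ∀ i, CompactSpace (D.obj i) := fun i => (hD i).compactSpace
  haveI : ∀ i, QuasiSeparatedSpace (D.obj i) := fun i => (hD i).quasiSeparatedSpace
  let cW : Cone D := Cone.mk W
    { app := π
      naturality := fun i i' a => (Category.id_comp _).trans (hπ a).symm }
  choose q t ht using fun k => exists_appTop_π_eq_of_isLimit D cW hlim (j.appTop (r k))
  obtain ⟨i₀, hi₀⟩ := IsCofiltered.inf_objs_exists
    ((Set.finite_range q).toFinset : Finset I)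
  have b : ∀ k, i₀ ⟶ q k := fun k => (hi₀ ((Set.finite_range q).mem_toFinset.mpr ⟨k, rfl⟩)).some
  let r₀ : ∀ k, Γ(D.obj i₀, ⊤) := fun k => (D.map (b k)).appTop (t k)
  have hr₀ : ∀ k, (π i₀).appTop (r₀ k) = j.appTop (r k) := fun k => by
    rw [ht k]
    show (π i₀).appTop ((D.map (b k)).appTop (t k)) = (π (q k)).appTop (t k)
    rw [← hπ (b k)]
    rfl
  have hpre : ∀ k, π i₀ ⁻¹ᵁ (D.obj i₀).basicOpen (r₀ k) = j ⁻¹ᵁ V.basicOpen (r k) := fun k => by
    rw [Scheme.preimage_basicOpen_top, Scheme.preimage_basicOpen_top, hr₀]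
  obtain ⟨i₁, a₁, ha₁⟩ := exists_map_eq_top D cW hlim
    (⨆ k, (D.obj i₀).basicOpen (r₀ k)) (by
      show π i₀ ⁻¹ᵁ _ = ⊤
      simp only [Scheme.Hom.preimage_iSup, hpre, hrcov])
  choose qk ak hak using fun k => exists_isAffineOpen_stage D cW hlim hD i₁
    (D.map a₁ ⁻¹ᵁ (D.obj i₀).basicOpen (r₀ k)) (by
      show IsAffineOpen (π i₁ ⁻¹ᵁ _)
      rw [← Scheme.Hom.comp_preimage, hπ, hpre]
      exact ((isAffineOpen_top V).basicOpen (r k)).preimage_of_isOpenImmersion j
        (hrle k))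
  haveI := Fintype.ofFinite κ
  obtain ⟨i, hi, hS⟩ := IsCofiltered.inf_exists
    (insert i₁ ((Set.finite_range qk).toFinset))
    (Finset.univ.image fun k => ⟨qk k, i₁,
      Finset.mem_insert_of_mem ((Set.finite_range qk).mem_toFinset.mpr ⟨k, rfl⟩),
      Finset.mem_insert_self _ _, ak k⟩)
  let m : i ⟶ i₁ := hi (Finset.mem_insert_self _ _)
  let r' : ∀ k, Γ(D.obj i, ⊤) := fun k => (D.map (m ≫ a₁)).appTop (r₀ k)
  have hb : ∀ k, (D.obj i).basicOpen (r' k) =
      D.map (m ≫ a₁) ⁻¹ᵁ (D.obj i₀).basicOpen (r₀ k) := fun k =>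
    (Scheme.preimage_basicOpen_top _ _).symm
  obtain ⟨P, β, γ, h1, h2, h3, h4, h5⟩ := exists_affine_extension j (π i) (hD i) r r'
    (fun k => by
      rw [← hr₀, ← hπ (m ≫ a₁)]
      rfl)
    hrle
    (by
      simp only [hb, D.map_comp, Scheme.Hom.comp_preimage]
      rw [← Scheme.Hom.preimage_iSup, ← Scheme.Hom.preimage_iSup, ha₁, Scheme.Hom.preimage_top])
    (fun k => by
      rw [hb, D.map_comp, Scheme.Hom.comp_preimage]
      have e : hi (Finset.mem_insert_of_mem ((Set.finite_range qk).mem_toFinset.mpr ⟨k, rfl⟩)) ≫ ak k = m :=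
        hS _ _ (Finset.mem_image.mpr ⟨k, Finset.mem_univ _, rfl⟩)
      rw [← e, D.map_comp, Scheme.Hom.comp_preimage]
      exact (hak k).preimage _)
  exact ⟨i, P, β, γ, h1, h2, h3, h4, h5⟩

end Stage

/-- Morphisms on two opens which agree on the intersection glue. -/
theorem exists_glue_two {X T : Scheme.{u}} (U V : X.Opens) (hUV : U ⊔ V = ⊤) (a : (U : Scheme.{u}) ⟶ T)
    (b : (V : Scheme.{u}) ⟶ T)
    (h : X.homOfLE (inf_le_left : U ⊓ V ≤ U) ≫ a = X.homOfLE (inf_le_right : U ⊓ V ≤ V) ≫ b) :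
    ∃ g : X ⟶ T, U.ι ≫ g = a ∧ V.ι ≫ g = b := by
  let F : ULift.{u} Bool → X.Opens := fun i => if i.down then U else V
  have hF : IsOpenCover F := by
    refine top_le_iff.1 (hUV.ge.trans (sup_le ?_ ?_))
    · exact le_iSup F ⟨true⟩
    · exact le_iSup F ⟨false⟩
  let f : ∀ i, (F i : Scheme.{u}) ⟶ T
    | ⟨true⟩ => a
    | ⟨false⟩ => b
  have key : ∀ {Z : Scheme.{u}} (p : Z ⟶ U) (q : Z ⟶ V), p ≫ U.ι = q ≫ V.ι → p ≫ a = q ≫ b := by
    intro Z p q hpq
    have hr : Set.range (p ≫ U.ι) ⊆ Set.range (U ⊓ V : X.Opens).ι := by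
      rintro _ ⟨z, rfl⟩
      rw [Scheme.Opens.range_ι]
      exact ⟨(p z).2, by rw [hpq]; exact (q z).2⟩
    let l := IsOpenImmersion.lift (U ⊓ V : X.Opens).ι (p ≫ U.ι) hr
    have hp : p = l ≫ X.homOfLE inf_le_left := by
      rw [← cancel_mono U.ι, Category.assoc, Scheme.homOfLE_ι, IsOpenImmersion.lift_fac]
    have hq : q = l ≫ X.homOfLE inf_le_right := by
      rw [← cancel_mono V.ι, Category.assoc, Scheme.homOfLE_ι, IsOpenImmersion.lift_fac, hpq]
    rw [hp, hq, Category.assoc, Category.assoc, h]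
  let 𝒰 := X.openCoverOfIsOpenCover F hF
  have hf : ∀ x y, pullback.fst (𝒰.f x) (𝒰.f y) ≫ f x = pullback.snd _ _ ≫ f y := by
    rintro ⟨_ | _⟩ ⟨_ | _⟩
    · have : pullback.fst (𝒰.f ⟨false⟩) (𝒰.f ⟨false⟩) = pullback.snd _ _ := by
        rw [← cancel_mono (𝒰.f ⟨false⟩)]; exact pullback.condition
      rw [this]
    · exact (key _ _ pullback.condition.symm).symm
    · exact key _ _ pullback.condition
    · have : pullback.fst (𝒰.f ⟨true⟩) (𝒰.f ⟨true⟩) = pullback.snd _ _ := by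
        rw [← cancel_mono (𝒰.f ⟨true⟩)]; exact pullback.condition
      rw [this]
  exact ⟨𝒰.glueMorphisms f hf, 𝒰.ι_glueMorphisms f hf ⟨true⟩, 𝒰.ι_glueMorphisms f hf ⟨false⟩⟩

/-- A scheme with an affine morphism to a scheme of finite type over the integers. -/
def Approximable (X : Scheme.{u}) : Prop :=
  ∃ (T : Scheme.{u}) (g : X ⟶ T), IsAffineHom g ∧ FTZ T

theorem Approximable.of_isAffine (X : Scheme.{u}) [IsAffine X] : Approximable X :=
  ⟨_, specULiftZIsTerminal.from X, inferInstance, FTZ.specInt⟩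

theorem Approximable.of_iso {X X' : Scheme.{u}} (e : X' ⟶ X) [IsIso e] (h : Approximable X) :
    Approximable X' := by
  obtain ⟨T, g, hg, hT⟩ := h
  exact ⟨T, e ≫ g, inferInstance, hT⟩

/-- Gluing two affine morphisms to schemes of finite type over the integers. -/
theorem approximable_pushout {X : Scheme.{u}} (U V : X.Opens) (hUV : U ⊔ V = ⊤)
    {T P O : Scheme.{u}} (hT : FTZ T) (hP : FTZ P) (ι : O ⟶ T) [IsOpenImmersion ι] (β : O ⟶ P)
    [IsOpenImmersion β] (a : (U : Scheme.{u}) ⟶ T) [IsAffineHom a] (γ : (V : Scheme.{u}) ⟶ P)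
    [IsAffineHom γ] (w : ((U ⊓ V : X.Opens) : Scheme.{u}) ⟶ O)
    (h1 : w ≫ ι = X.homOfLE inf_le_left ≫ a) (h2 : w ≫ β = X.homOfLE inf_le_right ≫ γ)
    (h3 : ∀ x : U, a x ∈ Set.range ι → x.1 ∈ V) (h4 : ∀ x : V, γ x ∈ Set.range β → x.1 ∈ U) :
    Approximable X := by
  let inl : T ⟶ pushout ι β := pushout.inl ι β
  let inr : P ⟶ pushout ι β := pushout.inr ι β
  haveI : IsOpenImmersion inl :=
    inferInstanceAs (IsOpenImmersion (colimit.ι (span ι β) WalkingSpan.left))
  haveI : IsOpenImmersion inr :=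
    inferInstanceAs (IsOpenImmersion (colimit.ι (span ι β) WalkingSpan.right))
  have hcov : ∀ z : ↥(pushout ι β), z ∈ Set.range inl ∨ z ∈ Set.range inr := by
    intro z
    obtain ⟨i, x, rfl⟩ := Scheme.IsLocallyDirected.ι_jointly_surjective (span ι β) z
    rcases i with _ | _ | _
    · left
      exact ⟨ι x, by
        rw [← Scheme.Hom.comp_apply, ← colimit.w (span ι β) WalkingSpan.Hom.fst]; rfl⟩
    · exact .inl ⟨x, rfl⟩
    · exact .inr ⟨x, rfl⟩
  have hover : ∀ (x : T) (y : P), inl x = inr y → x ∈ Set.range ι ∧ y ∈ Set.range β := by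
    intro x y hxy
    obtain ⟨k, fi, fj, z, hzx, hzy⟩ :=
      (Scheme.IsLocallyDirected.ι_eq_ι_iff (F := span ι β) (i := WalkingSpan.left)
        (j := WalkingSpan.right)).1 hxy
    rcases k with _ | _ | _
    · obtain rfl : fi = WalkingSpan.Hom.fst := Subsingleton.elim _ _
      obtain rfl : fj = WalkingSpan.Hom.snd := Subsingleton.elim _ _
      exact ⟨⟨z, hzx⟩, ⟨z, hzy⟩⟩
    · change WidePushoutShape.Hom _ _ at fj
      exact nomatch fj
    · change WidePushoutShape.Hom _ _ at fi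
      exact nomatch fi
  have hw : X.homOfLE (inf_le_left : U ⊓ V ≤ U) ≫ a ≫ inl =
      X.homOfLE (inf_le_right : U ⊓ V ≤ V) ≫ γ ≫ inr := by
    rw [← reassoc_of% h1, ← reassoc_of% h2, pushout.condition]
  obtain ⟨g, hgU, hgV⟩ := exists_glue_two U V hUV (a ≫ inl) (γ ≫ inr) hw
  have hcov' : inl.opensRange ⊔ inr.opensRange = ⊤ := top_le_iff.1 fun z _ => hcov z
  have hgU' : ∀ x : U, g x.1 = inl (a x) := fun x => congr($(hgU) x)
  have hgV' : ∀ x : V, g x.1 = inr (γ x) := fun x => congr($(hgV) x)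
  have pU : g ⁻¹ᵁ inl.opensRange = U.ι.opensRange := by
    rw [Scheme.Opens.opensRange_ι]
    refine le_antisymm ?_ fun x hx => ⟨a ⟨x, hx⟩, (hgU' ⟨x, hx⟩).symm⟩
    rintro x ⟨y, hy⟩
    rcases hUV.ge (show x ∈ (⊤ : X.Opens) from trivial) with hx | hx
    · exact hx
    · exact h4 ⟨x, hx⟩ (hover y _ (hy.trans (hgV' ⟨x, hx⟩))).2
  have pV : g ⁻¹ᵁ inr.opensRange = V.ι.opensRange := by
    rw [Scheme.Opens.opensRange_ι]
    refine le_antisymm ?_ fun x hx => ⟨γ ⟨x, hx⟩, (hgV' ⟨x, hx⟩).symm⟩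
    rintro x ⟨y, hy⟩
    rcases hUV.ge (show x ∈ (⊤ : X.Opens) from trivial) with hx | hx
    · exact h3 ⟨x, hx⟩ (hover _ y ((hgU' ⟨x, hx⟩).symm.trans hy.symm)).1
    · exact hx
  have hl : IsAffineHom (g ∣_ inl.opensRange) := by
    rw [MorphismProperty.arrow_mk_iso_iff @IsAffineHom (morphismRestrictOpensRange g inl),
      ← MorphismProperty.cancel_left_of_respectsIso @IsAffineHom
        (IsOpenImmersion.isPullback a U.ι inl g hgU pU).flip.isoPullback.hom,
      IsPullback.isoPullback_hom_snd]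
    infer_instance
  have hr : IsAffineHom (g ∣_ inr.opensRange) := by
    rw [MorphismProperty.arrow_mk_iso_iff @IsAffineHom (morphismRestrictOpensRange g inr),
      ← MorphismProperty.cancel_left_of_respectsIso @IsAffineHom
        (IsOpenImmersion.isPullback γ V.ι inr g hgV pV).flip.isoPullback.hom,
      IsPullback.isoPullback_hom_snd]
    infer_instance
  refine ⟨_, g, ?_, FTZ.of_cover hT hP inl inr hcov'⟩
  refine IsZariskiLocalAtTarget.of_iSup_eq_top (P := @IsAffineHom)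
    (fun i : Bool => if i then inl.opensRange else inr.opensRange) ?_ fun i => ?_
  · rw [iSup_bool_eq]; simpa using hcov'
  · cases i
    · exact hr
    · exact hl

/-- Finitely many basic opens covering a quasi-compact open of an affine scheme. -/
theorem exists_finite_basicOpens {W V : Scheme.{u}} [IsAffine V] (j : W ⟶ V) [IsOpenImmersion j]
    [CompactSpace W] :
    ∃ (κ : Type u) (_ : Finite κ) (r : κ → Γ(V, ⊤)),
      (∀ k, V.basicOpen (r k) ≤ j.opensRange) ∧ ⨆ k, j ⁻¹ᵁ V.basicOpen (r k) = ⊤ := by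
  have h : ∀ x : W, ∃ r : Γ(V, ⊤), V.basicOpen r ≤ j.opensRange ∧ j x ∈ V.basicOpen r := fun x =>
    (isAffineOpen_top V).exists_basicOpen_le (V := j.opensRange) ⟨j x, x, rfl⟩ trivial
  choose r hle hmem using h
  obtain ⟨F, hF⟩ := isCompact_univ.elim_finite_subcover
    (fun x : W => ((j ⁻¹ᵁ V.basicOpen (r x) : W.Opens) : Set W))
    (fun x => (j ⁻¹ᵁ V.basicOpen (r x)).2) fun x _ => Set.mem_iUnion.2 ⟨x, hmem x⟩
  refine ⟨F, inferInstance, fun k => r k.1, fun k => hle k.1, top_le_iff.1 fun x _ => ?_⟩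
  obtain ⟨k, hk, hxk⟩ := Set.mem_iUnion₂.1 (hF (Set.mem_univ x))
  exact Opens.mem_iSup.2 ⟨⟨k, hk⟩, hxk⟩

/-- The glueing step. -/
theorem approximable_glue {X : Scheme.{u}} [QuasiSeparatedSpace X] (U V : X.Opens)
    (hU : IsCompact (U : Set X)) (hV : IsAffineOpen V) (hUV : U ⊔ V = ⊤)
    (h : Approximable U) : Approximable X := by
  obtain ⟨T₀, g, hg, hT₀⟩ := h
  haveI := hT₀.compactSpace
  haveI := hT₀.quasiSeparatedSpace
  let D := system g
  have hD : ∀ i, FTZ (D.obj i) := fun i => hT₀.of_hom (systemProj g i)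
  obtain ⟨hlim⟩ := nonempty_isLimit_systemCone g
  let c := systemCone g
  haveI := Groth.Agent.QCoh.quasiCompact_ι_of_compact U hU
  have hW : IsCompact ((U.ι ⁻¹ᵁ V : (U : Scheme.{u}).Opens) : Set ↥(U : Scheme.{u})) :=
    U.ι.isCompact_preimage hV.isCompact
  haveI : ∀ i, CompactSpace (D.obj i) := fun i => (hD i).compactSpace
  obtain ⟨i, O, -, hpre⟩ := exists_preimage_eq D c hlim (U.ι ⁻¹ᵁ V) hW
  let E := opensDiagram D i O
  have hE : ∀ Q, FTZ (E.obj Q) := fun Q => (hD Q.left).opens _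
  let W : (U : Scheme.{u}).Opens := c.π.app i ⁻¹ᵁ O
  have hWeq : W = U.ι ⁻¹ᵁ V := hpre
  haveI : CompactSpace (W : Scheme.{u}) := isCompact_iff_compactSpace.mp (hWeq.symm ▸ hW)
  haveI : IsAffine (V : Scheme.{u}) := hV
  let jW : (W : Scheme.{u}) ⟶ V := IsOpenImmersion.lift V.ι (W.ι ≫ U.ι) (by
    rintro _ ⟨x, rfl⟩
    rw [Scheme.Opens.range_ι]
    exact hpre.le x.2)
  have hjW : jW ≫ V.ι = W.ι ≫ U.ι := IsOpenImmersion.lift_fac _ _ _
  haveI : IsOpenImmersion (jW ≫ V.ι) := by rw [hjW]; infer_instance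
  haveI : IsOpenImmersion jW := IsOpenImmersion.of_comp jW V.ι
  obtain ⟨κ, _, r, hrle, hrcov⟩ := exists_finite_basicOpens jW
  obtain ⟨Q, P, β, γ, hPaff, hP, hβ, hβγ, hrange⟩ :=
    exists_stage_extension E hE jW r hrle hrcov (fun Q => (opensCone D c i O).π.app Q)
      (fun a => (opensCone D c i O).w a) (isLimitOpensCone D c hlim i O)
  let O' : (D.obj Q.left).Opens := D.map Q.hom ⁻¹ᵁ O
  let a : (U : Scheme.{u}) ⟶ D.obj Q.left := c.π.app Q.left
  haveI : IsAffineHom a := isAffineHom_π_app D c hlim Q.left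
  have hmem : ∀ x : U, a x ∈ O' ↔ x ∈ W := fun x => by
    show x ∈ a ⁻¹ᵁ D.map Q.hom ⁻¹ᵁ O ↔ _
    rw [← Scheme.Hom.comp_preimage, c.w]
  let l : ((U ⊓ V : X.Opens) : Scheme.{u}) ⟶ W :=
    IsOpenImmersion.lift W.ι (X.homOfLE inf_le_left) (by
      rintro _ ⟨x, rfl⟩
      rw [Scheme.Opens.range_ι]
      refine hpre.ge ?_
      show U.ι (X.homOfLE _ x) ∈ V
      rw [← Scheme.Hom.comp_apply, Scheme.homOfLE_ι]
      exact x.2.2)
  have hl : l ≫ W.ι = X.homOfLE inf_le_left := IsOpenImmersion.lift_fac _ _ _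
  have hl' : l ≫ jW = X.homOfLE inf_le_right := by
    rw [← cancel_mono V.ι, Category.assoc, IsOpenImmersion.lift_fac, ← Category.assoc, hl,
      Scheme.homOfLE_ι, Scheme.homOfLE_ι]
  haveI : IsAffine P := hPaff
  haveI : QuasiSeparatedSpace P := hP.quasiSeparatedSpace
  refine approximable_pushout U V hUV (hD Q.left) hP O'.ι β a γ
    (l ≫ (opensCone D c i O).π.app Q) ?_ ?_ ?_ ?_
  · rw [Category.assoc, ← hl, Category.assoc]
    refine congrArg (l ≫ ·) ?_
    exact Scheme.Hom.resLE_comp_ι _ _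
  · rw [Category.assoc, hβγ, ← Category.assoc, hl']
  · intro x hx
    rw [Scheme.Opens.range_ι] at hx
    exact hpre.le ((hmem x).1 hx)
  · intro x hx
    obtain ⟨y, hy⟩ := hrange hx
    have h0 : V.ι (jW y) = U.ι (W.ι y) := congr($hjW y)
    rw [← hy]
    show V.ι (jW y) ∈ U
    rw [h0]
    exact (W.ι y).2

/-- A quasi-compact quasi-separated scheme has an affine morphism to a scheme of finite type over
the integers. -/
theorem approximable_of_qcqs (X : Scheme.{u}) [CompactSpace X] [QuasiSeparatedSpace X] :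
    Approximable X := by
  have : Approximable (⊤ : X.Opens) := by
    refine compact_open_induction_on (P := fun U => Approximable U) (⊤ : X.Opens) ?_ ?_ ?_
    · rw [Opens.coe_top]; exact isCompact_univ
    · haveI : IsEmpty ↥((⊥ : X.Opens) : Scheme.{u}) := ⟨fun x => x.2.elim⟩
      exact Approximable.of_isAffine _
    · intro S hS V hP
      let Z : X.Opens := S ⊔ V.1
      haveI : QuasiSeparatedSpace (Z : Scheme.{u}) :=
        QuasiSeparatedSpace.of_isOpenEmbedding Z.ι.isOpenEmbedding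
      have hS' : S ≤ Z := le_sup_left
      have hV' : V.1 ≤ Z := le_sup_right
      have e : ((Z.ι ⁻¹ᵁ S : (Z : Scheme.{u}).Opens) : Scheme.{u}) ≅ (S : Scheme.{u}) :=
        IsOpenImmersion.isoOfRangeEq ((Z.ι ⁻¹ᵁ S).ι ≫ Z.ι) S.ι (by
          rw [Scheme.Hom.comp_base, TopCat.coe_comp, Set.range_comp, Scheme.Opens.range_ι,
            Scheme.Opens.range_ι]
          show Z.ι '' (Z.ι ⁻¹' (S : Set X)) = _
          rw [Set.image_preimage_eq_inter_range, Scheme.Opens.range_ι]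
          exact Set.inter_eq_left.2 hS')
      refine approximable_glue (Z.ι ⁻¹ᵁ S) (Z.ι ⁻¹ᵁ V.1) ?_ ?_ ?_ (hP.of_iso e.hom)
      · refine Z.ι.isOpenEmbedding.isInducing.isCompact_iff.2 ?_
        show IsCompact (Z.ι '' (Z.ι ⁻¹' (S : Set X)))
        rw [Set.image_preimage_eq_inter_range, Scheme.Opens.range_ι, Set.inter_eq_left.2 hS']
        exact hS
      · exact V.2.preimage_of_isOpenImmersion Z.ι (by rwa [Scheme.Opens.opensRange_ι])
      · exact top_le_iff.1 fun x _ => x.2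
  exact this.of_iso X.topIso.inv

end Groth.Agent.AlgGlue
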