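import Groth.Agent.AlgGlue.Basic
import Groth.Agent.MorLib.LimExists
import Mathlib.AlgebraicGeometry.AffineTransitionLimit

/-!
# An affine morphism as a limit of affine morphisms of finite type
-/

universe u

set_option autoImplicit false
set_option backward.isDefEq.respectTransparency false
set_option backward.isDefEq.respectTransparency.types false
set_option linter.style.haveILetI false
set_option linter.unusedSectionVars false
set_option linter.unusedVariables false

open CategoryTheory CategoryTheory.Limits AlgebraicGeometry TopologicalSpace Opposite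
open Scheme.AffineZariskiSite

namespace Groth.Agent.AlgGlue

open Groth.Agent.QCoh

variable {X Y : Scheme.{u}} (f : X ⟶ Y) [QuasiCompact f] [QuasiSeparated f]
variable {ι : Type u} (N : ι → SubMod (push f)) (hN : ∀ i, FTOn (N i) ⊤)

theorem ofHom_inclusion_subtype {R : CommRingCat.{u}} {A B : Subring R} (h : A ≤ B) :
    CommRingCat.ofHom (Subring.inclusion h) ≫ CommRingCat.ofHom B.subtype =
      CommRingCat.ofHom A.subtype := rfl

theorem ofHom_inclusion_inclusion {R : CommRingCat.{u}} {A B C : Subring R} (h : A ≤ B)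
    (h' : B ≤ C) :
    CommRingCat.ofHom (Subring.inclusion h) ≫ CommRingCat.ofHom (Subring.inclusion h') =
      CommRingCat.ofHom (Subring.inclusion (h.trans h')) := rfl

theorem ofHom_inclusion_self {R : CommRingCat.{u}} {A : Subring R} (h : A ≤ A) :
    CommRingCat.ofHom (Subring.inclusion h) = 𝟙 (CommRingCat.of A) := rfl

theorem sub_mono {κ : Type u} (M : κ → SubMod (push f)) (a : κ → ι) (h : ∀ k, N (a k) = M k)
    (U : Y.Opens) : sub f M U ≤ sub f N U := by
  refine Subring.closure_le.mpr (Set.union_subset ?_ (Set.iUnion_subset fun k => ?_))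
  · rintro _ ⟨r, rfl⟩; exact app_mem f N U r
  · rintro _ ⟨s, hs, rfl⟩; exact gen_mem f N (i := a k) (by rw [h]; exact hs)

section Trans

variable {κ : Type u} (M : κ → SubMod (push f)) (hM : ∀ k, FTOn (M k) ⊤)

/-- The map induced by an inclusion of generated subalgebras. -/
noncomputable def trans (h : ∀ U, sub f M U ≤ sub f N U) : space f N hN ⟶ space f M hM :=
  colimit.desc (glueData f N hN).functor
    ({ pt := space f M hM
       ι :=
        { app := fun U => Spec.map (CommRingCat.ofHom (Subring.inclusion (h U.1))) ≫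
            chart f M hM U
          naturality := fun U V i => by
            refine Eq.trans ?_ (Category.comp_id _).symm
            show _ ≫ _ ≫ colimit.ι (glueData f M hM).functor V =
              _ ≫ colimit.ι (glueData f M hM).functor U
            rw [← colimit.w (glueData f M hM).functor i]
            dsimp [glueData, relativeGluingData]
            rw [← Spec.map_comp_assoc, ← Spec.map_comp_assoc]
            rfl } } : Cocone (glueData f N hN).functor)

variable (h : ∀ U, sub f M U ≤ sub f N U)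

@[reassoc]
theorem chart_trans (U : Y.affineOpens) :
    chart f N hN U ≫ trans f N hN M hM h =
      Spec.map (CommRingCat.ofHom (Subring.inclusion (h U.1))) ≫ chart f M hM U :=
  colimit.ι_desc _ _

theorem space_hom_ext {Z : Scheme.{u}} {a b : space f N hN ⟶ Z}
    (e : ∀ U, chart f N hN U ≫ a = chart f N hN U ≫ b) : a = b :=
  colimit.hom_ext e

@[reassoc (attr := simp)]
theorem trans_proj : trans f N hN M hM h ≫ proj f M hM = proj f N hN := by
  refine space_hom_ext f N hN fun U => ?_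
  rw [chart_trans_assoc, chart_proj, chart_proj, ← Spec.map_comp_assoc]
  rfl

omit [QuasiCompact f] [QuasiSeparated f] in
theorem hom_ext_preimage {Z : Scheme.{u}} {a b : X ⟶ Z}
    (e : ∀ U : Y.affineOpens, (f ⁻¹ᵁ U.1).ι ≫ a = (f ⁻¹ᵁ U.1).ι ≫ b) : a = b :=
  Scheme.Cover.hom_ext (X.openCoverOfIsOpenCover _
    (.comap (iSup_affineOpens_eq_top Y) f.base.1)) _ _ e

theorem spec_inclusion_comp (U : Y.Opens) :
    Spec.map (CommRingCat.ofHom (sub f N U).subtype) ≫
        Spec.map (CommRingCat.ofHom (Subring.inclusion (h U))) =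
      Spec.map (CommRingCat.ofHom (sub f M U).subtype) :=
  (Spec.map_comp _ _).symm.trans (congrArg Spec.map (ofHom_inclusion_subtype (h U)))

@[reassoc (attr := simp)]
theorem toSpace_trans : toSpace f N hN ≫ trans f N hN M hM h = toSpace f M hM := by
  refine hom_ext_preimage f fun U => ?_
  rw [ι_toSpace_assoc f N hN U, chart_trans f N hN M hM h U, ι_toSpace f M hM U,
    ← Category.assoc (Spec.map (CommRingCat.ofHom (sub f N U.1).subtype)),
    spec_inclusion_comp f N M h U.1]

theorem trans_self : trans f N hN N hN (fun _ => le_rfl) = 𝟙 _ := by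
  refine space_hom_ext f N hN fun U => ?_
  rw [chart_trans, ofHom_inclusion_self, Spec.map_id]
  exact (Category.id_comp _).trans (Category.comp_id _).symm

theorem trans_trans {μ : Type u} (P : μ → SubMod (push f)) (hP : ∀ m, FTOn (P m) ⊤)
    (h' : ∀ U, sub f P U ≤ sub f M U) :
    trans f N hN M hM h ≫ trans f M hM P hP h' =
      trans f N hN P hP (fun U => (h' U).trans (h U)) := by
  refine space_hom_ext f N hN fun U => ?_
  rw [chart_trans_assoc f N hN M hM h U, chart_trans f M hM P hP h' U,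
    chart_trans f N hN P hP _ U,
    ← Category.assoc (Spec.map (CommRingCat.ofHom (Subring.inclusion (h U.1)))),
    ← Spec.map_comp, ofHom_inclusion_inclusion]

instance : IsAffineHom (trans f N hN M hM h) := by
  have : IsAffineHom (trans f N hN M hM h ≫ proj f M hM) := by rw [trans_proj]; infer_instance
  exact IsAffineHom.of_comp _ (proj f M hM)

theorem trans_preimage (U : Y.Opens) :
    trans f N hN M hM h ⁻¹ᵁ proj f M hM ⁻¹ᵁ U = proj f N hN ⁻¹ᵁ U := by
  rw [← Scheme.Hom.comp_preimage, trans_proj]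

end Trans

instance isAffineHom_toSpace [IsAffineHom f] : IsAffineHom (toSpace f N hN) := by
  have : IsAffineHom (toSpace f N hN ≫ proj f N hN) := by rw [toSpace_proj]; infer_instance
  exact IsAffineHom.of_comp _ (proj f N hN)

theorem compactSpace_space [CompactSpace Y] : CompactSpace (space f N hN) :=
  QuasiCompact.compactSpace_of_compactSpace (proj f N hN)

theorem quasiSeparatedSpace_space [QuasiSeparatedSpace Y] :
    QuasiSeparatedSpace (space f N hN) :=
  quasiSeparatedSpace_of_quasiSeparated (proj f N hN)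

/-- The generated subalgebra over an affine open is of finite type. -/
theorem finiteType_diagMap [Finite ι] {V : Y.affineOpens}
    (hV : ∀ i, ∃ T, GenBy (N i) V.1 T) :
    ((diagMap f N).app (op V.1)).hom.FiniteType := by
  choose T hT using hV
  let φ : Γ(Y, V.1) →+* sub f N V.1 :=
    (f.app V.1).hom.codRestrict (sub f N V.1) (app_mem f N V.1)
  show φ.FiniteType
  letI : Algebra Γ(Y, V.1) (sub f N V.1) := φ.toAlgebra
  let G : Set (sub f N V.1) := ⋃ i, (Subtype.val ⁻¹' (toFun f '' T i))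
  have hG : G.Finite := Set.finite_iUnion fun i =>
    ((hT i).fin.image _).preimage Subtype.val_injective.injOn
  refine ⟨⟨hG.toFinset, eq_top_iff.mpr fun z _ => ?_⟩⟩
  rw [Set.Finite.coe_toFinset]
  suffices H : ∀ (x : Γ(X, f ⁻¹ᵁ V.1)) (hx : x ∈ sub f N V.1),
      (⟨x, hx⟩ : sub f N V.1) ∈ Algebra.adjoin Γ(Y, V.1) G from H z.1 z.2
  have key : ∀ (i : ι) (s : Γ(push f, V.1)), s ∈ Submodule.span Γ(Y, V.1) (T i) →
      ∀ (h : toFun f s ∈ sub f N V.1),
        (⟨toFun f s, h⟩ : sub f N V.1) ∈ Algebra.adjoin Γ(Y, V.1) G := by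
    intro i s hs
    induction hs using Submodule.span_induction with
    | mem x hx =>
      exact fun h => Algebra.subset_adjoin (Set.mem_iUnion.2 ⟨i, x, hx, rfl⟩)
    | zero => exact fun h => zero_mem _
    | add x y hxT hyT hx hy =>
      intro h
      exact add_mem (hx (gen_mem f N ((hT i).span_le hxT)))
        (hy (gen_mem f N ((hT i).span_le hyT)))
    | smul a x hxT hx =>
      intro h
      exact mul_mem (Subalgebra.algebraMap_mem _ a) (hx (gen_mem f N ((hT i).span_le hxT)))
  intro x hx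
  induction hx using Subring.closure_induction with
  | mem x hx =>
    rcases hx with ⟨a, rfl⟩ | hx
    · exact Subalgebra.algebraMap_mem _ a
    · obtain ⟨i, s, hs, rfl⟩ := Set.mem_iUnion.1 hx
      exact key i s ((hT i).mem_span (isQCoh_push f) V.2 hs) _
  | zero => exact zero_mem _
  | one => exact one_mem _
  | add x y hxs hys hx hy => exact add_mem hx hy
  | neg x hxs hx => exact neg_mem hx
  | mul x y hxs hys hx hy => exact mul_mem hx hy

/-- The glued scheme is of finite type over the base. -/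
theorem locallyOfFiniteType_proj [Finite ι] : LocallyOfFiniteType (proj f N hN) := by
  haveI := Fintype.ofFinite ι
  let W := {V : Y.affineOpens // ∀ i, ∃ T, GenBy (N i) V.1 T}
  have hW : ⨆ j : W, (j.1 : Y.Opens) = ⊤ := eq_top_iff.mpr fun y _ => by
    choose O hOaff hyO _ hOgen using fun i => hN i y trivial
    obtain ⟨_, ⟨V, hV, rfl⟩, hyV, hVW⟩ := Y.isBasis_affineOpens.exists_subset_of_mem_open
      (show y ∈ ((⊤ : Y.Opens) ⊓ Finset.univ.inf O : Y.Opens) from
        ⟨trivial, by simp [hyO]⟩) (⊤ ⊓ Finset.univ.inf O : Y.Opens).isOpen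
    refine Opens.mem_iSup.mpr ⟨⟨⟨V, hV⟩, fun i => ?_⟩, hyV⟩
    obtain ⟨T, hT⟩ := hOgen i
    exact ⟨_, hT.restrict ((show V ≤ _ from hVW).trans
      (inf_le_right.trans (Finset.inf_le (Finset.mem_univ i))))⟩
  rw [IsZariskiLocalAtTarget.iff_of_iSup_eq_top (P := @LocallyOfFiniteType) _ hW]
  intro j
  let e := IsOpenImmersion.isoOfRangeEq (proj f N hN ⁻¹ᵁ j.1.1).ι (chart f N hN j.1)
      (by simpa using congr($(proj_preimage f N hN j.1).1))
  rw [← MorphismProperty.cancel_left_of_respectsIso @LocallyOfFiniteType e.inv,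
    ← MorphismProperty.cancel_right_of_respectsIso @LocallyOfFiniteType _ j.1.2.isoSpec.hom]
  convert! (HasRingHomProperty.Spec_iff (P := @LocallyOfFiniteType)).mpr
    (finiteType_diagMap f N j.2)
  rw [← cancel_mono j.1.2.fromSpec]
  simp [IsAffineOpen.isoSpec_hom, e, chart_proj]

theorem appLE_topIso_hom {A B : Scheme.{u}} (g : A ⟶ B) {U : B.Opens} {V : A.Opens}
    (e : V ≤ g ⁻¹ᵁ U) (t : Γ(↑U, ⊤)) :
    g.appLE U V e (U.topIso.hom t) = V.topIso.hom ((g.resLE U V e).appTop t) := by
  rw [← ConcreteCategory.comp_apply, ← ConcreteCategory.comp_apply]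
  congr 2
  simp only [Scheme.Hom.app_eq_appLE, Scheme.Hom.resLE_appLE, Scheme.Opens.topIso_hom]
  erw [Scheme.Hom.map_appLE, Scheme.Hom.appLE_map]

/-- Sections of a limit over the preimage of an affine open come from a stage. -/
theorem exists_appLE_eq {I : Type u} [SmallCategory I] [IsCofiltered I] (D : I ⥤ Scheme.{u})
    (c : Cone D) (hc : IsLimit c) [∀ {i j : I} (a : i ⟶ j), IsAffineHom (D.map a)] (i : I)
    {U : (D.obj i).Opens} (hU : IsAffineOpen U) (s : Γ(c.pt, c.π.app i ⁻¹ᵁ U)) :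
    ∃ (j : I) (a : j ⟶ i) (t : Γ(D.obj j, D.map a ⁻¹ᵁ U)),
      (c.π.app j).appLE _ _ (by rw [← Scheme.Hom.comp_preimage, Cone.w]) t = s := by
  haveI : ∀ j : Over i, IsAffine ((opensDiagram D i U).obj j) := fun j => hU.preimage (D.map _)
  obtain ⟨j, t, ht⟩ := exists_appTop_π_eq_of_isAffine_of_isLimit (opensDiagram D i U) _
    (isLimitOpensCone D c hc i U) ((c.π.app i ⁻¹ᵁ U).topIso.inv s)
  change Γ(↑(D.map j.hom ⁻¹ᵁ U), ⊤) at t
  refine ⟨j.left, j.hom, (D.map j.hom ⁻¹ᵁ U).topIso.hom t, ?_⟩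
  rw [appLE_topIso_hom]
  exact (congrArg (c.π.app i ⁻¹ᵁ U).topIso.hom ht).trans
    (congr($((c.π.app i ⁻¹ᵁ U).topIso.inv_hom_id) s))

theorem appLE_eq_of_app_eq {A B : Scheme.{u}} (g : A ⟶ B) {V : B.Opens} {W : A.Opens}
    (h : g ⁻¹ᵁ V = W) (hle : W ≤ g ⁻¹ᵁ V) {y : Γ(B, V)} {x : Γ(A, W)}
    (e : g.app V y = A.presheaf.map (eqToHom h).op x) : g.appLE V W hle y = x := by
  subst h
  rw [Scheme.Hom.appLE_eq_app, e, eqToHom_refl, op_id, CategoryTheory.Functor.map_id]
  rfl

theorem appLE_appLE {A A' A'' : Scheme.{u}} (g : A ⟶ A') (h : A' ⟶ A'') {gh : A ⟶ A''} (hgh : g ≫ h = gh)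
    {U : A''.Opens} {V : A'.Opens} {W : A.Opens} (e₁ : V ≤ h ⁻¹ᵁ U) (e₂ : W ≤ g ⁻¹ᵁ V)
    (e₃ : W ≤ gh ⁻¹ᵁ U) (t : Γ(A'', U)) :
    g.appLE V W e₂ (h.appLE U V e₁ t) = gh.appLE U W e₃ t := by
  subst hgh
  rw [← ConcreteCategory.comp_apply, Scheme.Hom.appLE_comp_appLE]

theorem appLE_map_eq {A A' : Scheme.{u}} (g : A ⟶ A') {U : A'.Opens} {V W : A.Opens}
    (e : V ≤ g ⁻¹ᵁ U) (h : W = V) (t : Γ(A', U)) :
    g.appLE U W (h.le.trans e) t = A.presheaf.map (eqToHom h).op (g.appLE U V e t) := by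
  subst h
  rw [eqToHom_refl, op_id, CategoryTheory.Functor.map_id]
  rfl

/-- An affine scheme over `Y` is the limit of a system if it is so on functions over affine opens. -/
theorem nonempty_isLimit_of_affine {B : Scheme.{u}}
    {I : Type u} [SmallCategory I] [IsCofiltered I] {D : I ⥤ Scheme.{u}} (K : Cone D)
    [∀ {i j : I} (a : i ⟶ j), IsAffineHom (D.map a)]
    (p : ∀ i, D.obj i ⟶ B) [∀ i, IsAffineHom (p i)] {k : K.pt ⟶ B}
    (hp : ∀ {i j : I} (a : i ⟶ j), D.map a ≫ p j = p i) (hK : ∀ i, K.π.app i ≫ p i = k)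
    [IsAffineHom k]
    (hinj : ∀ i (U : B.affineOpens), Function.Injective ((K.π.app i).app (p i ⁻¹ᵁ U.1)))
    (hsurj : ∀ (U : B.affineOpens) (x : Γ(K.pt, k ⁻¹ᵁ U.1)), ∃ (i : I) (y : Γ(D.obj i, p i ⁻¹ᵁ U.1)),
      (K.π.app i).appLE _ _ (by rw [← Scheme.Hom.comp_preimage, hK]) y = x) :
    Nonempty (IsLimit K) := by
  haveI := MorLib.LimExists.hasLimit (D := D)
  obtain ⟨L, hL⟩ : ∃ L : Cone D, Nonempty (IsLimit L) := ⟨_, ⟨limit.isLimit D⟩⟩
  obtain ⟨hL⟩ := hL
  let e : K.pt ⟶ L.pt := hL.lift K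
  have he : ∀ i, e ≫ L.π.app i = K.π.app i := fun i => hL.fac _ i
  let E : I := IsCofiltered.nonempty.some
  have hq : ∀ i, L.π.app i ≫ p i = L.π.app E ≫ p E := fun i => by
    obtain ⟨m, a, b, -⟩ := IsCofilteredOrEmpty.cone_objs i E
    rw [← L.w a, ← L.w b, Category.assoc, Category.assoc, hp, hp]
  let q := L.π.app E ≫ p E
  have heq : e ≫ q = k := by simp only [q, reassoc_of% he, hK]
  haveI : IsAffineHom (L.π.app E) := isAffineHom_π_app _ _ hL E
  haveI : IsAffineHom q := inferInstanceAs (IsAffineHom (L.π.app E ≫ p E))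
  haveI : IsAffineHom (e ≫ q) := heq ▸ inferInstance
  haveI : IsAffineHom e := IsAffineHom.of_comp e q
  have hiso : ∀ U : B.affineOpens, IsIso (e ∣_ (q ⁻¹ᵁ U.1)) := by
    intro U
    haveI : IsAffine (q ⁻¹ᵁ U.1 : Scheme.{u}) := U.2.preimage q
    haveI : IsAffine (e ⁻¹ᵁ q ⁻¹ᵁ U.1 : Scheme.{u}) := (U.2.preimage q).preimage e
    suffices h : IsIso (e.app (q ⁻¹ᵁ U.1)) by
      refine (HasAffineProperty.iff_of_isAffine (P := MorphismProperty.isomorphisms Scheme)).mpr
        ⟨inferInstance, ?_⟩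
      rw [morphismRestrict_appTop]
      haveI : IsIso (e.app ((q ⁻¹ᵁ U.1).ι ''ᵁ ⊤)) := (Scheme.Opens.ι_image_top _).symm ▸ h
      infer_instance
    rw [ConcreteCategory.isIso_iff_bijective]
    refine ⟨(injective_iff_map_eq_zero _).mpr fun s hs => ?_, fun x => ?_⟩
    · obtain ⟨i, a, t, rfl⟩ := exists_appLE_eq D L hL E (U := p E ⁻¹ᵁ U.1) (U.2.preimage _) s
      suffices t = 0 by rw [this, map_zero]
      have hinj' : ∀ (V : (D.obj i).Opens) (W : K.pt.Opens) (hV : V = p i ⁻¹ᵁ U.1)
          (hW : W = K.π.app i ⁻¹ᵁ V) (t : Γ(D.obj i, V)),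
          (K.π.app i).appLE V W hW.le t = 0 → t = 0 := by
        rintro _ _ rfl rfl t ht
        refine hinj i U ?_
        rw [map_zero, ← ht, Scheme.Hom.appLE_eq_app]
      refine hinj' _ (e ⁻¹ᵁ q ⁻¹ᵁ U.1) ?_ ?_ t ?_
      · rw [← Scheme.Hom.comp_preimage, hp]
      · rw [← Scheme.Hom.comp_preimage, heq, ← Scheme.Hom.comp_preimage, ← Scheme.Hom.comp_preimage,
          Category.assoc, hp, hK]
      · rw [Scheme.Hom.app_eq_appLE] at hs
        exact (appLE_appLE e (L.π.app i) (he i) _ _ _ t).symm.trans hs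
    · have hpre : k ⁻¹ᵁ U.1 = e ⁻¹ᵁ q ⁻¹ᵁ U.1 := by rw [← Scheme.Hom.comp_preimage, heq]
      obtain ⟨i, y, hy⟩ := hsurj U (K.pt.presheaf.map (eqToHom hpre).op x)
      refine ⟨(L.π.app i).appLE (p i ⁻¹ᵁ U.1) (q ⁻¹ᵁ U.1)
        (by rw [← Scheme.Hom.comp_preimage, hq]) y, ?_⟩
      rw [Scheme.Hom.app_eq_appLE]
      have hle' : k ⁻¹ᵁ U.1 ≤ K.π.app i ⁻¹ᵁ p i ⁻¹ᵁ U.1 := by
        rw [← Scheme.Hom.comp_preimage, hK]
      refine (appLE_appLE e (L.π.app i) (he i) _ _ (hpre.ge.trans hle') y).trans ?_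
      refine (appLE_map_eq (K.π.app i) hle' hpre.symm y).trans ?_
      erw [hy]
      show (K.pt.presheaf.map (eqToHom hpre).op ≫ K.pt.presheaf.map (eqToHom hpre.symm).op) x = x
      rw [← Functor.map_comp, ← op_comp, eqToHom_trans, eqToHom_refl, op_id,
        CategoryTheory.Functor.map_id]
      rfl
  haveI : IsIso e := IsZariskiLocalAtTarget.of_iSup_eq_top (P := MorphismProperty.isomorphisms Scheme.{u})
    (fun U : B.affineOpens => q ⁻¹ᵁ U.1)
    (by rw [← Scheme.Hom.preimage_iSup, iSup_affineOpens_eq_top, Scheme.Hom.preimage_top]) hiso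
  exact ⟨hL.ofIsoLimit (Cone.ext (asIso e) (fun i => (he i).symm)).symm⟩

variable [CompactSpace Y] [QuasiSeparatedSpace Y]

/-- The index of the system of finite type. -/
abbrev Idx := Finset {N : SubMod (push f) // FTOn N ⊤}

variable {f} in
/-- The submodules of a member of the index. -/
def fam (F : Idx f) : {p // p ∈ F} → SubMod (push f) := fun p => p.1.1

variable {f} in
theorem fam_ftOn (F : Idx f) (p : {p // p ∈ F}) : FTOn (fam F p) ⊤ := p.1.2

theorem fam_le {F F' : Idx f} (h : F ≤ F') (U : Y.Opens) :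
    sub f (fam F) U ≤ sub f (fam F') U :=
  sub_mono f (fam F') (fam F) (fun p => ⟨p.1, h p.2⟩) (fun _ => rfl) U

/-- The system of schemes affine and of finite type over the base. -/
noncomputable def system : (Idx f)ᵒᵖ ⥤ Scheme.{u} where
  obj F := space f (fam F.unop) (fam_ftOn F.unop)
  map {F F'} a := trans f _ _ _ _ (fam_le f (leOfHom a.unop))
  map_id F := trans_self f _ _
  map_comp a b := (trans_trans f _ _ _ _ _ _ _ _).symm

/-- The projections of the system to the base. -/
noncomputable def systemProj (F : (Idx f)ᵒᵖ) : (system f).obj F ⟶ Y :=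
  proj f (fam F.unop) (fam_ftOn F.unop)

instance (F : (Idx f)ᵒᵖ) : IsAffineHom (systemProj f F) := by
  unfold systemProj; infer_instance

instance locallyOfFiniteType_systemProj (F : (Idx f)ᵒᵖ) :
    LocallyOfFiniteType (systemProj f F) :=
  locallyOfFiniteType_proj f _ _

instance {F F' : (Idx f)ᵒᵖ} (a : F ⟶ F') : IsAffineHom ((system f).map a) :=
  inferInstanceAs (IsAffineHom (trans f _ _ _ _ (fam_le f (leOfHom a.unop))))

theorem system_map_proj {F F' : (Idx f)ᵒᵖ} (a : F ⟶ F') :
    (system f).map a ≫ systemProj f F' = systemProj f F :=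
  trans_proj f _ _ _ _ (fam_le f (leOfHom a.unop))

/-- The cone of the system. -/
noncomputable def systemCone : Cone (system f) where
  pt := X
  π :=
    { app := fun F => toSpace f (fam F.unop) (fam_ftOn F.unop)
      naturality := fun F F' a => by
        exact (Category.id_comp _).trans
          (toSpace_trans f _ _ _ _ (fam_le f (leOfHom a.unop))).symm }

theorem exists_mem_sub (U : Y.affineOpens) (x : Γ(X, f ⁻¹ᵁ U.1)) :
    ∃ F : Idx f, x ∈ sub f (fam F) U.1 := by
  obtain ⟨N, hN, hmem⟩ := exists_ftOn_contains (isQCoh_push f) U.2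
    (extStep_qcqs U.2.isCompact) ({x} : Set Γ(push f, U.1)) (Set.finite_singleton _)
  let p : {N : SubMod (push f) // FTOn N ⊤} := ⟨N, hN⟩
  refine ⟨{p}, gen_mem f (fam {p}) (i := (⟨p, Finset.mem_singleton_self p⟩ : {q // q ∈ ({p} : Idx f)})) ?_⟩
  exact Set.singleton_subset_iff.1 hmem

/-- An affine morphism to a qcqs scheme is the limit of the affine morphisms of finite type. -/
theorem nonempty_isLimit_systemCone [IsAffineHom f] : Nonempty (IsLimit (systemCone f)) := by
  haveI : IsAffineHom (f : (systemCone f).pt ⟶ Y) := ‹IsAffineHom f›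
  refine nonempty_isLimit_of_affine (systemCone f) (systemProj f) (k := f)
    (fun a => system_map_proj f a) (fun F => toSpace_proj f _ _)
    (fun F U => toSpace_app_injective f (fam F.unop) (fam_ftOn F.unop) U) fun U x => ?_
  obtain ⟨F, hF⟩ := exists_mem_sub f U x
  obtain ⟨y, hy⟩ := mem_range_toSpace_app f (fam F) (fam_ftOn F) U hF
  refine ⟨op F, y, ?_⟩
  have hle : f ⁻¹ᵁ U.1 ≤ toSpace f (fam F) (fam_ftOn F) ⁻¹ᵁ proj f (fam F) (fam_ftOn F) ⁻¹ᵁ U.1 := by
    rw [← Scheme.Hom.comp_preimage, toSpace_proj]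
  show (toSpace f (fam F) (fam_ftOn F)).appLE _ _ hle y = x
  exact appLE_eq_of_app_eq _ _ hle hy

end Groth.Agent.AlgGlue
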