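import Groth.Agent.QCoh.ExtendFT
import Groth.Agent.QCoh.VanIdeal
import Mathlib.AlgebraicGeometry.Normalization

/-!
# The spectrum of the quasi-coherent subalgebra of a direct image generated by submodules of finite type
-/

universe u

set_option autoImplicit false
set_option backward.isDefEq.respectTransparency false
set_option backward.isDefEq.respectTransparency.types false
set_option linter.style.haveILetI false

open CategoryTheory CategoryTheory.Limits AlgebraicGeometry TopologicalSpace Opposite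
open Scheme.AffineZariskiSite

namespace Groth.Agent.AlgGlue

open Groth.Agent.QCoh

variable {X Y : Scheme.{u}} (f : X ⟶ Y)

/-- The direct image of the structure module. -/
noncomputable abbrev push : Y.Modules :=
  (Scheme.Modules.pushforward f).obj (Coh.structureModule X)

/-- A section of the direct image as a function on the preimage. -/
abbrev toFun {U : Y.Opens} (s : Γ(push f, U)) : Γ(X, f ⁻¹ᵁ U) := s

/-- Restriction of functions on preimages. -/
noncomputable abbrev res {U V : Y.Opens} (h : V ≤ U) : Γ(X, f ⁻¹ᵁ U) ⟶ Γ(X, f ⁻¹ᵁ V) :=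
  X.presheaf.map (homOfLE (f.preimage_mono h)).op

theorem toFun_rs {U V : Y.Opens} (h : V ≤ U) (s : Γ(push f, U)) :
    toFun f (rs (push f) h s) = res f h (toFun f s) := rfl

theorem toFun_smul {U : Y.Opens} (a : Γ(Y, U)) (s : Γ(push f, U)) :
    toFun f (a • s) = f.app U a * toFun f s := rfl

theorem res_app {U V : Y.Opens} (h : V ≤ U) (a : Γ(Y, U)) :
    res f h (f.app U a) = f.app V (rf Y h a) :=
  congr($(f.naturality (homOfLE h).op).hom a).symm

theorem isQCoh_push [QuasiCompact f] [QuasiSeparated f] : Coh.IsQCoh (push f) :=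
  isQCoh_pushforward f isQCoh_structureModule

variable {ι : Type u} (N : ι → SubMod (push f))

/-- The generators over an open. -/
def gens (U : Y.Opens) : Set Γ(X, f ⁻¹ᵁ U) :=
  ⋃ i, toFun f '' ((N i).mem U : Set Γ(push f, U))

theorem mem_gens {U : Y.Opens} {i : ι} {s : Γ(push f, U)} (hs : s ∈ (N i).mem U) :
    toFun f s ∈ gens f N U :=
  Set.mem_iUnion.2 ⟨i, s, hs, rfl⟩

/-- The subring of functions on `f ⁻¹ U` generated by the functions of `U` and the generators. -/
def sub (U : Y.Opens) : Subring Γ(X, f ⁻¹ᵁ U) :=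
  Subring.closure (Set.range (f.app U).hom ∪ gens f N U)

theorem app_mem (U : Y.Opens) (a : Γ(Y, U)) : f.app U a ∈ sub f N U :=
  Subring.subset_closure (.inl ⟨a, rfl⟩)

theorem gen_mem {U : Y.Opens} {i : ι} {s : Γ(push f, U)} (hs : s ∈ (N i).mem U) :
    toFun f s ∈ sub f N U :=
  Subring.subset_closure (.inr (mem_gens f N hs))

theorem res_mem {U V : Y.Opens} (h : V ≤ U) {x : Γ(X, f ⁻¹ᵁ U)} (hx : x ∈ sub f N U) :
    res f h x ∈ sub f N V := by
  induction hx using Subring.closure_induction with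
  | mem x hx =>
    rcases hx with ⟨a, rfl⟩ | hx
    · rw [res_app]; exact app_mem f N V _
    · obtain ⟨i, s, hs, rfl⟩ := Set.mem_iUnion.1 hx
      exact gen_mem f N ((N i).map_mem h hs)
  | zero => rw [map_zero]; exact zero_mem _
  | one => rw [map_one]; exact one_mem _
  | add x y _ _ hx hy => rw [map_add]; exact add_mem hx hy
  | neg x _ hx => rw [map_neg]; exact neg_mem hx
  | mul x y _ _ hx hy => rw [map_mul]; exact mul_mem hx hy

/-- The presheaf of generated subrings. -/
noncomputable def diag : Y.Opensᵒᵖ ⥤ CommRingCat.{u} where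
  obj U := .of (sub f N U.unop)
  map {U V} i := CommRingCat.ofHom
    ((res f (leOfHom i.unop)).hom.restrict (sub f N U.unop) (sub f N V.unop)
      fun _ hx => res_mem f N _ hx)
  map_id U := by
    ext x
    show X.presheaf.map _ x.1 = x.1
    rw [show (homOfLE (f.preimage_mono (leOfHom (𝟙 U : U ⟶ U).unop))).op = 𝟙 _ from rfl,
      X.presheaf.map_id]
    rfl
  map_comp {U V W} i j := by
    ext x
    show X.presheaf.map _ x.1 = X.presheaf.map _ (X.presheaf.map _ x.1)
    rw [← ConcreteCategory.comp_apply, ← X.presheaf.map_comp]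
    rfl

/-- The structure map. -/
noncomputable def diagMap : Y.presheaf ⟶ diag f N where
  app U := CommRingCat.ofHom ((f.app U.unop).hom.codRestrict (sub f N U.unop) (app_mem f N _))
  naturality U V i := by
    ext a
    exact Subtype.ext (res_app f (leOfHom i.unop) a).symm

variable [QuasiCompact f] [QuasiSeparated f]

theorem isLocalization_res {U : Y.Opens} (hU : IsAffineOpen U) (r : Γ(Y, U)) :
    letI := (res f (Y.basicOpen_le r)).hom.toAlgebra
    IsLocalization.Away (f.app U r) Γ(X, f ⁻¹ᵁ Y.basicOpen r) := by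
  let inst : Algebra Γ(X, f ⁻¹ᵁ U) Γ(X, f ⁻¹ᵁ Y.basicOpen r) :=
    (X.presheaf.map (homOfLE (f.preimage_mono (Y.basicOpen_le r))).op).hom.toAlgebra
  change IsLocalization.Away (f.app U r) Γ(X, f ⁻¹ᵁ Y.basicOpen r)
  let : Algebra Γ(X, f ⁻¹ᵁ U) Γ(X, X.basicOpen (f.app U r)) :=
    (X.presheaf.map (homOfLE (X.basicOpen_le _)).op).hom.toAlgebra
  dsimp +instances [inst]
  rw! (castMode := .all) [f.preimage_basicOpen r]
  exact isLocalization_basicOpen_of_qcqs (f.isCompact_preimage hU.isCompact)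
    (f.isQuasiSeparated_preimage hU.isQuasiSeparated) (f.app U r)

theorem exists_pow_mul_eq (hN : ∀ i, FTOn (N i) ⊤) {U : Y.Opens} (hU : IsAffineOpen U)
    (r : Γ(Y, U)) {x : Γ(X, f ⁻¹ᵁ Y.basicOpen r)} (hx : x ∈ sub f N (Y.basicOpen r)) :
    ∃ (n : ℕ) (y : Γ(X, f ⁻¹ᵁ U)), y ∈ sub f N U ∧
      res f (Y.basicOpen_le r) y = x * res f (Y.basicOpen_le r) (f.app U r) ^ n := by
  induction hx using Subring.closure_induction with
  | mem x hx =>
    rcases hx with ⟨a, rfl⟩ | hx
    · haveI := hU.isLocalization_basicOpen r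
      obtain ⟨⟨b, ⟨_, n, rfl⟩⟩, hb⟩ := IsLocalization.surj (Submonoid.powers r) a
      refine ⟨n, f.app U b, app_mem f N U b, ?_⟩
      rw [res_app, res_app, ← map_pow, ← map_mul]
      refine congrArg (f.app (Y.basicOpen r)) ?_
      rw [← map_pow]
      exact hb.symm
    · obtain ⟨i, s, hs, rfl⟩ := Set.mem_iUnion.1 hx
      obtain ⟨t, ht⟩ := (N i).exists_app_eq hs
      obtain ⟨n, w, hw⟩ := exists_pow_smul_eq_map
        (isQCoh_of_ftOn (isQCoh_push f) (hN i)) hU r t
      refine ⟨n, toFun f ((N i).ι.app U w), gen_mem f N ((N i).ι_app_mem U w), ?_⟩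
      have h1 : rs (push f) (Y.basicOpen_le r) ((N i).ι.app U w) =
          rf Y (Y.basicOpen_le r) r ^ n • s := by
        rw [← ht, ← ι_app_smul]
        exact (map_app_comm (N i).ι _ w).trans (congrArg ((N i).ι.app (Y.basicOpen r)) hw)
      rw [← toFun_rs, h1, toFun_smul, map_pow, ← res_app, mul_comm]
  | zero => exact ⟨0, 0, zero_mem _, by rw [map_zero, zero_mul]⟩
  | one => exact ⟨0, 1, one_mem _, by rw [map_one, pow_zero, one_mul]⟩
  | add x y _ _ hx hy =>
    obtain ⟨n, a, ha, hax⟩ := hx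
    obtain ⟨m, b, hb, hby⟩ := hy
    refine ⟨n + m, a * f.app U r ^ m + b * f.app U r ^ n, add_mem (mul_mem ha
      (pow_mem (app_mem f N U r) _)) (mul_mem hb (pow_mem (app_mem f N U r) _)), ?_⟩
    rw [map_add, map_mul, map_mul, map_pow, map_pow, hax, hby]
    ring
  | neg x _ hx =>
    obtain ⟨n, a, ha, hax⟩ := hx
    exact ⟨n, -a, neg_mem ha, by rw [map_neg, hax, neg_mul]⟩
  | mul x y _ _ hx hy =>
    obtain ⟨n, a, ha, hax⟩ := hx
    obtain ⟨m, b, hb, hby⟩ := hy
    exact ⟨n + m, a * b, mul_mem ha hb, by rw [map_mul, hax, hby]; ring⟩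

variable (hN : ∀ i, FTOn (N i) ⊤)

include hN in
theorem coequifibered :
    ((toOpensFunctor Y).op.whiskerLeft (diagMap f N)).Coequifibered := by
  refine coequifibered_iff_forall_isLocalizationAway.mpr fun U r => ?_
  letI alg : Algebra ((diag f N).obj (op U.1)) ((diag f N).obj (op (Y.basicOpen r))) :=
    ((diag f N).map (homOfLE (Y.basicOpen_le r)).op).hom.toAlgebra
  show IsLocalization.Away ((diagMap f N).app (op U.1) r) ((diag f N).obj (op (Y.basicOpen r)))
  letI := (res f (Y.basicOpen_le r)).hom.toAlgebra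
  haveI hloc : IsLocalization.Away (f.app U.1 r) Γ(X, f ⁻¹ᵁ Y.basicOpen r) :=
    isLocalization_res f U.2 r
  refine (isLocalization_iff _ _).mpr ⟨fun ⟨_, n, rfl⟩ => ?_, fun z => ?_, fun {x y} h => ?_⟩
  · rw [map_pow]
    refine IsUnit.pow n ?_
    have hu : IsUnit ((diagMap f N).app (op (Y.basicOpen r)) (rf Y (Y.basicOpen_le r) r)) :=
      (isUnit_rf_basicOpen r).map _
    rwa [← ConcreteCategory.comp_apply, (diagMap f N).naturality] at hu
  · obtain ⟨n, y, hy, hyz⟩ := exists_pow_mul_eq f N hN U.2 r z.2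
    refine ⟨(⟨y, hy⟩, ⟨_, n, rfl⟩), Subtype.ext ?_⟩
    show z.1 * res f (Y.basicOpen_le r) (f.app U.1 r ^ n) = res f (Y.basicOpen_le r) y
    rw [map_pow, hyz]
  · have h1 : res f (Y.basicOpen_le r) x.1 = res f (Y.basicOpen_le r) y.1 := congrArg Subtype.val h
    obtain ⟨⟨_, n, rfl⟩, hn⟩ :=
      IsLocalization.exists_of_eq (M := Submonoid.powers (f.app U.1 r)) h1
    exact ⟨⟨_, n, rfl⟩, Subtype.ext hn⟩

/-- The gluing datum. -/
noncomputable def glueData :=
  relativeGluingData (coequifibered f N hN)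

instance : ((glueData f N hN).functor ⋙ Scheme.forget).IsLocallyDirected :=
  Scheme.Cover.RelativeGluingData.instIsLocallyDirectedI₀CompFunctorForgetOfIsThin ..

/-- The glued scheme. -/
noncomputable def space : Scheme.{u} := (glueData f N hN).glued

/-- Its map to the base. -/
noncomputable def proj : space f N hN ⟶ Y := (glueData f N hN).toBase

/-- The chart over an affine open. -/
noncomputable def chart (U : Y.affineOpens) : Spec (.of (sub f N U.1)) ⟶ space f N hN :=
  (glueData f N hN).cover.f U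

instance (U : Y.affineOpens) : IsOpenImmersion (chart f N hN U) :=
  (glueData f N hN).cover.map_prop _

@[reassoc]
theorem chart_proj (U : Y.affineOpens) :
    chart f N hN U ≫ proj f N hN = Spec.map ((diagMap f N).app (op U.1)) ≫ U.2.fromSpec :=
  colimit.ι_desc _ _

theorem proj_preimage (U : Y.affineOpens) :
    proj f N hN ⁻¹ᵁ U.1 = (chart f N hN U).opensRange := by
  simpa using! (glueData f N hN).toBase_preimage_eq_opensRange_ι U

instance : IsAffineHom (proj f N hN) where
  isAffine_preimage U hU := by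
    rw [proj_preimage f N hN ⟨U, hU⟩]
    exact isAffineOpen_opensRange (chart f N hN ⟨U, hU⟩)

/-- The canonical map to the glued scheme. -/
noncomputable def toSpace : X ⟶ space f N hN :=
  Scheme.OpenCover.glueMorphismsOfLocallyDirected
    ((directedCover Y).pullback₁ f)
    (fun U ↦ (pullbackRestrictIsoRestrict f _).hom ≫ (f ⁻¹ᵁ U.1).toSpecΓ ≫
      Spec.map (CommRingCat.ofHom (sub f N U.1).subtype) ≫ chart f N hN U) fun {U V} i ↦ by
  have : (pullbackRestrictIsoRestrict f U.1).inv ≫
      Scheme.Cover.trans ((directedCover Y).pullback₁ f) i ≫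
      (pullbackRestrictIsoRestrict f V.1).hom = X.homOfLE
        (f.preimage_mono (toOpens_mono i.1.1)) := by
    rw [← cancel_mono (Scheme.Opens.ι _)]
    simp +instances [Scheme.Cover.trans, Scheme.Cover.locallyDirectedPullbackCover]
  rw [← Iso.inv_comp_eq, reassoc_of% this, ← Scheme.Opens.toSpecΓ_SpecMap_presheaf_map_assoc,
    ← Spec.map_comp_assoc]
  dsimp [chart, Scheme.Cover.RelativeGluingData.cover_f]
  show _ ≫ _ ≫ colimit.ι (glueData f N hN).functor V = _ ≫ _ ≫ colimit.ι (glueData f N hN).functor U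
  rw [← colimit.w (glueData f N hN).functor i]
  dsimp [glueData, relativeGluingData]
  rw [← Spec.map_comp_assoc]
  rfl

@[reassoc]
theorem ι_toSpace (U : Y.affineOpens) :
    (f ⁻¹ᵁ U.1).ι ≫ toSpace f N hN = (f ⁻¹ᵁ U.1).toSpecΓ ≫
      Spec.map (CommRingCat.ofHom (sub f N U.1).subtype) ≫ chart f N hN U := by
  rw [← cancel_epi (pullbackRestrictIsoRestrict f U.1).hom, ← Category.assoc]
  trans ((directedCover Y).pullback₁ f).f U ≫ toSpace f N hN
  · congr 1; simp; rfl
  delta toSpace
  generalize_proofs _ _ _ _ H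
  exact Scheme.OpenCover.map_glueMorphismsOfLocallyDirected _ _ H _

@[reassoc (attr := simp)]
theorem toSpace_proj : toSpace f N hN ≫ proj f N hN = f := by
  refine Scheme.Cover.hom_ext (X.openCoverOfIsOpenCover _
    (.comap (iSup_affineOpens_eq_top Y) f.base.1)) _ _ fun U ↦ ?_
  refine (ι_toSpace_assoc f N hN U _).trans ?_
  rw [chart_proj, ← Spec.map_comp_assoc]
  change (f ⁻¹ᵁ U.1).toSpecΓ ≫ Spec.map (f.app _) ≫ U.2.fromSpec = (f ⁻¹ᵁ U.1).ι ≫ _
  simp

/-- The functions of the glued scheme over an affine open of the base. -/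
noncomputable def objIso (U : Y.affineOpens) :
    Γ(space f N hN, proj f N hN ⁻¹ᵁ U.1) ≅ .of (sub f N U.1) :=
  (space f N hN).presheaf.mapIso (eqToIso
    (by simpa using! (proj_preimage f N hN U).symm)).op ≪≫
  (chart f N hN U).appIso ⊤ ≪≫ Scheme.ΓSpecIso _

theorem toSpace_app_preimage (U : Y.affineOpens) :
    (toSpace f N hN).app (proj f N hN ⁻¹ᵁ U.1) =
      (objIso f N hN U).hom ≫ CommRingCat.ofHom (sub f N U.1).subtype ≫
      X.presheaf.map (eqToHom (by simp [← Scheme.Hom.comp_preimage])).op := by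
  dsimp [objIso]
  change _ = (space f N hN).presheaf.map (eqToHom (by simp [proj_preimage])).op ≫
      ((chart f N hN U).appIso _).hom ≫ (Scheme.ΓSpecIso _).hom ≫
      CommRingCat.ofHom (sub f N U.1).subtype ≫
      X.presheaf.map (eqToHom (by simp [← Scheme.Hom.comp_preimage])).op
  have H : (toSpace f N hN) ⁻¹ᵁ proj f N hN ⁻¹ᵁ U.1 =
      (f ⁻¹ᵁ U.1).ι ''ᵁ (((f ⁻¹ᵁ U.1).ι ≫ toSpace f N hN) ⁻¹ᵁ proj f N hN ⁻¹ᵁ U.1) := by
    simp [← Scheme.Hom.comp_preimage]
  convert! congr($(Scheme.Hom.congr_app (ι_toSpace f N hN U) (proj f N hN ⁻¹ᵁ U.1)) ≫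
    X.presheaf.map (eqToHom H).op) using 1
  · simp [Scheme.Hom.app_eq_appLE]
  dsimp
  simp only [eqToHom_op, Scheme.Hom.appIso_hom, Category.assoc, Scheme.Hom.naturality_assoc, eqToHom_unop,
    ← Functor.map_comp_assoc, eqToHom_map (TopologicalSpace.Opens.map _), eqToHom_trans]
  congr 1
  rw [← IsIso.eq_inv_comp, ← Functor.map_inv, inv_eqToHom]
  simp [← Functor.map_comp, Scheme.Opens.toSpecΓ_appTop,
    Scheme.ΓSpecIso_naturality_assoc (CommRingCat.ofHom _)]
  rfl

theorem toSpace_app_injective (U : Y.affineOpens) :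
    Function.Injective ((toSpace f N hN).app (proj f N hN ⁻¹ᵁ U.1)) := by
  rw [toSpace_app_preimage]
  intro a b h
  exact (ConcreteCategory.bijective_of_isIso (objIso f N hN U).hom).1
    (Subtype.val_injective ((ConcreteCategory.bijective_of_isIso _).1 h))

theorem mem_range_toSpace_app (U : Y.affineOpens) {x : Γ(X, f ⁻¹ᵁ U.1)} (hx : x ∈ sub f N U.1) :
    X.presheaf.map (eqToHom (by simp [← Scheme.Hom.comp_preimage])).op x ∈
      Set.range ((toSpace f N hN).app (proj f N hN ⁻¹ᵁ U.1)) := by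
  refine ⟨(objIso f N hN U).inv ⟨x, hx⟩, ?_⟩
  rw [toSpace_app_preimage]
  simp

theorem isFinite_proj {κ : Type*} (V : κ → Y.affineOpens) (hV : ⨆ j, (V j).1 = ⊤)
    (h : ∀ j, ((diagMap f N).app (op (V j).1)).hom.Finite) : IsFinite (proj f N hN) := by
  rw [IsZariskiLocalAtTarget.iff_of_iSup_eq_top (P := @IsFinite) _ hV]
  intro j
  let e := IsOpenImmersion.isoOfRangeEq (proj f N hN ⁻¹ᵁ (V j).1).ι (chart f N hN (V j))
      (by simpa using congr($(proj_preimage f N hN (V j)).1))
  rw [← MorphismProperty.cancel_left_of_respectsIso @IsFinite e.inv,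
    ← MorphismProperty.cancel_right_of_respectsIso @IsFinite _ (V j).2.isoSpec.hom]
  convert! (IsFinite.SpecMap_iff _).mpr (h j)
  rw [← cancel_mono (V j).2.fromSpec]
  simp [IsAffineOpen.isoSpec_hom, e, chart_proj]

end Groth.Agent.AlgGlue
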