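import Groth.Agent.AlgGlue.Models
import Groth.Agent.MorLib.EventuallyCI
import Groth.Agent.MorLib.IdealFG3
import Groth.Agent.S9199

/-!
# Morphisms of finite type as closed subschemes of morphisms of finite presentation
-/

universe u

set_option autoImplicit false
set_option backward.isDefEq.respectTransparency false
set_option backward.isDefEq.respectTransparency.types false
set_option linter.style.haveILetI false

open CategoryTheory CategoryTheory.Limits AlgebraicGeometry TopologicalSpace Opposite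

namespace Groth.Agent.AlgGlue

/-- A morphism locally of finite type from a qcqs scheme is a closed subscheme of a morphism of
finite presentation, separated if it is separated. -/
theorem exists_closedImmersion_fp {X S : Scheme.{u}} (f : X ⟶ S) [LocallyOfFiniteType f]
    [CompactSpace X] [QuasiSeparatedSpace X] [QuasiSeparatedSpace S] :
    ∃ (Y : Scheme.{u}) (g : Y ⟶ S) (j : X ⟶ Y), IsClosedImmersion j ∧ j ≫ g = f ∧
      LocallyOfFinitePresentation g ∧ QuasiCompact g ∧ QuasiSeparated g ∧ CompactSpace Y ∧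
      QuasiSeparatedSpace Y ∧ (IsSeparated f → IsSeparated g) := by
  obtain ⟨I, hI, hdir, hne, D, t, π, hw, hlim, hπ, hprops, haff, -⟩ := exists_fp_system f
  haveI : ∀ (i j : Iᵒᵖ) (a : i ⟶ j), IsAffineHom (D.map a) := fun i j a => haff a
  haveI : ∀ {i j : Iᵒᵖ} (a : i ⟶ j), IsAffineHom (D.map a) := fun a => haff a
  haveI : ∀ i, CompactSpace (D.obj i) := fun i => (hprops i).2.2.2.1
  haveI : ∀ i, QuasiSeparatedSpace (D.obj i) := fun i => (hprops i).2.2.2.2
  let c : Cone D := Cone.mk X
    { app := π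
      naturality := fun i j a => (Category.id_comp _).trans (hw a).symm }
  let i₀ : Iᵒᵖ := op hne.some
  obtain ⟨i₁, hi₁⟩ : ∃ i₁ : Iᵒᵖ, IsSeparated f → ∀ i, (i ⟶ i₁) → IsSeparated (t.app i) := by
    by_cases hsep : IsSeparated f
    · haveI : IsSeparated (c.π.app i₀ ≫ t.app i₀) := by
        show IsSeparated (π i₀ ≫ t.app i₀)
        rw [hπ]; exact hsep
      obtain ⟨i₁, h⟩ := Groth.Agent.S9199.result S D t c hlim i₀
      exact ⟨i₁, fun _ => h⟩
    · exact ⟨i₀, fun h => absurd h hsep⟩
  haveI : LocallyOfFiniteType (𝟙 X ≫ c.π.app i₁ ≫ t.app i₁) := by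
    show LocallyOfFiniteType (𝟙 X ≫ π i₁ ≫ t.app i₁)
    rw [hπ, Category.id_comp]; infer_instance
  haveI : IsClosedImmersion (𝟙 c.pt) := inferInstance
  obtain ⟨j, hj⟩ :=
    Groth.Agent.MorLib.EvCI.exists_isClosedImmersion (c := c) hlim i₁ (t.app i₁) (𝟙 c.pt)
  have h := hj j (𝟙 j)
  rw [Category.id_comp] at h
  exact ⟨D.obj j.left, t.app j.left, π j.left, h, hπ _, (hprops _).1, (hprops _).2.1,
    (hprops _).2.2.1, inferInstance, inferInstance, fun hs => hi₁ hs _ j.hom⟩

/-- A closed subscheme of a qcqs scheme over the base, as a limit over the base. -/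
theorem exists_subscheme_system {X Y S : Scheme.{u}} (g : Y ⟶ S) [CompactSpace Y]
    [QuasiSeparatedSpace Y] (j : X ⟶ Y) [IsClosedImmersion j] (f : X ⟶ S) (hf : j ≫ g = f) :
    ∃ (c : Cone (MorLib.IdealFG.subDiagram g j.ker)) (_ : IsLimit c),
      Nonempty (c.pt ≅ Over.mk f) := by
  refine ⟨MorLib.IdealFG.subCone g j.ker, MorLib.IdealFG.isLimitSubCone g j.ker,
    ⟨Over.isoMk (asIso j.toImage).symm ?_⟩⟩
  show inv j.toImage ≫ f = j.ker.subschemeι ≫ g
  rw [IsIso.inv_comp_eq, ← hf, ← Category.assoc]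
  exact congrArg (· ≫ g) j.toImage_imageι.symm

theorem subDiagram_props {Y S : Scheme.{u}} (g : Y ⟶ S) [LocallyOfFinitePresentation g]
    [QuasiCompact g] [QuasiSeparated g] [CompactSpace Y] [QuasiSeparatedSpace Y]
    (I : Y.IdealSheafData) (K : (MorLib.IdealFG.Sub I)ᵒᵖ) :
    LocallyOfFinitePresentation ((MorLib.IdealFG.subDiagram g I).obj K).hom ∧
      QuasiCompact ((MorLib.IdealFG.subDiagram g I).obj K).hom ∧
      QuasiSeparated ((MorLib.IdealFG.subDiagram g I).obj K).hom ∧
      CompactSpace ((MorLib.IdealFG.subDiagram g I).obj K).left ∧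
      QuasiSeparatedSpace ((MorLib.IdealFG.subDiagram g I).obj K).left := by
  haveI := MorLib.IdealFG.lfp_subschemeι K.unop.2.2
  exact ⟨inferInstanceAs (LocallyOfFinitePresentation (K.unop.1.subschemeι ≫ g)),
    inferInstanceAs (QuasiCompact (K.unop.1.subschemeι ≫ g)),
    inferInstanceAs (QuasiSeparated (K.unop.1.subschemeι ≫ g)),
    QuasiCompact.compactSpace_of_compactSpace K.unop.1.subschemeι,
    quasiSeparatedSpace_of_quasiSeparated K.unop.1.subschemeι⟩

end Groth.Agent.AlgGlue
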