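import Mathlib.AlgebraicGeometry.Noetherian
import Mathlib.AlgebraicGeometry.Morphisms.FinitePresentation

/-!
# Schemes of finite type over the integers
-/

universe u

set_option autoImplicit false
set_option backward.isDefEq.respectTransparency false
set_option backward.isDefEq.respectTransparency.types false
set_option linter.style.haveILetI false
set_option linter.unusedSectionVars false

open CategoryTheory CategoryTheory.Limits AlgebraicGeometry TopologicalSpace Opposite

namespace Groth.Agent.AlgGlue

/-- A quasi-compact scheme of finite type over the integers. -/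
def FTZ (T : Scheme.{u}) : Prop :=
  CompactSpace T ∧ LocallyOfFiniteType (specULiftZIsTerminal.from T)

theorem FTZ.compactSpace {T : Scheme.{u}} (h : FTZ T) : CompactSpace T := h.1

theorem FTZ.isNoetherian {T : Scheme.{u}} (h : FTZ T) : IsNoetherian T := by
  haveI := h.1
  haveI := h.2
  haveI : IsNoetherianRing (ULift.{u} ℤ) := isNoetherianRing_of_ringEquiv ℤ ULift.ringEquiv.symm
  haveI : IsNoetherianRing ↥(CommRingCat.of (ULift.{u} ℤ)) := this
  haveI := LocallyOfFiniteType.isLocallyNoetherian (specULiftZIsTerminal.from T)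
  exact {}

theorem FTZ.quasiSeparatedSpace {T : Scheme.{u}} (h : FTZ T) : QuasiSeparatedSpace T :=
  haveI := h.isNoetherian
  inferInstance

theorem FTZ.isCompact {T : Scheme.{u}} (h : FTZ T) (O : T.Opens) : IsCompact (O : Set T) :=
  haveI := h.isNoetherian
  NoetherianSpace.isCompact _

theorem FTZ.of_hom {T T' : Scheme.{u}} (h : FTZ T) (f : T' ⟶ T) [LocallyOfFiniteType f]
    [QuasiCompact f] : FTZ T' := by
  haveI := h.1
  haveI := h.2
  refine ⟨QuasiCompact.compactSpace_of_compactSpace f, ?_⟩
  rw [specULiftZIsTerminal.hom_ext (specULiftZIsTerminal.from T')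
    (f ≫ specULiftZIsTerminal.from T)]
  infer_instance

theorem FTZ.opens {T : Scheme.{u}} (h : FTZ T) (O : T.Opens) : FTZ O := by
  haveI := h.isNoetherian
  exact h.of_hom O.ι

theorem FTZ.finitePresentation_hom {T T' : Scheme.{u}} (h : FTZ T) (h' : FTZ T') (f : T' ⟶ T) :
    LocallyOfFinitePresentation f ∧ QuasiCompact f ∧ QuasiSeparated f := by
  haveI := h.isNoetherian
  haveI := h'.isNoetherian
  haveI := h'.2
  haveI : LocallyOfFiniteType (f ≫ specULiftZIsTerminal.from T) := by
    rw [specULiftZIsTerminal.hom_ext (f ≫ specULiftZIsTerminal.from T)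
      (specULiftZIsTerminal.from T')]
    exact h'.2
  haveI : LocallyOfFiniteType f := locallyOfFiniteType_of_comp f (specULiftZIsTerminal.from T)
  exact ⟨inferInstance, inferInstance, inferInstance⟩

theorem FTZ.ofSpec {A : Type u} [CommRing A] [Algebra.FiniteType ℤ A] :
    FTZ (Spec (CommRingCat.of A)) := by
  refine ⟨inferInstance, ?_⟩
  let φ : ULift.{u} ℤ →+* A := (algebraMap ℤ A).comp ULift.ringEquiv.toRingHom
  have hφ : φ.FiniteType := RingHom.FiniteType.comp
    (RingHom.finiteType_algebraMap.mpr inferInstance)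
    (RingHom.FiniteType.of_surjective _ ULift.ringEquiv.surjective)
  rw [specULiftZIsTerminal.hom_ext (specULiftZIsTerminal.from _)
    (Spec.map (CommRingCat.ofHom φ))]
  exact (HasRingHomProperty.Spec_iff (P := @LocallyOfFiniteType)).mpr hφ

theorem FTZ.specInt : FTZ (Spec (CommRingCat.of (ULift.{u} ℤ))) := by
  refine ⟨inferInstance, ?_⟩
  rw [specULiftZIsTerminal.hom_ext (specULiftZIsTerminal.from _) (𝟙 _)]
  infer_instance

/-- The functions on an affine open are generated by finitely many as a ring. -/
theorem FTZ.exists_gens {T : Scheme.{u}} (h : FTZ T) {O : T.Opens} (hO : IsAffineOpen O) :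
    ∃ G : Set Γ(T, O), G.Finite ∧ Subring.closure G = ⊤ := by
  haveI := h.2
  let φ := ((specULiftZIsTerminal.from T).appLE ⊤ O le_top).hom
  have hφ : φ.FiniteType :=
    LocallyOfFiniteType.finiteType_appLE (f := specULiftZIsTerminal.from T)
      (isAffineOpen_top _) hO le_top
  let ψ : ULift.{u} ℤ →+* Γ(T, O) := φ.comp (Scheme.ΓSpecIso (CommRingCat.of (ULift.{u} ℤ))).inv.hom
  have hsurj : Function.Surjective (Scheme.ΓSpecIso (CommRingCat.of (ULift.{u} ℤ))).inv :=
    (ConcreteCategory.bijective_of_isIso _).2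
  letI := φ.toAlgebra
  obtain ⟨G, hG⟩ := (RingHom.finiteType_algebraMap.mp hφ).out
  refine ⟨G, G.finite_toSet, eq_top_iff.mpr fun x _ => ?_⟩
  have hx : x ∈ Algebra.adjoin Γ(Spec (CommRingCat.of (ULift.{u} ℤ)), ⊤) (G : Set Γ(T, O)) := by rw [hG]; trivial
  induction hx using Algebra.adjoin_induction with
  | mem z hz => exact Subring.subset_closure hz
  | algebraMap r =>
    obtain ⟨⟨n⟩, rfl⟩ := hsurj r
    have hn : (⟨n⟩ : ULift.{u} ℤ) = ((n : ℤ) : ULift.{u} ℤ) := rfl
    show ψ ⟨n⟩ ∈ _
    rw [hn, map_intCast]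
    exact intCast_mem _ n
  | add z w _ _ hz hw => exact add_mem (hz trivial) (hw trivial)
  | mul z w _ _ hz hw => exact mul_mem (hz trivial) (hw trivial)

theorem FTZ.of_cover {T : Scheme.{u}} {T₁ T₂ : Scheme.{u}} (h₁ : FTZ T₁) (h₂ : FTZ T₂)
    (a : T₁ ⟶ T) (b : T₂ ⟶ T) [IsOpenImmersion a] [IsOpenImmersion b]
    (hcov : a.opensRange ⊔ b.opensRange = ⊤) : FTZ T := by
  haveI := h₁.1
  haveI := h₂.1
  haveI := h₁.2
  haveI := h₂.2
  constructor
  · refine ⟨?_⟩
    rw [← Opens.coe_top, ← hcov, Opens.coe_sup]
    exact (isCompact_range a.continuous).union (isCompact_range b.continuous)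
  · refine IsZariskiLocalAtSource.of_iSup_eq_top (P := @LocallyOfFiniteType)
      (fun i : Bool => if i then a.opensRange else b.opensRange) ?_ fun i => ?_
    · rw [iSup_bool_eq]; simpa using hcov
    · cases i
      · rw [show (if false = true then a.opensRange else b.opensRange) = b.opensRange from rfl,
          ← MorphismProperty.cancel_left_of_respectsIso @LocallyOfFiniteType b.isoOpensRange.hom]
        rw [specULiftZIsTerminal.hom_ext (b.isoOpensRange.hom ≫ _) (specULiftZIsTerminal.from T₂)]
        infer_instance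
      · rw [show (if true = true then a.opensRange else b.opensRange) = a.opensRange from rfl,
          ← MorphismProperty.cancel_left_of_respectsIso @LocallyOfFiniteType a.isoOpensRange.hom]
        rw [specULiftZIsTerminal.hom_ext (a.isoOpensRange.hom ≫ _) (specULiftZIsTerminal.from T₁)]
        infer_instance

end Groth.Agent.AlgGlue
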