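import Groth.Agent.MorLib.IdealFG2

/-!
# A closed subscheme of a limit as the limit of its scheme-theoretic images
-/

universe u

set_option autoImplicit false
set_option backward.isDefEq.respectTransparency false
set_option backward.isDefEq.respectTransparency.types false
set_option linter.style.haveILetI false
set_option linter.unusedSectionVars false

open CategoryTheory CategoryTheory.Limits AlgebraicGeometry TopologicalSpace Opposite
open Scheme (IdealSheafData)

namespace Groth.Agent.AlgGlue.ImageSystem

variable {I : Type u} [SmallCategory I] [IsCofiltered I] {D : I ⥤ Scheme.{u}} (c : Cone D)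
  {X : Scheme.{u}} (j : X ⟶ c.pt)

/-- The ideal of the image at a stage. -/
noncomputable def ideal (i : I) : (D.obj i).IdealSheafData := (j ≫ c.π.app i).ker

theorem ideal_le {i i' : I} (a : i ⟶ i') :
    ideal c j i' ≤ ((ideal c j i).subschemeι ≫ D.map a).ker := by
  rw [← Scheme.IdealSheafData.map_ker, Scheme.IdealSheafData.ker_subschemeι, ideal, ideal,
    Scheme.IdealSheafData.map_ker, Category.assoc, c.w]

/-- The transition maps of the images. -/
noncomputable def map {i i' : I} (a : i ⟶ i') :
    (ideal c j i).subscheme ⟶ (ideal c j i').subscheme :=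
  IsClosedImmersion.lift (ideal c j i').subschemeι ((ideal c j i).subschemeι ≫ D.map a)
    (by rw [Scheme.IdealSheafData.ker_subschemeι]; exact ideal_le c j a)

@[reassoc]
theorem map_ι {i i' : I} (a : i ⟶ i') :
    map c j a ≫ (ideal c j i').subschemeι = (ideal c j i).subschemeι ≫ D.map a :=
  IsClosedImmersion.lift_fac _ _ _

/-- The system of images. -/
noncomputable def diag : I ⥤ Scheme.{u} where
  obj i := (ideal c j i).subscheme
  map a := map c j a
  map_id i := by
    rw [← cancel_mono (ideal c j i).subschemeι, map_ι, D.map_id, Category.comp_id, Category.id_comp]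
  map_comp {i i' i''} a b := by
    rw [← cancel_mono (ideal c j i'').subschemeι, Category.assoc, map_ι, map_ι, map_ι_assoc,
      D.map_comp]

/-- The projections. -/
noncomputable def proj (i : I) : X ⟶ (ideal c j i).subscheme :=
  IsClosedImmersion.lift (ideal c j i).subschemeι (j ≫ c.π.app i)
    (by rw [Scheme.IdealSheafData.ker_subschemeι]; exact le_rfl)

@[reassoc]
theorem proj_ι (i : I) : proj c j i ≫ (ideal c j i).subschemeι = j ≫ c.π.app i :=
  IsClosedImmersion.lift_fac _ _ _

/-- The cone. -/
noncomputable def cone : Cone (diag c j) where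
  pt := X
  π :=
    { app := proj c j
      naturality := fun i i' a => by
        refine (Category.id_comp _).trans ?_
        show proj c j i' = proj c j i ≫ map c j a
        rw [← cancel_mono (ideal c j i').subschemeι, Category.assoc, map_ι, proj_ι, proj_ι_assoc,
          c.w] }

instance isAffineHom_map [∀ {i i' : I} (a : i ⟶ i'), IsAffineHom (D.map a)] {i i' : I} (a : i ⟶ i') :
    IsAffineHom ((diag c j).map a) := by
  haveI : IsAffineHom (map c j a ≫ (ideal c j i').subschemeι) := by
    rw [map_ι]; infer_instance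
  exact IsAffineHom.of_comp (map c j a) (ideal c j i').subschemeι

variable {c j}

/-- The closed subscheme is the limit of its images. -/
theorem nonempty_isLimit (hc : IsLimit c) [∀ {i i' : I} (a : i ⟶ i'), IsAffineHom (D.map a)]
    [∀ i, CompactSpace (D.obj i)] [IsClosedImmersion j] : Nonempty (IsLimit (cone c j)) := by
  classical
  haveI : ∀ i, IsAffineHom (c.π.app i) := fun i => isAffineHom_π_app D c hc i
  let i₀ : I := IsCofiltered.nonempty.some
  have key : ∀ (s : Cone (diag c j)), ∃ l : s.pt ⟶ X,
      ∀ i, l ≫ proj c j i = s.π.app i := by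
    intro s
    let sD : Cone D :=
      { pt := s.pt
        π :=
          { app := fun i => s.π.app i ≫ (ideal c j i).subschemeι
            naturality := fun i i' a => by
              refine (Category.id_comp _).trans ?_
              rw [← s.w a, Category.assoc, Category.assoc]
              exact congrArg (s.π.app i ≫ ·) (map_ι c j a) } }
    let l₀ : s.pt ⟶ c.pt := hc.lift sD
    have hl₀ : ∀ i, l₀ ≫ c.π.app i = s.π.app i ≫ (ideal c j i).subschemeι := fun i => hc.fac sD i
    have hcomap : ∀ i, (ideal c j i).comap (c.π.app i) ≤ l₀.ker := fun i => by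
      rw [← IdealSheafData.le_map_iff_comap_le, Scheme.IdealSheafData.map_ker, hl₀]
      refine le_trans (Scheme.IdealSheafData.ker_subschemeι _).ge ?_
      exact Scheme.Hom.le_ker_comp _ _
    have hle : j.ker ≤ l₀.ker := by
      refine IdealSheafData.le_of_iSup_eq_top (fun U : (D.obj i₀).affineOpens =>
        (⟨c.π.app i₀ ⁻¹ᵁ U.1, U.2.preimage _⟩ : c.pt.affineOpens)) ?_ fun U => ?_
      · rw [← Scheme.Hom.preimage_iSup, iSup_affineOpens_eq_top, Scheme.Hom.preimage_top]
      · intro x hx
        obtain ⟨i, a, t, e, ht⟩ := MorLib.IdealFG.exists_appLE_π_eq hc U.2 x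
        let W : (D.obj i).affineOpens := ⟨D.map a ⁻¹ᵁ U.1, U.2.preimage _⟩
        let VU : c.pt.affineOpens := ⟨c.π.app i₀ ⁻¹ᵁ U.1, U.2.preimage _⟩
        refine hcomap i VU ?_
        rw [ModPairLib.ideal_comap (ideal c j i) (c.π.app i) W VU e]
        rw [← ht]
        refine Ideal.mem_map_of_mem _ ?_
        rw [ideal, Scheme.Hom.ker_apply, RingHom.mem_ker, Scheme.Hom.app_eq_appLE]
        rw [Scheme.Hom.ker_apply, RingHom.mem_ker, Scheme.Hom.app_eq_appLE, ← ht] at hx
        have h1 : (j ≫ c.π.app i) ⁻¹ᵁ W.1 = j ⁻¹ᵁ VU.1 := by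
          rw [Scheme.Hom.comp_preimage]
          congr 1
          show c.π.app i ⁻¹ᵁ D.map a ⁻¹ᵁ U.1 = _
          rw [← Scheme.Hom.comp_preimage, c.w]
        have h2 := MorLib.IdealFG.appLE_appLE_apply j (c.π.app i) (j ≫ c.π.app i) rfl e le_rfl h1.ge t
        replace hx : ((j ≫ c.π.app i).appLE W.1 (j ⁻¹ᵁ VU.1) h1.ge).hom t = 0 := h2.symm.trans hx
        have h3 : X.presheaf.map (eqToHom h1).op
            ((j ≫ c.π.app i).appLE W.1 (j ⁻¹ᵁ VU.1) h1.ge t) = 0 := by rw [hx, map_zero]
        rw [← ConcreteCategory.comp_apply, Scheme.Hom.appLE_map] at h3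
        exact h3
    let l : s.pt ⟶ X := IsClosedImmersion.lift j l₀ hle
    refine ⟨l, fun i => ?_⟩
    rw [← cancel_mono (ideal c j i).subschemeι, Category.assoc, proj_ι, ← Category.assoc,
      IsClosedImmersion.lift_fac, hl₀]
  choose l hl using key
  refine ⟨{ lift := l, fac := fun s i => hl s i, uniq := fun s m hm => ?_ }⟩
  rw [← cancel_mono j]
  refine hc.hom_ext fun i => ?_
  rw [Category.assoc, Category.assoc, ← proj_ι, ← Category.assoc, ← Category.assoc]
  exact congrArg (· ≫ (ideal c j i).subschemeι) ((hm i).trans (hl s i).symm)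

end Groth.Agent.AlgGlue.ImageSystem
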