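import Groth.Agent.AlgGlue.Models
import Mathlib.AlgebraicGeometry.PullbackCarrier

/-!
# An immersion of a morphism locally of finite type into a morphism of finite presentation
-/

universe u

set_option autoImplicit false
set_option backward.isDefEq.respectTransparency false
set_option backward.isDefEq.respectTransparency.types false
set_option linter.style.haveILetI false

open CategoryTheory CategoryTheory.Limits AlgebraicGeometry TopologicalSpace Opposite

namespace Groth.Agent.AlgGlue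

theorem resLE_appTop_topIso_inv {A B : Scheme.{u}} (g : A ⟶ B) {U : B.Opens} {W : A.Opens}
    (e : W ≤ g ⁻¹ᵁ U) (s : Γ(B, U)) :
    (g.resLE U W e).appTop (U.topIso.inv s) = W.topIso.inv (g.appLE U W e s) := by
  apply (ConcreteCategory.bijective_of_isIso W.topIso.hom).1
  refine (appLE_topIso_hom g e (U.topIso.inv s)).symm.trans ?_
  simp only [← ConcreteCategory.comp_apply, Category.assoc, Iso.inv_hom_id,
    Category.comp_id, Category.id_comp]

/-- A morphism locally of finite type with qcqs source immerses into the product of a finite type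
scheme over the integers with the base. -/
theorem exists_immersion_fp {X S : Scheme.{u}} (f : X ⟶ S) [LocallyOfFiniteType f]
    [CompactSpace X] [QuasiSeparatedSpace X] :
    ∃ (X' : Scheme.{u}) (f' : X' ⟶ S) (j : X ⟶ X'), LocallyOfFinitePresentation f' ∧
      QuasiCompact f' ∧ QuasiSeparated f' ∧ IsImmersion j ∧ j ≫ f' = f := by
  classical
  obtain ⟨M⟩ := nonempty_model X
  -- affine opens of `X` over affine opens of `S`
  have hloc : ∀ x : X, ∃ (U : X.affineOpens) (V : S.affineOpens), x ∈ U.1 ∧ U.1 ≤ f ⁻¹ᵁ V.1 := by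
    intro x
    obtain ⟨V, hV, hxV, -⟩ := exists_isAffineOpen_mem_and_subset (x := f x) (U := ⊤) trivial
    obtain ⟨U, hU, hxU, hUV⟩ := exists_isAffineOpen_mem_and_subset (x := x) (U := f ⁻¹ᵁ V) hxV
    exact ⟨⟨U, hU⟩, ⟨V, hV⟩, hxU, hUV⟩
  choose U V hxU hUV using hloc
  obtain ⟨F, hF⟩ := isCompact_univ.elim_finite_subcover (fun x : X => ((U x).1 : Set X))
    (fun x => (U x).1.2) fun x _ => Set.mem_iUnion.2 ⟨x, hxU x⟩
  have hex : ∀ x : F, ∃ (i : M.Aᵒᵖ) (O : (M.D.obj i).Opens),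
      IsAffineOpen O ∧ M.π i ⁻¹ᵁ O = (U x.1).1 := fun x =>
    exists_isAffineOpen_preimage_eq M.D M.cone M.isLimit (U x.1).1 (U x.1).2
  choose i₀ U' hU' hU'pre using hex
  choose G hG using fun x : F =>
    (show (f.appLE (V x.1).1 (U x.1).1 (hUV x.1)).hom.FiniteType from
      LocallyOfFiniteType.finiteType_appLE (f := f) (V x.1).2 (U x.1).2 (hUV x.1)).out
  -- the generators come from stages
  have hgen : ∀ (x : F) (z : Γ(X, (U x.1).1)), ∃ (j : M.Aᵒᵖ) (a : j ⟶ i₀ x)
      (y : Γ(M.D.obj j, M.D.map a ⁻¹ᵁ U' x)) (hle : (U x.1).1 ≤ M.π j ⁻¹ᵁ (M.D.map a ⁻¹ᵁ U' x)),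
      (M.π j).appLE _ _ hle y = z := by
    intro x z
    obtain ⟨j, a, y, hy⟩ := exists_appLE_eq M.D M.cone M.isLimit (i₀ x) (hU' x)
      (X.presheaf.map (eqToHom (hU'pre x)).op z)
    have hle : (U x.1).1 ≤ M.π j ⁻¹ᵁ (M.D.map a ⁻¹ᵁ U' x) := by
      rw [← Scheme.Hom.comp_preimage, M.w]; exact (hU'pre x).ge
    refine ⟨j, a, y, hle, ?_⟩
    have hle' : M.π (i₀ x) ⁻¹ᵁ U' x ≤ M.π j ⁻¹ᵁ (M.D.map a ⁻¹ᵁ U' x) := by
      rw [← Scheme.Hom.comp_preimage, M.w]
    refine (appLE_map_eq (M.π j) hle' (hU'pre x).symm y).trans ?_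
    refine (congrArg (X.presheaf.map (eqToHom (hU'pre x).symm).op) hy).trans ?_
    show (X.presheaf.map (eqToHom (hU'pre x)).op ≫ X.presheaf.map (eqToHom (hU'pre x).symm).op) z = z
    rw [← Functor.map_comp, ← op_comp, eqToHom_trans, eqToHom_refl, op_id,
      CategoryTheory.Functor.map_id]
    rfl
  choose jz az yz hle hyz using hgen
  let allIdx : Finset M.Aᵒᵖ := Finset.univ.image i₀ ∪
    Finset.univ.biUnion (fun x : F => (G x).image (jz x))
  obtain ⟨i, hi⟩ := IsCofiltered.inf_objs_exists allIdx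
  have hi₀ : ∀ x : F, i ⟶ i₀ x := fun x =>
    (hi (Finset.mem_union_left _ (Finset.mem_image_of_mem _ (Finset.mem_univ x)))).some
  have hiz : ∀ (x : F) (z : Γ(X, (U x.1).1)), z ∈ G x → Nonempty (i ⟶ jz x z) := fun x z hz =>
    hi (Finset.mem_union_right _ (Finset.mem_biUnion.2 ⟨x, Finset.mem_univ _,
      Finset.mem_image_of_mem _ hz⟩))
  -- the product
  let tZ := specULiftZIsTerminal.from (M.D.obj i)
  let tS := specULiftZIsTerminal.from S
  obtain ⟨h1, h2, h3⟩ := FTZ.finitePresentation_hom FTZ.specInt (M.ftz i) tZ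
  let X' := pullback tZ tS
  let m : X ⟶ X' := pullback.lift (M.π i) f (specULiftZIsTerminal.hom_ext _ _)
  haveI : ∀ x : F, IsAffine ((M.D.map (hi₀ x) ⁻¹ᵁ U' x : (M.D.obj i).Opens) : Scheme.{u}) :=
    fun x => (hU' x).preimage _
  haveI : ∀ x : F, IsAffine ((V x.1).1 : Scheme.{u}) := fun x => (V x.1).2
  haveI : ∀ x : F, IsAffine ((U x.1).1 : Scheme.{u}) := fun x => (U x.1).2
  let P : F → Scheme.{u} := fun x => pullback ((M.D.map (hi₀ x) ⁻¹ᵁ U' x).ι ≫ tZ) ((V x.1).1.ι ≫ tS)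
  let p : ∀ x : F, P x ⟶ X' := fun x =>
    pullback.map _ _ _ _ (M.D.map (hi₀ x) ⁻¹ᵁ U' x).ι (V x.1).1.ι (𝟙 _) (by simp) (by simp)
  haveI : ∀ x, IsOpenImmersion (p x) := fun x => inferInstance
  have hprange : ∀ x : F, Set.range (p x) =
      (pullback.fst tZ tS) ⁻¹' (M.D.map (hi₀ x) ⁻¹ᵁ U' x : Set (M.D.obj i)) ∩
        (pullback.snd tZ tS) ⁻¹' ((V x.1).1 : Set S) := fun x => by
    rw [Scheme.Pullback.range_map, Scheme.Opens.range_ι, Scheme.Opens.range_ι]
  have hmpre : ∀ x : F, m ⁻¹ᵁ (p x).opensRange = (U x.1).1 := fun x => by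
    ext y
    show m y ∈ Set.range (p x) ↔ _
    rw [hprange]
    have e1 : pullback.fst tZ tS (m y) = M.π i y :=
      congr($(pullback.lift_fst (M.π i) f (specULiftZIsTerminal.hom_ext _ _)) y)
    have e2 : pullback.snd tZ tS (m y) = f y :=
      congr($(pullback.lift_snd (M.π i) f (specULiftZIsTerminal.hom_ext _ _)) y)
    simp only [Set.mem_inter_iff, Set.mem_preimage, SetLike.mem_coe]
    rw [e1, e2]
    rw [show M.π i y ∈ M.D.map (hi₀ x) ⁻¹ᵁ U' x ↔ y ∈ (U x.1).1 by
      show y ∈ M.π i ⁻¹ᵁ (M.D.map (hi₀ x) ⁻¹ᵁ U' x) ↔ _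
      rw [← Scheme.Hom.comp_preimage, M.w]
      exact Iff.of_eq (congrArg (y ∈ ·) (hU'pre x))]
    exact ⟨fun h => h.1, fun h => ⟨h, hUV x.1 h⟩⟩
  have hpiece : ∀ x : F, IsClosedImmersion (m ∣_ (p x).opensRange) := by
    intro x
    have hle₀ : (U x.1).1 ≤ M.π i ⁻¹ᵁ (M.D.map (hi₀ x) ⁻¹ᵁ U' x) := by
      rw [← Scheme.Hom.comp_preimage, M.w]; exact (hU'pre x).ge
    let u : ((U x.1).1 : Scheme.{u}) ⟶ P x :=
      pullback.lift ((M.π i).resLE _ _ hle₀) (f.resLE _ _ (hUV x.1))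
        (specULiftZIsTerminal.hom_ext _ _)
    have hu : u ≫ p x = (U x.1).1.ι ≫ m := by
      apply pullback.hom_ext <;>
        simp [u, p, m, pullback.map, Scheme.Hom.resLE_comp_ι]
    have hcl : IsClosedImmersion u := by
      refine IsClosedImmersion.of_surjective_of_isAffine u fun w => ?_
      obtain ⟨z, rfl⟩ := (ConcreteCategory.bijective_of_isIso (U x.1).1.topIso.inv).2 w
      letI := (f.appLE (V x.1).1 (U x.1).1 (hUV x.1)).hom.toAlgebra
      have hz : z ∈ Algebra.adjoin Γ(S, (V x.1).1) (G x : Set Γ(X, (U x.1).1)) := by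
        rw [hG x]; trivial
      induction hz using Algebra.adjoin_induction with
      | mem z hz =>
        obtain ⟨b⟩ := hiz x z hz
        have hle₁ : M.D.map (hi₀ x) ⁻¹ᵁ U' x ≤ M.D.map b ⁻¹ᵁ (M.D.map (az x z) ⁻¹ᵁ U' x) := by
          rw [← Scheme.Hom.comp_preimage, ← M.D.map_comp,
            show b ≫ az x z = hi₀ x from Subsingleton.elim _ _]
        refine ⟨(pullback.fst _ _ : P x ⟶ _).appTop
          ((M.D.map (hi₀ x) ⁻¹ᵁ U' x).topIso.inv
            ((M.D.map b).appLE _ _ hle₁ (yz x z))), ?_⟩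
        rw [← ConcreteCategory.comp_apply, ← Scheme.Hom.comp_appTop]
        simp only [u, pullback.lift_fst]
        conv_rhs => rw [← hyz x z]
        rw [← appLE_appLE (M.π i) (M.D.map b) (M.w b) hle₁ hle₀ (hle x z) (yz x z)]
        exact (resLE_appTop_topIso_inv (M.π i) hle₀ _)
      | algebraMap v =>
        refine ⟨(pullback.snd _ _ : P x ⟶ _).appTop ((V x.1).1.topIso.inv v), ?_⟩
        rw [← ConcreteCategory.comp_apply, ← Scheme.Hom.comp_appTop]
        simp only [u, pullback.lift_snd]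
        exact resLE_appTop_topIso_inv f (hUV x.1) v
      | add a b _ _ ha hb =>
        obtain ⟨a', ha⟩ := ha
        obtain ⟨b', hb⟩ := hb
        exact ⟨a' + b', by rw [map_add, map_add, ha, hb]⟩
      | mul a b _ _ ha hb =>
        obtain ⟨a', ha⟩ := ha
        obtain ⟨b', hb⟩ := hb
        exact ⟨a' * b', by rw [map_mul, map_mul, ha, hb]⟩
    rw [MorphismProperty.arrow_mk_iso_iff @IsClosedImmersion (morphismRestrictOpensRange m (p x)),
      ← MorphismProperty.cancel_left_of_respectsIso @IsClosedImmersion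
        (IsOpenImmersion.isPullback u (U x.1).1.ι (p x) m hu.symm
          (by rw [Scheme.Opens.opensRange_ι]; exact hmpre x)).flip.isoPullback.hom,
      IsPullback.isoPullback_hom_snd]
    exact hcl
  let O : X'.Opens := ⨆ x : F, (p x).opensRange
  have hmO : Set.range m ⊆ O := by
    rintro _ ⟨y, rfl⟩
    obtain ⟨x, hx, hy⟩ := Set.mem_iUnion₂.1 (hF (Set.mem_univ y))
    exact Opens.mem_iSup.2 ⟨⟨x, hx⟩, (hmpre ⟨x, hx⟩).ge hy⟩
  haveI : IsClosedImmersion (m ∣_ O) := by
    refine IsZariskiLocalAtTarget.of_iSup_eq_top (P := @IsClosedImmersion)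
      (fun x => O.ι ⁻¹ᵁ (p x).opensRange) ?_ fun x => ?_
    · refine top_le_iff.1 fun y _ => ?_
      obtain ⟨x, hx⟩ := Opens.mem_iSup.1 y.2
      exact Opens.mem_iSup.2 ⟨x, hx⟩
    · refine (MorphismProperty.arrow_mk_iso_iff @IsClosedImmersion
        (morphismRestrictRestrict m O _ ≪≫ morphismRestrictEq m ?_)).2 (hpiece x)
      rw [Scheme.Hom.image_preimage_eq_opensRange_inf, Scheme.Opens.opensRange_ι, inf_eq_right]
      exact le_iSup (fun x => (p x).opensRange) x
  have htop : m ⁻¹ᵁ O = ⊤ := top_le_iff.1 fun y _ => hmO ⟨y, rfl⟩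
  have hm : m = (X.topIso.inv ≫ (X.isoOfEq htop).inv) ≫ (m ∣_ O) ≫ O.ι := by
    rw [morphismRestrict_ι, Category.assoc, Scheme.isoOfEq_inv_ι_assoc, ← Category.assoc]
    simp
  haveI : IsImmersion m := by rw [hm]; infer_instance
  exact ⟨X', pullback.snd _ _, m, inferInstance, inferInstance, inferInstance, inferInstance,
    pullback.lift_snd _ _ _⟩

end Groth.Agent.AlgGlue
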