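import Groth.Agent.AlgGlue.UltraSub
import Groth.Agent.MorLib.IdealFG3
import Groth.Agent.MorLib.ProperFT
import Mathlib.AlgebraicGeometry.ValuativeCriterion
import Mathlib.AlgebraicGeometry.Morphisms.Proper

/-!
# A proper closed subscheme has a proper closed neighbourhood of finite presentation
-/

universe u

set_option autoImplicit false
set_option backward.isDefEq.respectTransparency false
set_option backward.isDefEq.respectTransparency.types false
set_option linter.style.haveILetI false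

open CategoryTheory CategoryTheory.Limits AlgebraicGeometry TopologicalSpace Opposite
open Groth.Agent.MorLib.Ultra Groth.Agent.MorLib.IdealFG

namespace Groth.Agent.AlgGlue

/-- A point of a valuation ring lies in a closed subscheme when its generic point does. -/
theorem exists_lift_of_gen {R K : Type u} [CommRing R] [IsDomain R] [Field K] [Algebra R K]
    [IsFractionRing R K] {Z X : Scheme.{u}} (i : Z ⟶ X) [IsClosedImmersion i]
    (l : Spec (CommRingCat.of R) ⟶ X) (a : Spec (CommRingCat.of K) ⟶ Z)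
    (h : a ≫ i = gen R K ≫ l) :
    ∃ l' : Spec (CommRingCat.of R) ⟶ Z, l' ≫ i = l ∧ gen R K ≫ l' = a := by
  let p : pullback i l ⟶ Spec (CommRingCat.of R) := pullback.snd i l
  haveI : IsClosedImmersion p := inferInstanceAs (IsClosedImmersion (pullback.snd i l))
  haveI : IsAffine (pullback i l) := isAffine_of_isAffineHom p
  let e : Spec (CommRingCat.of K) ⟶ pullback i l := pullback.lift a (gen R K) h
  have he : e ≫ p = gen R K := pullback.lift_snd _ _ _
  have hinj : Function.Injective p.appTop := by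
    intro x y hxy
    have h1 : Function.Injective (gen R K).appTop := by
      intro u v huv
      apply (ConcreteCategory.bijective_of_isIso (Scheme.ΓSpecIso (CommRingCat.of R)).hom).1
      apply IsFractionRing.injective R K
      have h2 := congrArg (Scheme.ΓSpecIso (CommRingCat.of K)).hom huv
      rw [← ConcreteCategory.comp_apply, ← ConcreteCategory.comp_apply,
        Scheme.ΓSpecIso_naturality] at h2
      exact h2
    apply h1
    rw [← he, Scheme.Hom.comp_appTop, ConcreteCategory.comp_apply, ConcreteCategory.comp_apply, hxy]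
  haveI : IsIso p.appTop := (ConcreteCategory.isIso_iff_bijective _).2
    ⟨hinj, Scheme.Hom.app_surjective p ⊤ (isAffineOpen_top _)⟩
  haveI : IsIso p := (HasAffineProperty.iff_of_isAffine
    (P := MorphismProperty.isomorphisms Scheme) (f := p)).2 ⟨inferInstance, inferInstance⟩
  refine ⟨inv p ≫ pullback.fst i l, ?_, ?_⟩
  · rw [Category.assoc, pullback.condition, IsIso.inv_hom_id_assoc]
  · rw [← he, Category.assoc, IsIso.hom_inv_id_assoc, pullback.lift_fst]

/-- Over an affine open some member of the system has the existence part of the valuative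
criterion. -/
theorem exists_universallyClosed_sub {Y S : Scheme.{u}} (g : Y ⟶ S) [LocallyOfFiniteType g]
    [QuasiCompact g] [QuasiSeparated g] [CompactSpace Y] [QuasiSeparatedSpace Y] (I : Y.IdealSheafData)
    [UniversallyClosed (I.subschemeι ≫ g)] (V : S.Opens) (hV : IsAffineOpen V) :
    ∃ K : Sub I, ∀ L : Sub I, K ≤ L → UniversallyClosed ((L.1.subschemeι ≫ g) ∣_ V) := by
  haveI : IsAffine (V : Scheme.{u}) := hV
  let W : Scheme.{u} := (g ⁻¹ᵁ V : Y.Opens)
  haveI : CompactSpace W := isCompact_iff_compactSpace.mp (g.isCompact_preimage hV.isCompact)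
  let D : (Sub I)ᵒᵖ ⥤ Scheme.{u} := (Functor.const _).obj (V : Scheme.{u})
  let c : Cone D := { pt := (V : Scheme.{u}), π := 𝟙 _ }
  let b₀ : (Sub I)ᵒᵖ := op ⟨⊥, bot_le, isFG_bot⟩
  let hc : IsLimit c :=
    { lift := fun s => s.π.app b₀
      fac := fun s k => by
        have := s.w (show k ⟶ b₀ from (homOfLE (show b₀.unop ≤ k.unop from (bot_le : (⊥ : Y.IdealSheafData) ≤ k.unop.1))).op)
        simp only [D, c, Functor.const_obj_map, Category.comp_id] at this
        exact (Category.comp_id _).trans this.symm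
      uniq := fun s m hm => by
        rw [← hm b₀]
        exact (Category.comp_id _).symm }
  haveI : ∀ k, IsAffine (D.obj k) := fun _ => inferInstanceAs (IsAffine (V : Scheme.{u}))
  let f₀ : W ⟶ D.obj b₀ := g ∣_ V
  haveI : LocallyOfFiniteType f₀ :=
    IsZariskiLocalAtTarget.restrict (P := @LocallyOfFiniteType) ‹_› V
  let Z : (Sub I)ᵒᵖ → Scheme.{u} := fun k => pullback k.unop.1.subschemeι (g ⁻¹ᵁ V).ι
  let ζ : ∀ k, Z k ⟶ W := fun k => pullback.snd k.unop.1.subschemeι (g ⁻¹ᵁ V).ι
  haveI : ∀ k, IsClosedImmersion (ζ k) := fun k =>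
    inferInstanceAs (IsClosedImmersion (pullback.snd k.unop.1.subschemeι (g ⁻¹ᵁ V).ι))
  obtain ⟨j, φ, hj⟩ := exists_existence_stage_sub hc f₀ Z ζ (by
    intro R K _ _ _ _ _ _ a b hab hfac
    choose a' ha' using hfac
    let x : ∀ L : Sub I, Spec (CommRingCat.of K) ⟶ L.1.subscheme := fun L =>
      a' (op L) ≫ pullback.fst L.1.subschemeι (g ⁻¹ᵁ V).ι
    have hx : ∀ L : Sub I, x L ≫ L.1.subschemeι = a ≫ (g ⁻¹ᵁ V).ι := fun L => by
      show (a' (op L) ≫ pullback.fst _ _) ≫ _ = _
      rw [Category.assoc, pullback.condition, ← Category.assoc]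
      exact congrArg (· ≫ (g ⁻¹ᵁ V).ι) (ha' (op L))
    obtain ⟨m, hm⟩ := exists_lift I x (fun K' L h => by
      rw [← cancel_mono L.1.subschemeι, Category.assoc, Scheme.IdealSheafData.inclusion_subschemeι,
        hx, hx])
    have hmI : m ≫ I.subschemeι = a ≫ (g ⁻¹ᵁ V).ι := by
      rw [← Scheme.IdealSheafData.inclusion_subschemeι b₀.unop.2.1, ← Category.assoc, hm, hx]
    have hsq : m ≫ I.subschemeι ≫ g = gen R K ≫ b ≫ V.ι := by
      rw [reassoc_of% hmI, ← morphismRestrict_ι]
      show a ≫ f₀ ≫ V.ι = _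
      rw [reassoc_of% hab]
      simp [c, D]
    have hex : ValuativeCriterion.Existence (I.subschemeι ≫ g) :=
      Groth.Agent.MorLib.Ultra.existence_of_universallyClosed _
    let sqd : ValuativeCommSq (I.subschemeι ≫ g) :=
      { R := R, K := K, i₁ := m, i₂ := b ≫ V.ι, commSq := ⟨by rw [hsq]⟩ }
    obtain ⟨l, hl₁, hl₂⟩ := (hex sqd).exists_lift
    dsimp only [sqd] at hl₁ hl₂
    let l' : Spec (CommRingCat.of R) ⟶ W := IsOpenImmersion.lift (g ⁻¹ᵁ V).ι (l ≫ I.subschemeι) (by
      rintro _ ⟨t, rfl⟩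
      rw [Scheme.Opens.range_ι]
      show g (I.subschemeι (l t)) ∈ V
      rw [← Scheme.Hom.comp_apply, ← Scheme.Hom.comp_apply, hl₂]
      exact (b t).2)
    have hl' : l' ≫ (g ⁻¹ᵁ V).ι = l ≫ I.subschemeι := IsOpenImmersion.lift_fac _ _ _
    refine ⟨l', ?_, ?_⟩
    · rw [← cancel_mono (g ⁻¹ᵁ V).ι, Category.assoc, hl', ← Category.assoc, hl₁, hmI]
    · rw [← cancel_mono V.ι, Category.assoc]
      show l' ≫ (g ∣_ V) ≫ V.ι = _
      rw [morphismRestrict_ι, reassoc_of% hl', hl₂]
      simp [c, D])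
  refine ⟨j.unop, fun L hL => ?_⟩
  let q : L.1.subscheme ⟶ S := L.1.subschemeι ≫ g
  haveI : QuasiCompact q := inferInstanceAs (QuasiCompact (L.1.subschemeι ≫ g))
  haveI : UniversallyClosed (pullback.snd q V.ι) := by
    refine UniversallyClosed.of_valuativeCriterion _ fun T => ?_
    have hsq := T.commSq.w
    let a : Spec (CommRingCat.of T.K) ⟶ W := IsOpenImmersion.lift (g ⁻¹ᵁ V).ι
      (T.i₁ ≫ pullback.fst q V.ι ≫ L.1.subschemeι) (by
        rintro _ ⟨t, rfl⟩
        rw [Scheme.Opens.range_ι]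
        show g ((T.i₁ ≫ pullback.fst q V.ι ≫ L.1.subschemeι) t) ∈ V
        rw [← Scheme.Hom.comp_apply, Category.assoc, Category.assoc]
        show (T.i₁ ≫ pullback.fst q V.ι ≫ q) t ∈ V
        rw [pullback.condition]
        exact ((T.i₁ ≫ pullback.snd q V.ι) t).2)
    have ha : a ≫ (g ⁻¹ᵁ V).ι = T.i₁ ≫ pullback.fst q V.ι ≫ L.1.subschemeι :=
      IsOpenImmersion.lift_fac _ _ _
    obtain ⟨l, hl₁, hl₂⟩ := hj T.R T.K a T.i₂ (by
      rw [← cancel_mono V.ι, Category.assoc]
      show a ≫ (g ∣_ V) ≫ V.ι = _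
      rw [morphismRestrict_ι, reassoc_of% ha]
      show T.i₁ ≫ pullback.fst q V.ι ≫ q = _
      rw [pullback.condition, reassoc_of% hsq]
      simp [D]) (fun k ρ => by
      refine ⟨pullback.lift (T.i₁ ≫ pullback.fst q V.ι ≫ Scheme.IdealSheafData.inclusion
        (show k.unop.1 ≤ L.1 from le_trans (leOfHom ρ.unop) hL)) a ?_, pullback.lift_snd _ _ _⟩
      rw [Category.assoc, Category.assoc, Scheme.IdealSheafData.inclusion_subschemeι, ha])
    obtain ⟨l', hl'₁, hl'₂⟩ := exists_lift_of_gen L.1.subschemeι (l ≫ (g ⁻¹ᵁ V).ι)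
      (T.i₁ ≫ pullback.fst q V.ι) (by rw [Category.assoc, reassoc_of% hl₁, ha])
    have hl'V : l' ≫ q = T.i₂ ≫ V.ι := by
      show l' ≫ L.1.subschemeι ≫ g = _
      rw [reassoc_of% hl'₁, ← morphismRestrict_ι]
      show l ≫ f₀ ≫ V.ι = _
      rw [reassoc_of% hl₂]
      simp [D]
    refine ⟨⟨{ l := pullback.lift l' T.i₂ hl'V, fac_left := ?_, fac_right := pullback.lift_snd _ _ _ }⟩⟩
    apply pullback.hom_ext
    · rw [Category.assoc, pullback.lift_fst]; exact hl'₂
    · rw [Category.assoc, pullback.lift_snd]; exact hsq.symm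
  show UniversallyClosed ((pullbackRestrictIsoRestrict q V).inv ≫ pullback.snd q V.ι)
  infer_instance

/-- A proper closed subscheme is contained in a proper closed subscheme of finite presentation. -/
theorem exists_isProper_sub {Y S : Scheme.{u}} (g : Y ⟶ S) [LocallyOfFiniteType g] [QuasiCompact g]
    [IsSeparated g] [CompactSpace S] [CompactSpace Y] [QuasiSeparatedSpace Y]
    (I : Y.IdealSheafData) [UniversallyClosed (I.subschemeι ≫ g)] :
    ∃ K : Sub I, ∀ L : Sub I, K ≤ L → IsProper (L.1.subschemeι ≫ g) := by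
  classical
  choose K hK using fun V : S.affineOpens => exists_universallyClosed_sub g I V.1 V.2
  obtain ⟨F, hF⟩ := isCompact_univ.elim_finite_subcover (fun V : S.affineOpens => (V.1 : Set S))
    (fun V => V.1.2) fun x _ => by
      obtain ⟨_, ⟨V, hV, rfl⟩, hxV, -⟩ := S.isBasis_affineOpens.exists_subset_of_mem_open
        (Set.mem_univ x) isOpen_univ
      exact Set.mem_iUnion.2 ⟨⟨V, hV⟩, hxV⟩
  haveI : IsDirected (Sub I) (· ≤ ·) := ⟨fun A B =>
    ⟨⟨A.1 ⊔ B.1, sup_le A.2.1 B.2.1, isFG_sup A.2.2 B.2.2⟩,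
      (le_sup_left : A.1 ≤ A.1 ⊔ B.1), (le_sup_right : B.1 ≤ A.1 ⊔ B.1)⟩⟩
  haveI : Nonempty (Sub I) := ⟨⟨⊥, bot_le, isFG_bot⟩⟩
  obtain ⟨K₀, hK₀⟩ := Directed.finset_le (r := (· ≤ ·)) (f := id) (directed_id (α := Sub I))
    (F.image K)
  refine ⟨K₀, fun L hL => ?_⟩
  haveI : UniversallyClosed (L.1.subschemeι ≫ g) := by
    refine IsZariskiLocalAtTarget.of_iSup_eq_top (P := @UniversallyClosed) (fun V : F => V.1.1) ?_
      fun V => hK V.1 L ((hK₀ _ (Finset.mem_image_of_mem K V.2)).trans hL)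
    refine top_le_iff.1 fun x _ => ?_
    obtain ⟨V, hV, hxV⟩ := Set.mem_iUnion₂.1 (hF (Set.mem_univ x))
    exact Opens.mem_iSup.2 ⟨⟨V, hV⟩, hxV⟩
  exact ⟨⟩

end Groth.Agent.AlgGlue
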