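import Groth.Agent.AlgGlue.AffExt

/-!
# Finitely generated subrings of pairs of functions giving an affine extension
-/

universe u

set_option autoImplicit false
set_option backward.isDefEq.respectTransparency false
set_option backward.isDefEq.respectTransparency.types false
set_option linter.style.haveILetI false
set_option linter.unusedSectionVars false

open CategoryTheory CategoryTheory.Limits AlgebraicGeometry TopologicalSpace Opposite

namespace Groth.Agent.AlgGlue.RelSub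

variable {W₀ U : Scheme.{u}}

/-- The affine scheme of a subring of pairs. -/
noncomputable abbrev aff (A : Subring (Γ(W₀, ⊤) × Γ(U, ⊤))) : Scheme.{u} := Spec (CommRingCat.of A)

/-- The first projection. -/
abbrev prFst (A : Subring (Γ(W₀, ⊤) × Γ(U, ⊤))) : CommRingCat.of A ⟶ Γ(W₀, ⊤) :=
  CommRingCat.ofHom ((RingHom.fst Γ(W₀, ⊤) Γ(U, ⊤)).comp A.subtype)

/-- The second projection. -/
abbrev prSnd (A : Subring (Γ(W₀, ⊤) × Γ(U, ⊤))) : CommRingCat.of A ⟶ Γ(U, ⊤) :=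
  CommRingCat.ofHom ((RingHom.snd Γ(W₀, ⊤) Γ(U, ⊤)).comp A.subtype)

/-- The map from the first factor. -/
noncomputable def β (A : Subring (Γ(W₀, ⊤) × Γ(U, ⊤))) : W₀ ⟶ aff A :=
  W₀.toSpecΓ ≫ Spec.map (prFst A)

/-- The map from the second factor. -/
noncomputable def γ (A : Subring (Γ(W₀, ⊤) × Γ(U, ⊤))) : U ⟶ aff A :=
  U.toSpecΓ ≫ Spec.map (prSnd A)

/-- A member of the subring as a function on its spectrum. -/
noncomputable abbrev fn (A : Subring (Γ(W₀, ⊤) × Γ(U, ⊤))) (p : A) : Γ(aff A, ⊤) :=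
  (Scheme.ΓSpecIso (CommRingCat.of A)).inv p

theorem appTop_toSpecΓ {Z : Scheme.{u}} {R : CommRingCat.{u}} (φ : R ⟶ Γ(Z, ⊤)) (p : R) :
    (Z.toSpecΓ ≫ Spec.map φ).appTop ((Scheme.ΓSpecIso R).inv p) = φ p := by
  rw [Scheme.Hom.comp_appTop, Scheme.toSpecΓ_appTop, ← ConcreteCategory.comp_apply,
    ← Scheme.ΓSpecIso_inv_naturality_assoc, Iso.inv_hom_id, Category.comp_id]

theorem β_fn (A : Subring (Γ(W₀, ⊤) × Γ(U, ⊤))) (p : A) : (β A).appTop (fn A p) = p.1.1 :=
  appTop_toSpecΓ (prFst A) p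

theorem γ_fn (A : Subring (Γ(W₀, ⊤) × Γ(U, ⊤))) (p : A) : (γ A).appTop (fn A p) = p.1.2 :=
  appTop_toSpecΓ (prSnd A) p

variable {W : Scheme.{u}} (j : W ⟶ U) (a : W ⟶ W₀) {κ : Type u} (r' : κ → Γ(W₀, ⊤))
  (r : κ → Γ(U, ⊤))

/-- The compatible pairs. -/
noncomputable def eqPairs : Subring (Γ(W₀, ⊤) × Γ(U, ⊤)) :=
  ((a.appTop).hom.comp (RingHom.fst _ _)).eqLocus ((j.appTop).hom.comp (RingHom.snd _ _))

theorem mem_eqPairs {p : Γ(W₀, ⊤) × Γ(U, ⊤)} :
    p ∈ eqPairs j a ↔ a.appTop p.1 = j.appTop p.2 := Iff.rfl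

/-- A subring of pairs defining an extension. -/
structure Good (A : Subring (Γ(W₀, ⊤) × Γ(U, ⊤))) : Prop where
  fg : ∃ E : Set (Γ(W₀, ⊤) × Γ(U, ⊤)), E.Finite ∧ A = Subring.closure E
  le : A ≤ eqPairs j a
  mem : ∀ k, (r' k, r k) ∈ A
  isIso : ∀ k, IsIso (β A ∣_ (aff A).basicOpen (fn A ⟨_, mem k⟩))

variable {j a r' r}

theorem Good.finiteType {A : Subring (Γ(W₀, ⊤) × Γ(U, ⊤))} (h : Good j a r' r A) :
    Algebra.FiniteType ℤ A := by
  obtain ⟨E, hE, rfl⟩ := h.fg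
  refine ⟨⟨(hE.preimage (f := (Subtype.val : Subring.closure E → _))
    Subtype.val_injective.injOn).toFinset, eq_top_iff.mpr fun z _ => ?_⟩⟩
  rw [Set.Finite.coe_toFinset]
  suffices H : ∀ x (hx : x ∈ Subring.closure E), (⟨x, hx⟩ : Subring.closure E) ∈
      Algebra.adjoin ℤ (Subtype.val ⁻¹' E : Set (Subring.closure E)) from H z.1 z.2
  intro x hx
  induction hx using Subring.closure_induction with
  | mem x hx => exact Algebra.subset_adjoin hx
  | zero => exact zero_mem _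
  | one => exact one_mem _
  | add x y _ _ hx hy => exact add_mem hx hy
  | neg x _ hx => exact neg_mem hx
  | mul x y _ _ hx hy => exact mul_mem hx hy

theorem Good.ftz {A : Subring (Γ(W₀, ⊤) × Γ(U, ⊤))} (h : Good j a r' r A) : FTZ (aff A) :=
  haveI := h.finiteType
  FTZ.ofSpec

theorem Good.preimage_basicOpen {A : Subring (Γ(W₀, ⊤) × Γ(U, ⊤))} (h : Good j a r' r A) (k : κ) :
    β A ⁻¹ᵁ (aff A).basicOpen (fn A ⟨_, h.mem k⟩) = W₀.basicOpen (r' k) := by
  rw [Scheme.preimage_basicOpen_top, β_fn]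

theorem Good.isOpenImmersion {A : Subring (Γ(W₀, ⊤) × Γ(U, ⊤))} (h : Good j a r' r A)
    (hcov : ⨆ k, W₀.basicOpen (r' k) = ⊤) : IsOpenImmersion (β A) :=
  isOpenImmersion_of_isIso_restrict (β A) (fun k => (aff A).basicOpen (fn A ⟨_, h.mem k⟩))
    (by simp only [Scheme.Hom.preimage_iSup, h.preimage_basicOpen, hcov]) h.isIso

theorem Good.range_eq {A : Subring (Γ(W₀, ⊤) × Γ(U, ⊤))} (h : Good j a r' r A)
    (hcov : ⨆ k, W₀.basicOpen (r' k) = ⊤) :
    Set.range (β A) = ↑(⨆ k, (aff A).basicOpen (fn A ⟨_, h.mem k⟩)) := by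
  refine subset_antisymm ?_ ?_
  · rintro _ ⟨w, rfl⟩
    obtain ⟨k, hk⟩ := Opens.mem_iSup.1 (hcov.ge (Set.mem_univ w))
    exact Opens.mem_iSup.2 ⟨k, (h.preimage_basicOpen k).ge hk⟩
  · intro x hx
    obtain ⟨k, hk⟩ := Opens.mem_iSup.1 hx
    haveI := h.isIso k
    obtain ⟨y, hy⟩ := (β A ∣_ (aff A).basicOpen (fn A ⟨_, h.mem k⟩)).surjective ⟨x, hk⟩
    exact ⟨y.1, (morphismRestrict_base_coe _ _ y).symm.trans (congrArg Subtype.val hy)⟩

variable (j a r' r)

set_option maxHeartbeats 800000 in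
/-- Every finite set of compatible pairs lies in a good subring. -/
theorem exists_good [IsAffine U] [IsOpenImmersion j] [CompactSpace W] (hW₀ : FTZ W₀) [Finite κ]
    (hrr : ∀ k, a.appTop (r' k) = j.appTop (r k))
    (hr : ∀ k, U.basicOpen (r k) ≤ j.opensRange)
    (haff : ∀ k, IsAffineOpen (W₀.basicOpen (r' k)))
    (F : Set (Γ(W₀, ⊤) × Γ(U, ⊤))) (hF : F.Finite) (hFA : F ⊆ eqPairs j a) :
    ∃ A, Good j a r' r A ∧ F ⊆ A := by
  classical
  haveI := hW₀.compactSpace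
  haveI := hW₀.quasiSeparatedSpace
  choose G hGfin hGgen using fun k => hW₀.exists_gens (haff k)
  choose num nm hnum using fun k (z : Γ(W₀, W₀.basicOpen (r' k))) =>
    exists_restrict_eq_mul_pow (r' k) (O := W₀.basicOpen (r' k)) rfl z
  choose M v hv using fun k (z : Γ(W₀, W₀.basicOpen (r' k))) =>
    exists_extend j (r k) (hr k) (a.appTop (nm k z))
  let E : Set (Γ(W₀, ⊤) × Γ(U, ⊤)) := F ∪ Set.range (fun k => (r' k, r k)) ∪
    ⋃ k, (fun z => (nm k z * r' k ^ M k z, v k z)) '' G k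
  have hE : E.Finite :=
    (hF.union (Set.finite_range _)).union (Set.finite_iUnion fun k => (hGfin k).image _)
  let A := Subring.closure E
  have hA : A ≤ eqPairs j a := by
    refine Subring.closure_le.mpr ?_
    rintro p ((hp | ⟨k, rfl⟩) | hp)
    · exact hFA hp
    · exact hrr k
    · obtain ⟨k, z, -, rfl⟩ := Set.mem_iUnion.1 hp
      show a.appTop (nm k z * r' k ^ M k z) = j.appTop (v k z)
      rw [hv, map_mul, map_pow, hrr]
  have ht : ∀ k, (r' k, r k) ∈ A := fun k =>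
    Subring.subset_closure (.inl (.inr ⟨k, rfl⟩))
  refine ⟨A, ⟨⟨E, hE, rfl⟩, hA, ht, fun k => ?_⟩,
    fun p hp => Subring.subset_closure (.inl (.inl hp))⟩
  have hpre : β A ⁻¹ᵁ (aff A).basicOpen (fn A ⟨_, ht k⟩) = W₀.basicOpen (r' k) := by
    rw [Scheme.preimage_basicOpen_top, β_fn]
  refine isIso_restrict_basicOpen_top (β A) _ (by rw [hpre]; exact haff k) ?_ ?_
  · intro c hc
    obtain ⟨⟨⟨c₁, c₂⟩, hcA⟩, rfl⟩ :=
      (ConcreteCategory.bijective_of_isIso (Scheme.ΓSpecIso (CommRingCat.of A)).inv).2 c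
    have hc1 : c₁ = 0 := (β_fn A ⟨(c₁, c₂), hcA⟩).symm.trans hc
    have hc2 : j.appTop c₂ = 0 := by
      have := hA hcA
      change a.appTop c₁ = j.appTop c₂ at this
      rw [hc1, map_zero] at this
      exact this.symm
    haveI : IsIso (j.app (U.basicOpen (r k))) := j.isIso_app _ (hr k)
    have hz : U.presheaf.map (homOfLE (le_top : U.basicOpen (r k) ≤ ⊤)).op c₂ = 0 := by
      apply (ConcreteCategory.bijective_of_isIso (j.app (U.basicOpen (r k)))).1
      rw [map_zero]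
      have := congr($(j.naturality (homOfLE (le_top : U.basicOpen (r k) ≤ ⊤)).op).hom c₂)
      refine this.trans ?_
      show W.presheaf.map _ (j.appTop c₂) = 0
      rw [hc2, map_zero]
    obtain ⟨m, hm⟩ := exists_pow_eq_of_restrict_eq (r k) rfl (y := 0) (hz.trans (map_zero _).symm)
    refine ⟨m, ?_⟩
    rw [← map_pow, ← map_mul]
    refine (congrArg (Scheme.ΓSpecIso (CommRingCat.of A)).inv (Subtype.ext ?_)).trans (map_zero _)
    show (r' k ^ m * c₁, r k ^ m * c₂) = (0 : Γ(W₀, ⊤) × Γ(U, ⊤))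
    rw [hc1, mul_zero, hm, mul_zero]
    rfl
  · let e := W₀.presheaf.map (eqToHom hpre).op
    refine ⟨e '' G k, ?_, ?_⟩
    · exact closure_image_eq_top e.hom (ConcreteCategory.bijective_of_isIso e).2 (hGgen k)
    · rintro _ ⟨z, hz, rfl⟩
      let p : A := ⟨(nm k z * r' k ^ M k z, v k z),
        Subring.subset_closure (.inr (Set.mem_iUnion.2 ⟨k, z, hz, rfl⟩))⟩
      refine ⟨num k z + M k z, fn A p, ?_⟩
      rw [β_fn A p, β_fn]
      exact restrict_mul_pow_eq hpre (hnum k z) (M k z)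

end Groth.Agent.AlgGlue.RelSub
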