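import Groth.Agent.AlgGlue.RelModel
import Groth.Agent.AlgGlue.RelSubring

/-!
# Gluing an affine scheme to a model of a scheme
-/

universe u

set_option autoImplicit false
set_option backward.isDefEq.respectTransparency false
set_option backward.isDefEq.respectTransparency.types false
set_option linter.style.haveILetI false
set_option linter.unusedSectionVars false
set_option linter.unusedVariables false

open CategoryTheory CategoryTheory.Limits AlgebraicGeometry TopologicalSpace Opposite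

namespace Groth.Agent.AlgGlue

theorem exists_stage_functions {I : Type u} [SmallCategory I] [IsCofiltered I]
    (D : I ⥤ Scheme.{u}) (c : Cone D) (hc : IsLimit c)
    [∀ {i j : I} (a : i ⟶ j), IsAffineHom (D.map a)] (hD : ∀ i, FTZ (D.obj i))
    {U : Scheme.{u}} [IsAffine U] (j : c.pt ⟶ U) [IsOpenImmersion j] {κ : Type u} [Finite κ]
    (r : κ → Γ(U, ⊤)) (hrle : ∀ k, U.basicOpen (r k) ≤ j.opensRange)
    (hrcov : ⨆ k, j ⁻¹ᵁ U.basicOpen (r k) = ⊤) :
    ∃ (i : I) (r' : κ → Γ(D.obj i, ⊤)), (∀ k, (c.π.app i).appTop (r' k) = j.appTop (r k)) ∧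
      (∀ k, IsAffineOpen ((D.obj i).basicOpen (r' k))) ∧ ⨆ k, (D.obj i).basicOpen (r' k) = ⊤ := by
  classical
  haveI : ∀ i, CompactSpace (D.obj i) := fun i => (hD i).compactSpace
  haveI : ∀ i, QuasiSeparatedSpace (D.obj i) := fun i => (hD i).quasiSeparatedSpace
  choose q t ht using fun k => exists_appTop_π_eq_of_isLimit D c hc (j.appTop (r k))
  obtain ⟨i₀, hi₀⟩ := IsCofiltered.inf_objs_exists ((Set.finite_range q).toFinset : Finset I)
  have b : ∀ k, i₀ ⟶ q k := fun k => (hi₀ ((Set.finite_range q).mem_toFinset.mpr ⟨k, rfl⟩)).some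
  let r₀ : ∀ k, Γ(D.obj i₀, ⊤) := fun k => (D.map (b k)).appTop (t k)
  have hr₀ : ∀ k, (c.π.app i₀).appTop (r₀ k) = j.appTop (r k) := fun k => by
    rw [ht k]
    show (c.π.app i₀).appTop ((D.map (b k)).appTop (t k)) = (c.π.app (q k)).appTop (t k)
    rw [← c.w (b k)]
    rfl
  have hpre : ∀ k, c.π.app i₀ ⁻¹ᵁ (D.obj i₀).basicOpen (r₀ k) = j ⁻¹ᵁ U.basicOpen (r k) :=
    fun k => by rw [Scheme.preimage_basicOpen_top, Scheme.preimage_basicOpen_top, hr₀]; rfl
  obtain ⟨i₁, a₁, ha₁⟩ := exists_map_eq_top D c hc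
    (⨆ k, (D.obj i₀).basicOpen (r₀ k)) (by simp only [Scheme.Hom.preimage_iSup, hpre, hrcov])
  choose qk ak hak using fun k => exists_isAffineOpen_stage D c hc hD i₁
    (D.map a₁ ⁻¹ᵁ (D.obj i₀).basicOpen (r₀ k)) (by
      rw [← Scheme.Hom.comp_preimage, c.w, hpre]
      exact ((isAffineOpen_top U).basicOpen (r k)).preimage_of_isOpenImmersion j (hrle k))
  haveI := Fintype.ofFinite κ
  obtain ⟨i, hi, hS⟩ := IsCofiltered.inf_exists
    (insert i₁ ((Set.finite_range qk).toFinset))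
    (Finset.univ.image fun k => ⟨qk k, i₁,
      Finset.mem_insert_of_mem ((Set.finite_range qk).mem_toFinset.mpr ⟨k, rfl⟩),
      Finset.mem_insert_self _ _, ak k⟩)
  let m : i ⟶ i₁ := hi (Finset.mem_insert_self _ _)
  let r' : ∀ k, Γ(D.obj i, ⊤) := fun k => (D.map (m ≫ a₁)).appTop (r₀ k)
  have hb : ∀ k, (D.obj i).basicOpen (r' k) =
      D.map (m ≫ a₁) ⁻¹ᵁ (D.obj i₀).basicOpen (r₀ k) := fun k =>
    (Scheme.preimage_basicOpen_top _ _).symm
  refine ⟨i, r', fun k => ?_, fun k => ?_, ?_⟩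
  · rw [← hr₀, ← c.w (m ≫ a₁)]
    rfl
  · rw [hb, D.map_comp, Scheme.Hom.comp_preimage]
    have e : hi (Finset.mem_insert_of_mem ((Set.finite_range qk).mem_toFinset.mpr ⟨k, rfl⟩)) ≫
        ak k = m := hS _ _ (Finset.mem_image.mpr ⟨k, Finset.mem_univ _, rfl⟩)
    rw [← e, D.map_comp, Scheme.Hom.comp_preimage]
    exact (hak k).preimage _
  · simp only [hb, D.map_comp, Scheme.Hom.comp_preimage]
    rw [← Scheme.Hom.preimage_iSup, ← Scheme.Hom.preimage_iSup, ha₁, Scheme.Hom.preimage_top]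

variable {V U W : Scheme.{u}} (MV : Model V) (vW : W ⟶ V) [IsOpenImmersion vW]

theorem Model.map_le_self {i : MV.A} (h : i ≤ i) :
    MV.D.map (homOfLE h).op = 𝟙 (MV.D.obj (op i)) := by
  rw [show (homOfLE h).op = 𝟙 (op i) from Subsingleton.elim _ _, CategoryTheory.Functor.map_id]

/-- The restriction of the system to an open of a stage. -/
def stageOpen {i₁ : MV.A} (O : (MV.D.obj (op i₁)).Opens) (i : MV.A) (h : i₁ ≤ i) :
    (MV.D.obj (op i)).Opens :=
  MV.D.map (homOfLE h).op ⁻¹ᵁ O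

variable {i₁ : MV.A} (O : (MV.D.obj (op i₁)).Opens)
  (pre : MV.π (op i₁) ⁻¹' (O : Set (MV.D.obj (op i₁))) = Set.range vW)

include pre in
theorem range_subset_stageOpen (i : MV.A) (h : i₁ ≤ i) :
    Set.range (vW ≫ MV.π (op i)) ⊆ Set.range (stageOpen MV O i h).ι := by
  rintro _ ⟨x, rfl⟩
  rw [Scheme.Opens.range_ι]
  have hx : MV.π (op i₁) (vW x) ∈ O := (Set.ext_iff.1 pre (vW x)).2 ⟨x, rfl⟩
  rw [← MV.w (homOfLE h).op] at hx
  exact hx

/-- The map of `W` to the restricted stage. -/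
noncomputable def toStage (i : MV.A) (h : i₁ ≤ i) : W ⟶ (stageOpen MV O i h : Scheme.{u}) :=
  IsOpenImmersion.lift (stageOpen MV O i h).ι (vW ≫ MV.π (op i))
    (range_subset_stageOpen MV vW O pre i h)

@[reassoc]
theorem toStage_ι (i : MV.A) (h : i₁ ≤ i) :
    toStage MV vW O pre i h ≫ (stageOpen MV O i h).ι = vW ≫ MV.π (op i) :=
  IsOpenImmersion.lift_fac _ _ _

/-- The map between restricted stages. -/
noncomputable def stageRes {i i' : MV.A} (h : i₁ ≤ i) (h' : i ≤ i') :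
    (stageOpen MV O i' (h.trans h') : Scheme.{u}) ⟶ (stageOpen MV O i h : Scheme.{u}) :=
  (MV.D.map (homOfLE h').op).resLE _ _ (by
    rw [stageOpen, stageOpen, ← Scheme.Hom.comp_preimage, ← Functor.map_comp]
    exact le_rfl)

@[reassoc]
theorem stageRes_ι {i i' : MV.A} (h : i₁ ≤ i) (h' : i ≤ i') :
    stageRes MV O h h' ≫ (stageOpen MV O i h).ι =
      (stageOpen MV O i' (h.trans h')).ι ≫ MV.D.map (homOfLE h').op :=
  Scheme.Hom.resLE_comp_ι _ _

@[reassoc]
theorem stageRes_stageRes {i i' i'' : MV.A} (h : i₁ ≤ i) (h' : i ≤ i') (h'' : i' ≤ i'') :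
    stageRes MV O (h.trans h') h'' ≫ stageRes MV O h h' = stageRes MV O h (h'.trans h'') := by
  rw [← cancel_mono (stageOpen MV O i h).ι, Category.assoc, stageRes_ι, stageRes_ι_assoc,
    stageRes_ι, ← Functor.map_comp, ← op_comp, homOfLE_comp]

theorem stageRes_self {i : MV.A} (h : i₁ ≤ i) :
    stageRes MV O h le_rfl = 𝟙 (stageOpen MV O i h : Scheme.{u}) := by
  rw [← cancel_mono (stageOpen MV O i h).ι, stageRes_ι, MV.map_le_self]
  exact (Category.comp_id _).trans (Category.id_comp _).symm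

@[reassoc]
theorem toStage_res {i i' : MV.A} (h : i₁ ≤ i) (h' : i ≤ i') :
    toStage MV vW O pre i' (h.trans h') ≫ stageRes MV O h h' = toStage MV vW O pre i h := by
  rw [← cancel_mono (stageOpen MV O i h).ι, Category.assoc, stageRes_ι, toStage_ι_assoc,
    toStage_ι, MV.w]

instance isAffineHom_stageRes {i i' : MV.A} (h : i₁ ≤ i) (h' : i ≤ i') :
    IsAffineHom (stageRes MV O h h') := by
  haveI : IsAffineHom (MV.D.map (homOfLE h').op) := MV.affine _
  have e : MV.D.map (homOfLE h').op ⁻¹ᵁ stageOpen MV O i h = stageOpen MV O i' (h.trans h') := by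
    rw [stageOpen, stageOpen, ← Scheme.Hom.comp_preimage, ← Functor.map_comp]
    rfl
  exact MorphismProperty.of_isPullback (P := @IsAffineHom) (IsOpenImmersion.isPullback (stageRes MV O h h') (stageOpen MV O i' (h.trans h')).ι
    (stageOpen MV O i h).ι (MV.D.map (homOfLE h').op) (stageRes_ι MV O h h').symm (by
      rw [Scheme.Opens.opensRange_ι, Scheme.Opens.opensRange_ι, e])).flip
    ‹IsAffineHom (MV.D.map (homOfLE h').op)›

/-- The cone with apex `W` over the restricted system. -/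
noncomputable def stageCone : Cone (opensDiagram MV.D (op i₁) O) where
  pt := W
  π :=
    { app := fun Q => toStage MV vW O pre Q.left.unop (leOfHom Q.hom.unop)
      naturality := fun Q Q' f =>
        (Category.id_comp _).trans
          (toStage_res MV vW O pre (leOfHom Q'.hom.unop) (leOfHom f.left.unop)).symm }

/-- The restricted cone is a limit. -/
theorem nonempty_isLimit_stageCone : Nonempty (IsLimit (stageCone MV vW O pre)) := by
  let W' : V.Opens := MV.π (op i₁) ⁻¹ᵁ O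
  have hr : Set.range vW = Set.range W'.ι := by rw [Scheme.Opens.range_ι, ← pre]; rfl
  let e : (stageCone MV vW O pre).pt ≅ (W' : Scheme.{u}) :=
    IsOpenImmersion.isoOfRangeEq vW W'.ι hr
  refine ⟨IsLimit.ofIsoLimit (isLimitOpensCone MV.D MV.cone MV.isLimit (op i₁) O)
    (Cone.ext e fun Q => ?_).symm⟩
  show toStage MV vW O pre Q.left.unop (leOfHom Q.hom.unop) =
    (e.hom : W ⟶ (W' : Scheme.{u})) ≫
      ((MV.π Q.left).resLE (stageOpen MV O Q.left.unop (leOfHom Q.hom.unop)) W' _ :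
        (W' : Scheme.{u}) ⟶ _)
  rw [← cancel_mono (stageOpen MV O Q.left.unop (leOfHom Q.hom.unop)).ι, toStage_ι,
    Category.assoc, Scheme.Hom.resLE_comp_ι]
  exact (IsOpenImmersion.isoOfRangeEq_hom_fac_assoc vW W'.ι hr _).symm

omit pre in
/-- Data at a stage for gluing the affine scheme. -/
structure GlueStage (jW : W ⟶ U) [IsOpenImmersion jW] where
  /-- the stage -/
  i₁ : MV.A
  /-- the open -/
  O : (MV.D.obj (op i₁)).Opens
  pre : MV.π (op i₁) ⁻¹' (O : Set (MV.D.obj (op i₁))) = Set.range vW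
  /-- the index of functions -/
  κ : Type u
  [fin : Finite κ]
  /-- functions on the affine scheme -/
  r : κ → Γ(U, ⊤)
  /-- their extensions -/
  r' : κ → Γ((stageOpen MV O i₁ le_rfl : Scheme.{u}), ⊤)
  hr : ∀ k, U.basicOpen (r k) ≤ jW.opensRange
  hrr : ∀ k, (toStage MV vW O pre i₁ le_rfl).appTop (r' k) = jW.appTop (r k)
  aff : ∀ k, IsAffineOpen ((stageOpen MV O i₁ le_rfl : Scheme.{u}).basicOpen (r' k))
  cov : ⨆ k, (stageOpen MV O i₁ le_rfl : Scheme.{u}).basicOpen (r' k) = ⊤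

omit pre in
/-- Such data exist. -/
theorem nonempty_glueStage [IsAffine U] [CompactSpace W] (jW : W ⟶ U) [IsOpenImmersion jW] :
    Nonempty (GlueStage MV vW jW) := by
  haveI := MV.compactSpace
  obtain ⟨κ, _, r, hrle, hrcov⟩ := exists_finite_basicOpens jW
  obtain ⟨i₀, O₀, -, hpre⟩ := exists_preimage_eq MV.D MV.cone MV.isLimit vW.opensRange
    (isCompact_range vW.continuous)
  have pre₀ : MV.π (op i₀.unop) ⁻¹' (O₀ : Set (MV.D.obj i₀)) = Set.range vW :=
    congrArg SetLike.coe hpre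
  obtain ⟨hlim⟩ := nonempty_isLimit_stageCone MV vW (i₁ := i₀.unop) O₀ pre₀
  haveI : IsOpenImmersion (jW : (stageCone MV vW (i₁ := i₀.unop) O₀ pre₀).pt ⟶ U) :=
    ‹IsOpenImmersion jW›
  obtain ⟨Q, r', hrr, haff, hcov⟩ := exists_stage_functions _ (stageCone MV vW (i₁ := i₀.unop) O₀ pre₀) hlim
    (fun Q => (MV.ftz Q.left).opens _) jW r hrle hrcov
  let i₁ := Q.left.unop
  have h₁ : i₀.unop ≤ i₁ := leOfHom Q.hom.unop
  let O : (MV.D.obj (op i₁)).Opens := stageOpen MV O₀ i₁ h₁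
  have pre : MV.π (op i₁) ⁻¹' (O : Set (MV.D.obj (op i₁))) = Set.range vW := by
    rw [← pre₀, ← MV.w (homOfLE h₁).op]; rfl
  let s : (stageOpen MV O i₁ le_rfl : Scheme.{u}) ⟶ (O : Scheme.{u}) :=
    (MV.D.obj (op i₁)).homOfLE (by rw [stageOpen, MV.map_le_self, Scheme.Hom.id_preimage])
  haveI : IsIso s := by
    have hO : stageOpen MV O i₁ le_rfl = O := by
      rw [stageOpen, MV.map_le_self, Scheme.Hom.id_preimage]
    exact ⟨(MV.D.obj (op i₁)).homOfLE hO.ge, by simp [s], by simp [s]⟩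
  have hs : toStage MV vW O pre i₁ le_rfl ≫ s = toStage MV vW O₀ pre₀ i₁ h₁ := by
    rw [← cancel_mono O.ι, Category.assoc, Scheme.homOfLE_ι, toStage_ι]
    exact (toStage_ι MV vW O₀ pre₀ i₁ h₁).symm
  have hb : ∀ k, (stageOpen MV O i₁ le_rfl : Scheme.{u}).basicOpen (s.appTop (r' k)) =
      s ⁻¹ᵁ (O : Scheme.{u}).basicOpen (r' k) := fun k =>
    (Scheme.preimage_basicOpen_top s (r' k)).symm
  refine ⟨{
    i₁ := i₁
    O := O
    pre := pre
    κ := κ
    r := r
    r' := fun k => s.appTop (r' k)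
    hr := hrle
    hrr := fun k => ?_
    aff := fun k => ?_
    cov := ?_ }⟩
  · refine Eq.trans ?_ (hrr k)
    show (toStage MV vW O pre i₁ le_rfl).appTop (s.appTop (r' k)) =
      (toStage MV vW O₀ pre₀ i₁ h₁).appTop (r' k)
    rw [← hs]; rfl
  · rw [hb]
    exact (haff k).preimage _
  · simp only [hb]
    rw [← Scheme.Hom.preimage_iSup]
    exact (congrArg (s ⁻¹ᵁ ·) hcov).trans s.preimage_top

end Groth.Agent.AlgGlue
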