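import Groth.Agent.AlgGlue.RelStep

/-!
# Existence of models relative to a quasi-compact open
-/

universe u

set_option autoImplicit false
set_option backward.isDefEq.respectTransparency false
set_option backward.isDefEq.respectTransparency.types false
set_option linter.style.haveILetI false
set_option linter.unusedSectionVars false
set_option linter.unusedVariables false

open CategoryTheory CategoryTheory.Limits AlgebraicGeometry TopologicalSpace Opposite

namespace Groth.Agent.AlgGlue

/-- Extension across an affine open. -/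
theorem nonempty_ext_affine {V U S : Scheme.{u}} [QuasiSeparatedSpace S] [IsAffine U] (j : V ⟶ S)
    [IsOpenImmersion j] (u : U ⟶ S) [IsOpenImmersion u]
    (hcov : j.opensRange ⊔ u.opensRange = ⊤) (MV : Model V) : Nonempty (Ext j MV) := by
  haveI := MV.compactSpace
  have hW : IsPullback (pullback.fst j u) (pullback.snd j u) j u := IsPullback.of_hasPullback j u
  haveI : CompactSpace ↥(pullback j u) := by
    refine ⟨(pullback.fst j u).isOpenEmbedding.isInducing.isCompact_iff.2 ?_⟩
    rw [Set.image_univ, Scheme.Pullback.range_fst j u]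
    refine j.isOpenEmbedding.isInducing.isCompact_iff.2 ?_
    show IsCompact (j '' (j ⁻¹' Set.range u))
    rw [Set.image_preimage_eq_inter_range]
    exact QuasiSeparatedSpace.inter_isCompact _ _ u.isOpenEmbedding.isOpen_range
      (isCompact_range u.continuous) j.isOpenEmbedding.isOpen_range (isCompact_range j.continuous)
  obtain ⟨G⟩ := nonempty_glueStage MV (pullback.fst j u) (pullback.snd j u)
  exact G.nonempty_ext hW hcov

theorem nonempty_ext_congr {V S : Scheme.{u}} {j j' : V ⟶ S} [IsOpenImmersion j]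
    [IsOpenImmersion j'] {MV : Model V} (h : j = j') (E : Ext j MV) : Nonempty (Ext j' MV) := by
  subst h
  exact ⟨E⟩

/-- Every model of a quasi-compact open extends. -/
theorem nonempty_ext_open (S : Scheme.{u}) [CompactSpace S] [QuasiSeparatedSpace S] (V : S.Opens)
    (MV : Model V) : Nonempty (Ext V.ι MV) := by
  let P : S.Opens → Prop := fun Z => Nonempty (Ext (S.homOfLE (le_sup_left : V ≤ V ⊔ Z)) MV)
  have hP : P ⊤ := by
    refine compact_open_induction_on (P := P) (⊤ : S.Opens) ?_ ?_ ?_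
    · rw [Opens.coe_top]; exact isCompact_univ
    · have h : V ⊔ ⊥ ≤ V := sup_le le_rfl bot_le
      haveI : IsIso (S.homOfLE (le_sup_left : V ≤ V ⊔ ⊥)) :=
        ⟨S.homOfLE h, by simp, by simp⟩
      exact nonempty_ext_of_isIso _ MV
    · intro Z hZ U hPZ
      obtain ⟨E⟩ := hPZ
      have hle : V ⊔ Z ≤ V ⊔ (Z ⊔ U.1) := sup_le_sup_left le_sup_left _
      have hU : U.1 ≤ V ⊔ (Z ⊔ U.1) := le_sup_of_le_right le_sup_right
      haveI : IsAffine (U.1 : Scheme.{u}) := U.2
      haveI : QuasiSeparatedSpace ↥((V ⊔ (Z ⊔ U.1) : S.Opens) : Scheme.{u}) :=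
        QuasiSeparatedSpace.of_isOpenEmbedding (V ⊔ (Z ⊔ U.1) : S.Opens).ι.isOpenEmbedding
      have hcov : (S.homOfLE hle).opensRange ⊔ (S.homOfLE hU).opensRange = ⊤ := by
        rw [Scheme.opensRange_homOfLE, Scheme.opensRange_homOfLE]
        refine top_le_iff.1 fun x _ => ?_
        rcases x.2 with hx | hx | hx
        · exact Or.inl (show x.1 ∈ V ⊔ Z from Or.inl hx)
        · exact Or.inl (show x.1 ∈ V ⊔ Z from Or.inr hx)
        · exact Or.inr hx
      obtain ⟨E'⟩ := nonempty_ext_affine (S.homOfLE hle) (S.homOfLE hU) hcov E.M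
      obtain ⟨E''⟩ := E.nonempty_trans E'
      have e : S.homOfLE (le_sup_left : V ≤ V ⊔ Z) ≫ S.homOfLE hle =
          S.homOfLE (le_sup_left : V ≤ V ⊔ (Z ⊔ U.1)) := Scheme.homOfLE_homOfLE _ _ _
      show Nonempty (Ext _ MV)
      exact nonempty_ext_congr e E''
  obtain ⟨E⟩ := hP
  haveI : IsIso (V ⊔ ⊤ : S.Opens).ι := by
    have h : V ⊔ ⊤ = (⊤ : S.Opens) := sup_top_eq V
    rw [h]
    exact ⟨S.topIso.inv, S.topIso.hom_inv_id, S.topIso.inv_hom_id⟩
  obtain ⟨E'⟩ := nonempty_ext_of_isIso (V ⊔ ⊤ : S.Opens).ι E.M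
  obtain ⟨E''⟩ := E.nonempty_trans E'
  have e : S.homOfLE (le_sup_left : V ≤ V ⊔ ⊤) ≫ (V ⊔ ⊤ : S.Opens).ι = V.ι := S.homOfLE_ι _
  exact nonempty_ext_congr e E''

end Groth.Agent.AlgGlue
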