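import Groth.Agent.AlgGlue.Models

/-!
# Models relative to an open subscheme
-/

universe u

set_option autoImplicit false
set_option backward.isDefEq.respectTransparency false
set_option backward.isDefEq.respectTransparency.types false
set_option linter.style.haveILetI false
set_option linter.unusedSectionVars false
set_option linter.unusedVariables false

open CategoryTheory CategoryTheory.Limits AlgebraicGeometry TopologicalSpace Opposite

namespace Groth.Agent.AlgGlue

/-- A morphism which is affine over the two pieces of an open cover of its target is affine. -/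
theorem isAffineHom_of_two {X Y X₁ X₂ Y₁ Y₂ : Scheme.{u}} (g : X ⟶ Y) (a : Y₁ ⟶ Y) (b : Y₂ ⟶ Y)
    [IsOpenImmersion a] [IsOpenImmersion b] (hcov : a.opensRange ⊔ b.opensRange = ⊤)
    (a' : X₁ ⟶ X) (b' : X₂ ⟶ X) [IsOpenImmersion a'] [IsOpenImmersion b'] (h₁ : X₁ ⟶ Y₁)
    (h₂ : X₂ ⟶ Y₂) [IsAffineHom h₁] [IsAffineHom h₂] (w₁ : a' ≫ g = h₁ ≫ a) (w₂ : b' ≫ g = h₂ ≫ b)
    (p₁ : g ⁻¹ᵁ a.opensRange = a'.opensRange) (p₂ : g ⁻¹ᵁ b.opensRange = b'.opensRange) :
    IsAffineHom g := by
  have hl : IsAffineHom (g ∣_ a.opensRange) := by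
    rw [MorphismProperty.arrow_mk_iso_iff @IsAffineHom (morphismRestrictOpensRange g a),
      ← MorphismProperty.cancel_left_of_respectsIso @IsAffineHom
        (IsOpenImmersion.isPullback h₁ a' a g w₁ p₁).flip.isoPullback.hom,
      IsPullback.isoPullback_hom_snd]
    infer_instance
  have hr : IsAffineHom (g ∣_ b.opensRange) := by
    rw [MorphismProperty.arrow_mk_iso_iff @IsAffineHom (morphismRestrictOpensRange g b),
      ← MorphismProperty.cancel_left_of_respectsIso @IsAffineHom
        (IsOpenImmersion.isPullback h₂ b' b g w₂ p₂).flip.isoPullback.hom,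
      IsPullback.isoPullback_hom_snd]
    infer_instance
  refine IsZariskiLocalAtTarget.of_iSup_eq_top (P := @IsAffineHom)
    (fun i : Bool => if i then a.opensRange else b.opensRange) ?_ fun i => ?_
  · rw [iSup_bool_eq]; simpa using hcov
  · cases i
    · exact hr
    · exact hl

variable {W S : Scheme.{u}}

/-- A model of `S` extending a given model of an open subscheme. -/
structure Ext (j : W ⟶ S) [IsOpenImmersion j] (MW : Model W) where
  /-- the model of the ambient scheme -/
  M : Model S
  /-- the map of indices -/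
  α : M.A →o MW.A
  /-- the open immersions of the stages -/
  o : ∀ a : M.A, MW.D.obj (op (α a)) ⟶ M.D.obj (op a)
  openImm : ∀ a, IsOpenImmersion (o a)
  comm : ∀ {a b : M.A} (h : b ≤ a),
    o a ≫ M.D.map (homOfLE h).op = MW.D.map (homOfLE (α.mono h)).op ≫ o b
  preimage : ∀ {a b : M.A} (h : b ≤ a),
    (M.D.map (homOfLE h).op : M.D.obj (op a) ⟶ M.D.obj (op b)) ⁻¹' Set.range (o b) =
      Set.range (o a)
  π_comm : ∀ a, j ≫ M.π (op a) = MW.π (op (α a)) ≫ o a
  π_preimage : ∀ a, M.π (op a) ⁻¹' Set.range (o a) = Set.range j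

/-- The extension along an isomorphism. -/
theorem nonempty_ext_of_isIso (j : W ⟶ S) [IsIso j] (MW : Model W) : Nonempty (Ext j MW) := by
  let M' : Model S :=
    { A := MW.A
      D := MW.D
      π := fun a => inv j ≫ MW.π a
      w := fun h => by rw [Category.assoc, MW.w]
      affine := MW.affine
      ftz := MW.ftz
      isLimit := IsLimit.ofIsoLimit MW.isLimit
        (Cone.ext (asIso j) fun a => (IsIso.hom_inv_id_assoc j (MW.π a)).symm) }
  refine ⟨{
    M := M'
    α := OrderHom.id
    o := fun a => 𝟙 (MW.D.obj (op a))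
    openImm := fun a => by
      haveI : IsIso (𝟙 (MW.D.obj (op a))) := IsIso.id _
      exact IsOpenImmersion.of_isIso _
    comm := fun h => (Category.id_comp _).trans (Category.comp_id _).symm
    preimage := fun {a b} h => ?_
    π_comm := fun a => (IsIso.hom_inv_id_assoc j _).trans (Category.comp_id _).symm
    π_preimage := fun a => ?_ }⟩
  · refine Set.ext fun x => ?_
    exact ⟨fun _ => ⟨x, rfl⟩, fun _ => ⟨_, rfl⟩⟩
  · refine Set.ext fun x => ?_
    exact ⟨fun _ => (Scheme.homeoOfIso (asIso j)).surjective x, fun _ => ⟨_, rfl⟩⟩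

/-- Extensions compose. -/
theorem Ext.nonempty_trans {S' : Scheme.{u}} {j : W ⟶ S} [IsOpenImmersion j] {k : S ⟶ S'}
    [IsOpenImmersion k] {MW : Model W} (E : Ext j MW) (E' : Ext k E.M) :
    Nonempty (Ext (j ≫ k) MW) := by
  refine ⟨{
    M := E'.M
    α := E.α.comp E'.α
    o := fun a => E.o (E'.α a) ≫ E'.o a
    openImm := fun a => by
      haveI := E.openImm (E'.α a)
      haveI := E'.openImm a
      exact IsOpenImmersion.comp _ _
    comm := fun {a b} h => ?_
    preimage := fun {a b} h => ?_
    π_comm := fun a => ?_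
    π_preimage := fun a => ?_ }⟩
  · rw [Category.assoc, E'.comm h, reassoc_of% E.comm (E'.α.mono h)]
  · simp only [Scheme.Hom.comp_base, TopCat.coe_comp, Set.range_comp]
    ext x
    constructor
    · rintro ⟨z, hz, hzx⟩
      obtain ⟨y, rfl⟩ : x ∈ Set.range (E'.o a) := by
        rw [← E'.preimage h]; exact ⟨z, hzx⟩
      haveI := E'.openImm b
      have : z = (E.M.D.map (homOfLE (E'.α.mono h)).op) y := (E'.o b).isOpenEmbedding.injective
        (hzx.trans congr($(E'.comm h) y))
      exact ⟨y, (Set.ext_iff.1 (E.preimage (E'.α.mono h)) y).1 (this ▸ hz :), rfl⟩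
    · rintro ⟨y, hy, rfl⟩
      refine ⟨(E.M.D.map (homOfLE (E'.α.mono h)).op) y, ?_, congr($(E'.comm h) y).symm⟩
      exact (Set.ext_iff.1 (E.preimage (E'.α.mono h)) y).2 hy
  · rw [Category.assoc, E'.π_comm, reassoc_of% E.π_comm]
    rfl
  · simp only [Scheme.Hom.comp_base, TopCat.coe_comp, Set.range_comp]
    ext x
    constructor
    · rintro ⟨z, hz, hzx⟩
      obtain ⟨y, rfl⟩ : x ∈ Set.range k := by rw [← E'.π_preimage a]; exact ⟨z, hzx⟩
      haveI := E'.openImm a
      have : z = E.M.π (op (E'.α a)) y := (E'.o a).isOpenEmbedding.injective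
        (hzx.trans congr($(E'.π_comm a) y))
      exact ⟨y, (Set.ext_iff.1 (E.π_preimage (E'.α a)) y).1 (this ▸ hz :), rfl⟩
    · rintro ⟨y, hy, rfl⟩
      refine ⟨E.M.π (op (E'.α a)) y, ?_, congr($(E'.π_comm a) y).symm⟩
      exact (Set.ext_iff.1 (E.π_preimage (E'.α a)) y).2 hy

end Groth.Agent.AlgGlue
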