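import Groth.Agent.AlgGlue.RelSystem

/-!
# Extending a model across an affine open
-/

universe u

set_option autoImplicit false
set_option backward.isDefEq.respectTransparency false
set_option backward.isDefEq.respectTransparency.types false
set_option linter.style.haveILetI false
set_option linter.unusedSectionVars false
set_option linter.unusedVariables false

open CategoryTheory CategoryTheory.Limits AlgebraicGeometry TopologicalSpace Opposite

namespace Groth.Agent.AlgGlue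

theorem cover_of_two {V U S : Scheme.{u}} (j : V ⟶ S) (u : U ⟶ S) [IsOpenImmersion j]
    [IsOpenImmersion u] (hcov : j.opensRange ⊔ u.opensRange = ⊤) (x : S) :
    x ∈ Set.range j ∨ x ∈ Set.range u := by
  have : x ∈ ((j.opensRange ⊔ u.opensRange : S.Opens) : Set S) := by rw [hcov]; trivial
  exact this

/-- Morphisms glue along two open immersions. -/
theorem exists_glue_of_isPullback {V U W S T : Scheme.{u}} {j : V ⟶ S} {u : U ⟶ S}
    [IsOpenImmersion j] [IsOpenImmersion u] {vW : W ⟶ V} {jW : W ⟶ U}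
    (hW : IsPullback vW jW j u) (hcov : j.opensRange ⊔ u.opensRange = ⊤) (a : V ⟶ T) (b : U ⟶ T)
    (h : vW ≫ a = jW ≫ b) : ∃ g : S ⟶ T, j ≫ g = a ∧ u ≫ g = b := by
  obtain ⟨g, h1, h2⟩ := exists_glue_two j.opensRange u.opensRange hcov
    (j.isoOpensRange.inv ≫ a) (u.isoOpensRange.inv ≫ b) (by
      let p := S.homOfLE (inf_le_left : j.opensRange ⊓ u.opensRange ≤ j.opensRange) ≫
        j.isoOpensRange.inv
      let q := S.homOfLE (inf_le_right : j.opensRange ⊓ u.opensRange ≤ u.opensRange) ≫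
        u.isoOpensRange.inv
      have e : p ≫ j = q ≫ u := by
        simp only [p, q, Category.assoc, Scheme.Hom.isoOpensRange_inv_comp, Scheme.homOfLE_ι]
      let l := hW.lift p q e
      rw [← Category.assoc, ← Category.assoc]
      show p ≫ a = q ≫ b
      calc p ≫ a = (l ≫ vW) ≫ a := congrArg (· ≫ a) (hW.lift_fst p q e).symm
        _ = (l ≫ jW) ≫ b := by rw [Category.assoc, h, Category.assoc]
        _ = q ≫ b := congrArg (· ≫ b) (hW.lift_snd p q e))
  refine ⟨g, ?_, ?_⟩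
  · conv_lhs => rw [← j.isoOpensRange_hom_ι]
    rw [Category.assoc, h1, Iso.hom_inv_id_assoc]
  · conv_lhs => rw [← u.isoOpensRange_hom_ι]
    rw [Category.assoc, h2, Iso.hom_inv_id_assoc]

/-- A morphism to a spectrum is determined by functions. -/
theorem eq_toSpecΓ_comp {T : Scheme.{u}} {R : CommRingCat.{u}} (e : T ⟶ Spec R) :
    e = T.toSpecΓ ≫ Spec.map ((Scheme.ΓSpecIso R).inv ≫ e.appTop) := by
  refine ext_of_isAffine ?_
  ext x
  obtain ⟨p, rfl⟩ := (ConcreteCategory.bijective_of_isIso (Scheme.ΓSpecIso R).inv).2 x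
  rw [RelSub.appTop_toSpecΓ]
  rfl

theorem appTop_toSpecΓ_isoSpec {T U : Scheme.{u}} [IsAffine U] (ψ : Γ(U, ⊤) ⟶ Γ(T, ⊤)) :
    (T.toSpecΓ ≫ Spec.map ψ ≫ U.isoSpec.inv) ≫ U.toSpecΓ = T.toSpecΓ ≫ Spec.map ψ := by
  simp only [Category.assoc]
  rw [show U.toSpecΓ = U.isoSpec.hom from rfl, Iso.inv_hom_id, Category.comp_id]

namespace GlueStage

variable {V U W S : Scheme.{u}} {MV : Model V} {vW : W ⟶ V} [IsOpenImmersion vW] {jW : W ⟶ U}
  [IsOpenImmersion jW] [IsAffine U] [CompactSpace W] (G : GlueStage MV vW jW) {j : V ⟶ S}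
  {u : U ⟶ S} [IsOpenImmersion j] [IsOpenImmersion u] (hW : IsPullback vW jW j u)
  (hcov : j.opensRange ⊔ u.opensRange = ⊤)

theorem mapAt_β (x : G.Idx) : G.mapAt x.i x.hi ≫ RelSub.β x.A = jW ≫ RelSub.γ x.A := by
  rw [RelSub.β, RelSub.γ, Scheme.toSpecΓ_naturality_assoc, Scheme.toSpecΓ_naturality_assoc,
    ← Spec.map_comp, ← Spec.map_comp]
  congr 2
  ext p
  exact x.good.le p.2

theorem γ_ringMap {x y : G.Idx} (h : x ≤ y) :
    RelSub.γ y.A ≫ Spec.map (ringMap h) = RelSub.γ x.A := by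
  rw [RelSub.γ, RelSub.γ, Category.assoc, ← Spec.map_comp]
  rfl

include hW hcov in
theorem exists_proj (x : G.Idx) : ∃ g : S ⟶ G.space x,
    j ≫ g = MV.π (op x.i) ≫ G.inl x ∧ u ≫ g = RelSub.γ x.A ≫ G.inr x := by
  refine exists_glue_of_isPullback hW hcov _ _ ?_
  rw [← reassoc_of% (G.mapAt_β x), ← toStage_ι_assoc MV vW G.O G.pre x.i x.hi, pushout.condition]

/-- The projection. -/
noncomputable def proj (x : G.Idx) : S ⟶ G.space x := (G.exists_proj hW hcov x).choose

theorem j_proj (x : G.Idx) : j ≫ G.proj hW hcov x = MV.π (op x.i) ≫ G.inl x :=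
  (G.exists_proj hW hcov x).choose_spec.1

theorem u_proj (x : G.Idx) : u ≫ G.proj hW hcov x = RelSub.γ x.A ≫ G.inr x :=
  (G.exists_proj hW hcov x).choose_spec.2

theorem proj_trans {x y : G.Idx} (h : x ≤ y) :
    G.proj hW hcov y ≫ trans h = G.proj hW hcov x := by
  refine Scheme.Cover.hom_ext (S.openCoverOfIsOpenCover
    (fun b : ULift.{u} Bool => if b.down then j.opensRange else u.opensRange) ?_) _ _ fun b => ?_
  · refine top_le_iff.1 (hcov.ge.trans (sup_le ?_ ?_))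
    · exact le_iSup (fun b : ULift.{u} Bool => if b.down then j.opensRange else u.opensRange) ⟨true⟩
    · exact le_iSup (fun b : ULift.{u} Bool => if b.down then j.opensRange else u.opensRange) ⟨false⟩
  · rcases b with ⟨_ | _⟩
    · show u.opensRange.ι ≫ _ = u.opensRange.ι ≫ _
      rw [← cancel_epi u.isoOpensRange.hom, u.isoOpensRange_hom_ι_assoc,
        u.isoOpensRange_hom_ι_assoc, reassoc_of% (G.u_proj hW hcov y), inr_trans,
        ← Category.assoc, G.γ_ringMap h, G.u_proj hW hcov x]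
    · show j.opensRange.ι ≫ _ = j.opensRange.ι ≫ _
      rw [← cancel_epi j.isoOpensRange.hom, j.isoOpensRange_hom_ι_assoc,
        j.isoOpensRange_hom_ι_assoc, reassoc_of% (G.j_proj hW hcov y), inl_trans,
        ← Category.assoc, MV.w, G.j_proj hW hcov x]

include hW in
theorem mem_range_jW (z : U) (h : u z ∈ Set.range j) : z ∈ Set.range jW := by
  obtain ⟨v, hv⟩ := h
  let w := (Scheme.Pullback.exists_preimage_pullback v z hv)
  obtain ⟨w', -, h2⟩ := w
  refine ⟨hW.isoPullback.inv w', ?_⟩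
  rw [← Scheme.Hom.comp_apply, hW.isoPullback_inv_snd]
  exact h2

theorem proj_preimage_inl (x : G.Idx) :
    G.proj hW hcov x ⁻¹' Set.range (G.inl x) = Set.range j := by
  ext s
  constructor
  · rintro ⟨a, ha⟩
    rcases cover_of_two j u hcov s with hs | ⟨z, rfl⟩
    · exact hs
    · obtain ⟨o, -, ho⟩ := pushout_overlap _ _ (ha.trans congr($(G.u_proj hW hcov x) z))
      have h1 : RelSub.γ x.A z ∈ Set.range (RelSub.β x.A) := ⟨o, ho⟩
      rw [x.good.range_eq (G.cov_at _ _)] at h1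
      obtain ⟨k, hk⟩ := Opens.mem_iSup.1 h1
      have h2 : z ∈ RelSub.γ x.A ⁻¹ᵁ
          (RelSub.aff x.A).basicOpen (RelSub.fn x.A ⟨_, x.good.mem k⟩) := hk
      rw [Scheme.preimage_basicOpen_top, RelSub.γ_fn] at h2
      obtain ⟨w, hw⟩ := G.hr k h2
      refine ⟨vW w, ?_⟩
      show _ = u z
      rw [← Scheme.Hom.comp_apply, hW.w, Scheme.Hom.comp_apply, hw]
  · rintro ⟨v, rfl⟩
    exact ⟨_, congr($(G.j_proj hW hcov x) v).symm⟩

theorem proj_preimage_inr (x : G.Idx) :
    G.proj hW hcov x ⁻¹' Set.range (G.inr x) = Set.range u := by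
  ext s
  constructor
  · rintro ⟨a, ha⟩
    rcases cover_of_two j u hcov s with ⟨v, rfl⟩ | hs
    · obtain ⟨o, ho, -⟩ := pushout_overlap _ _ (ha.trans congr($(G.j_proj hW hcov x) v)).symm
      have h0 : MV.π (op x.i) v ∈ stageOpen MV G.O x.i x.hi := by
        rw [show MV.π (op x.i) v = _ from ho.symm]
        exact o.2
      have h1 : v ∈ MV.π (op G.i₁) ⁻¹' (G.O : Set (MV.D.obj (op G.i₁))) := by
        show MV.π (op G.i₁) v ∈ G.O
        rw [← MV.w (homOfLE x.hi).op]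
        exact h0
      rw [G.pre] at h1
      obtain ⟨w, rfl⟩ := h1
      exact ⟨jW w, by rw [← Scheme.Hom.comp_apply, ← hW.w, Scheme.Hom.comp_apply]⟩
    · exact hs
  · rintro ⟨z, rfl⟩
    exact ⟨_, congr($(G.u_proj hW hcov x) z).symm⟩

/-- An index above a stage. -/
theorem exists_idx_ge (i : MV.A) : ∃ x : G.Idx, i ≤ x.i := by
  obtain ⟨z, -, -, hz⟩ := G.exists_above (Classical.arbitrary G.Idx) (Classical.arbitrary G.Idx) i
  exact ⟨z, hz⟩

include G in
/-- Every function on the affine piece occurs. -/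
theorem exists_pair (a : Γ(U, ⊤)) : ∃ (x : G.Idx) (p : x.A), p.1.2 = a := by
  haveI := fun Q : Over (op G.i₁) => ((MV.ftz Q.left).opens (MV.D.map Q.hom ⁻¹ᵁ G.O)).compactSpace
  obtain ⟨hlim⟩ := nonempty_isLimit_stageCone MV vW G.O G.pre
  haveI : ∀ Q, CompactSpace ((opensDiagram MV.D (op G.i₁) G.O).obj Q) := fun Q =>
    ((MV.ftz Q.left).opens _).compactSpace
  haveI : ∀ Q, QuasiSeparatedSpace ((opensDiagram MV.D (op G.i₁) G.O).obj Q) := fun Q =>
    ((MV.ftz Q.left).opens _).quasiSeparatedSpace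
  obtain ⟨Q, t, ht⟩ := exists_appTop_π_eq_of_isLimit _ (stageCone MV vW G.O G.pre) hlim
    (jW.appTop a)
  let i := Q.left.unop
  have h : G.i₁ ≤ i := leOfHom Q.hom.unop
  obtain ⟨A, hA, hF⟩ := G.exists_idx i h {((t : Γ(G.openAt i h, ⊤)), a)} (Set.finite_singleton _)
    (Set.singleton_subset_iff.2 ht.symm)
  exact ⟨⟨i, h, A, hA⟩, ⟨_, hF rfl⟩, rfl⟩

/-- Two pairs with the same second component agree later. -/
theorem exists_pair_eq {x y : G.Idx} (p : x.A) (q : y.A) (h : p.1.2 = q.1.2) :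
    ∃ (z : G.Idx) (hx : x ≤ z) (hy : y ≤ z), ringMap hx p = ringMap hy q := by
  obtain ⟨z₀, hx₀, hy₀, -⟩ := G.exists_above x y x.i
  let d := (ringMap hx₀ p : z₀.A).1.1 - (ringMap hy₀ q : z₀.A).1.1
  have hd : (G.mapAt z₀.i z₀.hi).appTop d = 0 := by
    have ep : (G.mapAt z₀.i z₀.hi).appTop (ringMap hx₀ p : z₀.A).1.1 =
        jW.appTop (ringMap hx₀ p : z₀.A).1.2 := z₀.good.le (ringMap hx₀ p).2
    have eq' : (G.mapAt z₀.i z₀.hi).appTop (ringMap hy₀ q : z₀.A).1.1 =
        jW.appTop (ringMap hy₀ q : z₀.A).1.2 := z₀.good.le (ringMap hy₀ q).2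
    rw [map_sub, ep, eq']
    show jW.appTop p.1.2 - jW.appTop q.1.2 = 0
    rw [h, sub_self]
  obtain ⟨hlim⟩ := nonempty_isLimit_stageCone MV vW G.O G.pre
  haveI : ∀ Q, CompactSpace ((opensDiagram MV.D (op G.i₁) G.O).obj Q) := fun Q =>
    ((MV.ftz Q.left).opens _).compactSpace
  obtain ⟨Q, f, hf⟩ := exists_appTop_map_eq_zero_of_isLimit _ (stageCone MV vW G.O G.pre) hlim
    (i := Over.mk (homOfLE z₀.hi).op) d hd
  have hi : z₀.i ≤ Q.left.unop := leOfHom f.left.unop
  obtain ⟨z, hz₀, -, hz⟩ := G.exists_above z₀ z₀ Q.left.unop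
  refine ⟨z, hx₀.trans hz₀, hy₀.trans hz₀, Subtype.ext (Prod.ext ?_ h)⟩
  have h1 : (stageRes MV G.O z₀.hi hi).appTop d = 0 := hf
  have h2 : (stageRes MV G.O z₀.hi hz₀.1).appTop d = 0 := by
    rw [← stageRes_stageRes MV G.O z₀.hi hi hz, Scheme.Hom.comp_appTop, ConcreteCategory.comp_apply,
      h1, map_zero]
  rw [map_sub, sub_eq_zero] at h2
  have e1 : (ringMap (hx₀.trans hz₀) p : z.A).1 = G.rho z₀.hi hz₀.1 (G.rho x.hi hx₀.1 p.1) :=
    (G.rho_rho _ _ _ _).symm
  have e2 : (ringMap (hy₀.trans hz₀) q : z.A).1 = G.rho z₀.hi hz₀.1 (G.rho y.hi hy₀.1 q.1) :=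
    (G.rho_rho _ _ _ _).symm
  rw [e1, e2]
  exact h2

theorem hom_ext_V {Z : Scheme.{u}} {p q : Z ⟶ V}
    (h : ∀ x : G.Idx, p ≫ MV.π (op x.i) ≫ G.inl x = q ≫ MV.π (op x.i) ≫ G.inl x) : p = q := by
  refine MV.hom_ext fun i => ?_
  obtain ⟨x, hx⟩ := G.exists_idx_ge i.unop
  have h1 := h x
  rw [← Category.assoc, ← Category.assoc, cancel_mono] at h1
  rw [← MV.w (homOfLE hx).op, ← Category.assoc, ← Category.assoc, h1]

include hW hcov in
theorem proj_hom_ext {T : Scheme.{u}} {g g' : T ⟶ S}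
    (h : ∀ x, g ≫ G.proj hW hcov x = g' ≫ G.proj hW hcov x) : g = g' := by
  let x₀ := Classical.arbitrary G.Idx
  have hj : g ⁻¹' Set.range j = g' ⁻¹' Set.range j := by
    rw [← G.proj_preimage_inl hW hcov x₀, ← Set.preimage_comp, ← Set.preimage_comp,
      ← TopCat.coe_comp, ← Scheme.Hom.comp_base, ← TopCat.coe_comp, ← Scheme.Hom.comp_base, h]
  have hu : g ⁻¹' Set.range u = g' ⁻¹' Set.range u := by
    rw [← G.proj_preimage_inr hW hcov x₀, ← Set.preimage_comp, ← Set.preimage_comp,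
      ← TopCat.coe_comp, ← Scheme.Hom.comp_base, ← TopCat.coe_comp, ← Scheme.Hom.comp_base, h]
  refine Scheme.Cover.hom_ext (T.openCoverOfIsOpenCover
    (fun b : ULift.{u} Bool => if b.down then g ⁻¹ᵁ j.opensRange else g ⁻¹ᵁ u.opensRange) ?_)
    _ _ fun b => ?_
  · refine top_le_iff.1 fun t _ => ?_
    rcases cover_of_two j u hcov (g t) with ht | ht
    · exact Opens.mem_iSup.2 ⟨⟨true⟩, ht⟩
    · exact Opens.mem_iSup.2 ⟨⟨false⟩, ht⟩
  · rcases b with ⟨_ | _⟩
    · show (g ⁻¹ᵁ u.opensRange).ι ≫ g = (g ⁻¹ᵁ u.opensRange).ι ≫ g'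
      have h1 : Set.range ((g ⁻¹ᵁ u.opensRange).ι ≫ g) ⊆ Set.range u := by
        rintro _ ⟨t, rfl⟩; exact t.2
      have h2 : Set.range ((g ⁻¹ᵁ u.opensRange).ι ≫ g') ⊆ Set.range u := by
        rintro _ ⟨t, rfl⟩; exact (Set.ext_iff.1 hu t.1).1 t.2
      rw [← IsOpenImmersion.lift_fac u _ h1, ← IsOpenImmersion.lift_fac u _ h2]
      congr 1
      refine ext_of_isAffine ?_
      ext a
      obtain ⟨x, p, rfl⟩ := G.exists_pair a
      have h3 : IsOpenImmersion.lift u _ h1 ≫ RelSub.γ x.A =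
          IsOpenImmersion.lift u _ h2 ≫ RelSub.γ x.A := by
        rw [← cancel_mono (G.inr x), Category.assoc, Category.assoc, ← G.u_proj hW hcov x,
          IsOpenImmersion.lift_fac_assoc, IsOpenImmersion.lift_fac_assoc, Category.assoc,
          Category.assoc, h]
      have h4 := congr((Scheme.Hom.appTop $h3) (RelSub.fn x.A p))
      rw [Scheme.Hom.comp_appTop, Scheme.Hom.comp_appTop, ConcreteCategory.comp_apply,
        ConcreteCategory.comp_apply, RelSub.γ_fn] at h4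
      exact h4
    · show (g ⁻¹ᵁ j.opensRange).ι ≫ g = (g ⁻¹ᵁ j.opensRange).ι ≫ g'
      have h1 : Set.range ((g ⁻¹ᵁ j.opensRange).ι ≫ g) ⊆ Set.range j := by
        rintro _ ⟨t, rfl⟩; exact t.2
      have h2 : Set.range ((g ⁻¹ᵁ j.opensRange).ι ≫ g') ⊆ Set.range j := by
        rintro _ ⟨t, rfl⟩; exact (Set.ext_iff.1 hj t.1).1 t.2
      rw [← IsOpenImmersion.lift_fac j _ h1, ← IsOpenImmersion.lift_fac j _ h2]
      congr 1
      refine G.hom_ext_V fun x => ?_
      rw [← G.j_proj hW hcov x, IsOpenImmersion.lift_fac_assoc, IsOpenImmersion.lift_fac_assoc,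
        Category.assoc, Category.assoc, h]

include hW in
theorem eq_of_forall_proj {Z : Scheme.{u}} (p : Z ⟶ V) (q : Z ⟶ U)
    (h : ∀ x, p ≫ j ≫ G.proj hW hcov x = q ≫ u ≫ G.proj hW hcov x) : p ≫ j = q ≫ u :=
  G.proj_hom_ext hW hcov fun x => by rw [Category.assoc, Category.assoc, h]

include hW hcov in
theorem exists_lift_V {T : Scheme.{u}} (b : ∀ x : G.Idx, T ⟶ MV.D.obj (op x.i))
    (hb : ∀ {x y : G.Idx} (h : x ≤ y), b y ≫ MV.D.map (homOfLE h.1).op = b x) :
    ∃ l : T ⟶ V, ∀ x : G.Idx, l ≫ MV.π (op x.i) = b x := by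
  choose Y hY using fun i : MV.A => G.exists_idx_ge i
  let c : ∀ i : MV.A, T ⟶ MV.D.obj (op i) := fun i => b (Y i) ≫ MV.D.map (homOfLE (hY i)).op
  have hc : ∀ (x : G.Idx) (i : MV.A) (h : i ≤ x.i), b x ≫ MV.D.map (homOfLE h).op = c i := by
    intro x i h
    obtain ⟨z, hx, hy, -⟩ := G.exists_above x (Y i) i
    simp only [c, ← hb hx, ← hb hy, Category.assoc, ← Functor.map_comp, ← op_comp, homOfLE_comp]
  let s : Cone MV.D :=
    { pt := T
      π :=
        { app := fun i => c i.unop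
          naturality := fun i i' f => by
            refine (Category.id_comp _).trans ?_
            show c i'.unop = c i.unop ≫ MV.D.map f
            rw [show f = (homOfLE (leOfHom f.unop)).op from Subsingleton.elim _ _]
            simp only [c, Category.assoc, ← Functor.map_comp, ← op_comp, homOfLE_comp]
            exact (hc _ _ _).symm } }
  refine ⟨MV.isLimit.lift s, fun x => ?_⟩
  refine (MV.isLimit.fac s (op x.i)).trans ?_
  show c x.i = b x
  rw [← hc x x.i le_rfl, MV.map_le_self]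
  exact Category.comp_id _

theorem snd_ringMap {x y : G.Idx} (h : x ≤ y) (p : x.A) : (ringMap h p : y.A).1.2 = p.1.2 := rfl

set_option maxHeartbeats 1600000 in
theorem exists_ringHom {R : Type u} [CommRing R] (φ : ∀ x : G.Idx, x.A →+* R)
    (hφ : ∀ {x y : G.Idx} (h : x ≤ y) (p : x.A), φ y (ringMap h p) = φ x p) :
    ∃ ψ : Γ(U, ⊤) →+* R, ∀ (x : G.Idx) (p : x.A), ψ p.1.2 = φ x p := by
  choose X P hP using G.exists_pair
  have key : ∀ (x : G.Idx) (p : x.A) (a : Γ(U, ⊤)), p.1.2 = a → φ (X a) (P a) = φ x p := by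
    intro x p a ha
    obtain ⟨z, hx, hy, hz⟩ := G.exists_pair_eq (P a) p ((hP a).trans ha.symm)
    rw [← hφ hx, hz, hφ hy]
  have k1 : φ (X 1) (P 1) = 1 := (key (X 1) 1 1 rfl).trans (map_one _)
  have k0 : φ (X 0) (P 0) = 0 := (key (X 0) 0 0 rfl).trans (map_zero _)
  have ka : ∀ a a', φ (X (a + a')) (P (a + a')) = φ (X a) (P a) + φ (X a') (P a') := by
    intro a a'
    obtain ⟨z, hx, hy, -⟩ := G.exists_above (X a) (X a') (X a).i
    let q₁ : z.A := ringMap hx (P a)
    let q₂ : z.A := ringMap hy (P a')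
    have h₁ : q₁.1.2 = a := (G.snd_ringMap hx (P a)).trans (hP a)
    have h₂ : q₂.1.2 = a' := (G.snd_ringMap hy (P a')).trans (hP a')
    have hq : (q₁ + q₂).1.2 = a + a' := by
      rw [Subring.coe_add, Prod.snd_add, h₁, h₂]
    refine (key z (q₁ + q₂) _ hq).trans (((φ z).map_add q₁ q₂).trans ?_)
    exact congr_arg₂ (· + ·) (hφ hx (P a)) (hφ hy (P a'))
  have km : ∀ a a', φ (X (a * a')) (P (a * a')) = φ (X a) (P a) * φ (X a') (P a') := by
    intro a a'
    obtain ⟨z, hx, hy, -⟩ := G.exists_above (X a) (X a') (X a).i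
    let q₁ : z.A := ringMap hx (P a)
    let q₂ : z.A := ringMap hy (P a')
    have h₁ : q₁.1.2 = a := (G.snd_ringMap hx (P a)).trans (hP a)
    have h₂ : q₂.1.2 = a' := (G.snd_ringMap hy (P a')).trans (hP a')
    have hq : (q₁ * q₂).1.2 = a * a' := by
      rw [Subring.coe_mul, Prod.snd_mul, h₁, h₂]
    refine (key z (q₁ * q₂) _ hq).trans (((φ z).map_mul q₁ q₂).trans ?_)
    exact congr_arg₂ (· * ·) (hφ hx (P a)) (hφ hy (P a'))
  exact ⟨{ toFun := fun a => φ (X a) (P a), map_one' := k1, map_mul' := km, map_zero' := k0,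
           map_add' := ka }, fun x p => key x p _ rfl⟩

include hW hcov in
theorem exists_lift_U {T : Scheme.{u}} (e : ∀ x : G.Idx, T ⟶ RelSub.aff x.A)
    (he : ∀ {x y : G.Idx} (h : x ≤ y), e y ≫ Spec.map (ringMap h) = e x) :
    ∃ l : T ⟶ U, ∀ x : G.Idx, l ≫ RelSub.γ x.A = e x := by
  obtain ⟨ψ, hψ⟩ := G.exists_ringHom
    (fun x => ((Scheme.ΓSpecIso (CommRingCat.of x.A)).inv ≫ (e x).appTop).hom) (fun {x y} h p => by
      have e1 : ringMap h ≫ (Scheme.ΓSpecIso _).inv ≫ (e y).appTop =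
          (Scheme.ΓSpecIso _).inv ≫ (e x).appTop := by
        rw [← he h, Scheme.Hom.comp_appTop, Scheme.ΓSpecIso_inv_naturality_assoc]
      exact congr($e1 p))
  refine ⟨T.toSpecΓ ≫ Spec.map (CommRingCat.ofHom ψ) ≫ U.isoSpec.inv, fun x => ?_⟩
  rw [RelSub.γ, ← Category.assoc, appTop_toSpecΓ_isoSpec, Category.assoc, ← Spec.map_comp,
    eq_toSpecΓ_comp (e x)]
  congr 2
  ext p
  exact hψ x p

include hW hcov in
theorem exists_lift {T : Scheme.{u}} (s : ∀ x : G.Idx, T ⟶ G.space x)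
    (hs : ∀ {x y : G.Idx} (h : x ≤ y), s y ≫ trans h = s x) :
    ∃ g : T ⟶ S, ∀ x, g ≫ G.proj hW hcov x = s x := by
  let x₀ := Classical.arbitrary G.Idx
  have hl : ∀ x, s x ⁻¹' Set.range (G.inl x) = s x₀ ⁻¹' Set.range (G.inl x₀) := fun x => by
    obtain ⟨z, hx, hy, -⟩ := G.exists_above x x₀ x.i
    rw [← hs hx, ← hs hy, Scheme.Hom.comp_base, TopCat.coe_comp, Set.preimage_comp,
      Scheme.Hom.comp_base, TopCat.coe_comp, Set.preimage_comp, trans_preimage_inl hx,
      trans_preimage_inl hy]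
  have hr : ∀ x, s x ⁻¹' Set.range (G.inr x) = s x₀ ⁻¹' Set.range (G.inr x₀) := fun x => by
    obtain ⟨z, hx, hy, -⟩ := G.exists_above x x₀ x.i
    rw [← hs hx, ← hs hy, Scheme.Hom.comp_base, TopCat.coe_comp, Set.preimage_comp,
      Scheme.Hom.comp_base, TopCat.coe_comp, Set.preimage_comp, trans_preimage_inr hx,
      trans_preimage_inr hy]
  let T₁ : T.Opens := s x₀ ⁻¹ᵁ (G.inl x₀).opensRange
  let T₂ : T.Opens := s x₀ ⁻¹ᵁ (G.inr x₀).opensRange
  have h1 : ∀ x, Set.range (T₁.ι ≫ s x) ⊆ Set.range (G.inl x) := fun x => by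
    rintro _ ⟨t, rfl⟩; exact (Set.ext_iff.1 (hl x) t.1).2 t.2
  have h2 : ∀ x, Set.range (T₂.ι ≫ s x) ⊆ Set.range (G.inr x) := fun x => by
    rintro _ ⟨t, rfl⟩; exact (Set.ext_iff.1 (hr x) t.1).2 t.2
  obtain ⟨l₁, hl₁⟩ := G.exists_lift_V hW hcov
    (fun x => IsOpenImmersion.lift (G.inl x) _ (h1 x)) (fun {x y} h => by
      rw [← cancel_mono (G.inl x), IsOpenImmersion.lift_fac, Category.assoc, ← inl_trans h,
        IsOpenImmersion.lift_fac_assoc, Category.assoc, hs h])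
  obtain ⟨l₂, hl₂⟩ := G.exists_lift_U hW hcov
    (fun x => IsOpenImmersion.lift (G.inr x) _ (h2 x)) (fun {x y} h => by
      rw [← cancel_mono (G.inr x), IsOpenImmersion.lift_fac, Category.assoc, ← inr_trans h,
        IsOpenImmersion.lift_fac_assoc, Category.assoc, hs h])
  have e1 : ∀ x, (l₁ ≫ j) ≫ G.proj hW hcov x = T₁.ι ≫ s x := fun x => by
    rw [Category.assoc, G.j_proj hW hcov x, reassoc_of% (hl₁ x), IsOpenImmersion.lift_fac]
  have e2 : ∀ x, (l₂ ≫ u) ≫ G.proj hW hcov x = T₂.ι ≫ s x := fun x => by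
    rw [Category.assoc, G.u_proj hW hcov x, reassoc_of% (hl₂ x), IsOpenImmersion.lift_fac]
  have hT : T₁ ⊔ T₂ = ⊤ := top_le_iff.1 fun t _ => pushout_cover _ _ (s x₀ t)
  obtain ⟨g, g1, g2⟩ := exists_glue_two T₁ T₂ hT (l₁ ≫ j) (l₂ ≫ u) (by
    refine G.proj_hom_ext hW hcov fun x => ?_
    rw [Category.assoc, e1, Category.assoc, e2, Scheme.homOfLE_ι_assoc, Scheme.homOfLE_ι_assoc])
  refine ⟨g, fun x => ?_⟩
  refine Scheme.Cover.hom_ext (T.openCoverOfIsOpenCover
    (fun b : ULift.{u} Bool => if b.down then T₁ else T₂) ?_) _ _ fun b => ?_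
  · refine top_le_iff.1 (hT.ge.trans (sup_le ?_ ?_))
    · exact le_iSup (fun b : ULift.{u} Bool => if b.down then T₁ else T₂) ⟨true⟩
    · exact le_iSup (fun b : ULift.{u} Bool => if b.down then T₁ else T₂) ⟨false⟩
  · rcases b with ⟨_ | _⟩
    · show T₂.ι ≫ g ≫ _ = T₂.ι ≫ s x
      rw [reassoc_of% g2, ← Category.assoc, e2]
    · show T₁.ι ≫ g ≫ _ = T₁.ι ≫ s x
      rw [reassoc_of% g1, ← Category.assoc, e1]

include hW hcov G in
/-- The extension of the model. -/
theorem nonempty_ext : Nonempty (Ext j MV) := by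
  let c : Cone G.system :=
    { pt := S
      π :=
        { app := fun x => G.proj hW hcov x.unop
          naturality := fun x y f =>
            (Category.id_comp _).trans (G.proj_trans hW hcov (leOfHom f.unop)).symm } }
  choose l hl using fun s : Cone G.system => G.exists_lift hW hcov (fun x => s.π.app (op x))
    (fun {x y} h => s.w (homOfLE h).op)
  let M : Model S :=
    { A := G.Idx
      D := G.system
      π := fun x => G.proj hW hcov x.unop
      w := fun {x y} f => G.proj_trans hW hcov (leOfHom f.unop)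
      affine := fun {x y} f => isAffineHom_trans (leOfHom f.unop)
      ftz := fun x => G.ftz_space x.unop
      isLimit :=
        { lift := l
          fac := fun s x => hl s x.unop
          uniq := fun s m hm => G.proj_hom_ext hW hcov fun x =>
            (hm (op x)).trans (hl s x).symm } }
  exact ⟨{
    M := M
    α := ⟨fun x => x.i, fun x y h => h.1⟩
    o := fun x => G.inl x
    openImm := fun x => isOpenImmersion_pushout_inl' _ _
    comm := fun h => inl_trans h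
    preimage := fun h => trans_preimage_inl h
    π_comm := fun x => G.j_proj hW hcov x
    π_preimage := fun x => G.proj_preimage_inl hW hcov x }⟩

end GlueStage

end Groth.Agent.AlgGlue
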