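import Groth.Agent.AlgGlue.RelData

/-!
# The system of glued stages
-/

universe u

set_option autoImplicit false
set_option backward.isDefEq.respectTransparency false
set_option backward.isDefEq.respectTransparency.types false
set_option linter.style.haveILetI false
set_option linter.unusedSectionVars false
set_option linter.unusedVariables false

open CategoryTheory CategoryTheory.Limits AlgebraicGeometry TopologicalSpace Opposite

namespace Groth.Agent.AlgGlue

/-- The pieces cover a glueing. -/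
theorem pushout_cover {T P O : Scheme.{u}} (ι : O ⟶ T) [IsOpenImmersion ι] (β : O ⟶ P)
    [IsOpenImmersion β] (z : ↥(pushout ι β)) :
    (∃ x, pushout.inl ι β x = z) ∨ ∃ x, pushout.inr ι β x = z := by
  obtain ⟨i, x, rfl⟩ := Scheme.IsLocallyDirected.ι_jointly_surjective (span ι β) z
  rcases i with _ | _ | _
  · left
    exact ⟨ι x, by
      rw [← Scheme.Hom.comp_apply, ← colimit.w (span ι β) WalkingSpan.Hom.fst]; rfl⟩
  · exact .inl ⟨x, rfl⟩
  · exact .inr ⟨x, rfl⟩

/-- The overlap in a glueing. -/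
theorem pushout_overlap {T P O : Scheme.{u}} (ι : O ⟶ T) [IsOpenImmersion ι] (β : O ⟶ P)
    [IsOpenImmersion β] {x : T} {y : P} (h : pushout.inl ι β x = pushout.inr ι β y) :
    ∃ z, ι z = x ∧ β z = y := by
  obtain ⟨k, fi, fj, z, hzx, hzy⟩ :=
    (Scheme.IsLocallyDirected.ι_eq_ι_iff (F := span ι β) (i := WalkingSpan.left)
      (j := WalkingSpan.right)).1 h
  rcases k with _ | _ | _
  · obtain rfl : fi = WalkingSpan.Hom.fst := Subsingleton.elim _ _
    obtain rfl : fj = WalkingSpan.Hom.snd := Subsingleton.elim _ _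
    exact ⟨z, hzx, hzy⟩
  · change WidePushoutShape.Hom _ _ at fj
    exact nomatch fj
  · change WidePushoutShape.Hom _ _ at fi
    exact nomatch fi

instance isOpenImmersion_pushout_inl' {T P O : Scheme.{u}} (ι : O ⟶ T) [IsOpenImmersion ι]
    (β : O ⟶ P) [IsOpenImmersion β] : IsOpenImmersion (pushout.inl ι β) :=
  inferInstanceAs (IsOpenImmersion (colimit.ι (span ι β) WalkingSpan.left))

instance isOpenImmersion_pushout_inr' {T P O : Scheme.{u}} (ι : O ⟶ T) [IsOpenImmersion ι]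
    (β : O ⟶ P) [IsOpenImmersion β] : IsOpenImmersion (pushout.inr ι β) :=
  inferInstanceAs (IsOpenImmersion (colimit.ι (span ι β) WalkingSpan.right))

namespace GlueStage

variable {V U W : Scheme.{u}} {MV : Model V} {vW : W ⟶ V} [IsOpenImmersion vW] {jW : W ⟶ U}
  [IsOpenImmersion jW] [IsAffine U] [CompactSpace W] (G : GlueStage MV vW jW)

attribute [instance] GlueStage.fin

/-- The open at a later stage. -/
noncomputable abbrev openAt (i : MV.A) (h : G.i₁ ≤ i) : Scheme.{u} :=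
  (stageOpen MV G.O i h : Scheme.{u})

/-- The functions at a later stage. -/
noncomputable def funAt (i : MV.A) (h : G.i₁ ≤ i) (k : G.κ) : Γ(G.openAt i h, ⊤) :=
  (stageRes MV G.O le_rfl h).appTop (G.r' k)

/-- The map of `W` at a later stage. -/
noncomputable abbrev mapAt (i : MV.A) (h : G.i₁ ≤ i) : W ⟶ G.openAt i h :=
  toStage MV vW G.O G.pre i h

theorem hrr_at (i : MV.A) (h : G.i₁ ≤ i) (k : G.κ) :
    (G.mapAt i h).appTop (G.funAt i h k) = jW.appTop (G.r k) := by
  rw [← G.hrr k, ← toStage_res MV vW G.O G.pre le_rfl h]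
  rfl

theorem aff_at (i : MV.A) (h : G.i₁ ≤ i) (k : G.κ) :
    IsAffineOpen ((G.openAt i h).basicOpen (G.funAt i h k)) := by
  rw [funAt, ← Scheme.preimage_basicOpen_top]
  exact (G.aff k).preimage _

theorem cov_at (i : MV.A) (h : G.i₁ ≤ i) :
    ⨆ k, (G.openAt i h).basicOpen (G.funAt i h k) = ⊤ := by
  simp only [funAt, ← Scheme.preimage_basicOpen_top, ← Scheme.Hom.preimage_iSup, G.cov,
    Scheme.Hom.preimage_top]

theorem funAt_res {i i' : MV.A} (h : G.i₁ ≤ i) (h' : i ≤ i') (k : G.κ) :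
    (stageRes MV G.O h h').appTop (G.funAt i h k) = G.funAt i' (h.trans h') k := by
  rw [funAt, funAt, ← stageRes_stageRes MV G.O le_rfl h h']
  rfl

/-- An index of the glued system. -/
structure Idx where
  /-- the stage -/
  i : MV.A
  hi : G.i₁ ≤ i
  /-- the subring -/
  A : Subring (Γ(G.openAt i hi, ⊤) × Γ(U, ⊤))
  good : RelSub.Good jW (G.mapAt i hi) (G.funAt i hi) G.r A

/-- The map on pairs. -/
noncomputable def rho {i i' : MV.A} (h : G.i₁ ≤ i) (h' : i ≤ i') :
    Γ(G.openAt i h, ⊤) × Γ(U, ⊤) →+* Γ(G.openAt i' (h.trans h'), ⊤) × Γ(U, ⊤) :=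
  (stageRes MV G.O h h').appTop.hom.prodMap (RingHom.id _)

theorem rho_apply {i i' : MV.A} (h : G.i₁ ≤ i) (h' : i ≤ i')
    (p : Γ(G.openAt i h, ⊤) × Γ(U, ⊤)) :
    G.rho h h' p = ((stageRes MV G.O h h').appTop p.1, p.2) := rfl

theorem rho_rho {i i' i'' : MV.A} (h : G.i₁ ≤ i) (h' : i ≤ i') (h'' : i' ≤ i'')
    (p : Γ(G.openAt i h, ⊤) × Γ(U, ⊤)) :
    G.rho (h.trans h') h'' (G.rho h h' p) = G.rho h (h'.trans h'') p := by
  simp only [rho_apply, ← stageRes_stageRes MV G.O h h' h'']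
  rfl

theorem rho_self {i : MV.A} (h : G.i₁ ≤ i) (p : Γ(G.openAt i h, ⊤) × Γ(U, ⊤)) :
    G.rho h le_rfl p = p := by
  rw [rho_apply, stageRes_self]
  rfl

theorem rho_mem_eqPairs {i i' : MV.A} (h : G.i₁ ≤ i) (h' : i ≤ i')
    {p : Γ(G.openAt i h, ⊤) × Γ(U, ⊤)} (hp : p ∈ RelSub.eqPairs jW (G.mapAt i h)) :
    G.rho h h' p ∈ RelSub.eqPairs jW (G.mapAt i' (h.trans h')) := by
  rw [RelSub.mem_eqPairs] at hp ⊢
  have e : G.mapAt i' (h.trans h') ≫ stageRes MV G.O h h' = G.mapAt i h :=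
    toStage_res MV vW G.O G.pre h h'
  rw [← e] at hp
  exact hp

instance : Preorder G.Idx where
  le x y := ∃ h : x.i ≤ y.i, x.A ≤ y.A.comap (G.rho x.hi h)
  le_refl x := ⟨le_rfl, fun p hp => by rw [Subring.mem_comap, rho_self]; exact hp⟩
  le_trans x y z := by
    rintro ⟨h, e⟩ ⟨h', e'⟩
    refine ⟨h.trans h', fun p hp => ?_⟩
    have := e' (e hp)
    rw [Subring.mem_comap] at this ⊢
    rwa [rho_rho] at this

theorem exists_idx (i : MV.A) (h : G.i₁ ≤ i) (F : Set (Γ(G.openAt i h, ⊤) × Γ(U, ⊤)))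
    (hF : F.Finite) (hFA : F ⊆ RelSub.eqPairs jW (G.mapAt i h)) :
    ∃ A, RelSub.Good jW (G.mapAt i h) (G.funAt i h) G.r A ∧ F ⊆ A :=
  RelSub.exists_good jW (G.mapAt i h) (G.funAt i h) G.r ((MV.ftz (op i)).opens _) (G.hrr_at i h)
    G.hr (G.aff_at i h) F hF hFA

instance : Nonempty G.Idx := by
  obtain ⟨A, hA, -⟩ := G.exists_idx G.i₁ le_rfl ∅ Set.finite_empty (Set.empty_subset _)
  exact ⟨⟨_, _, A, hA⟩⟩

/-- Above two indices and any stage and finite set there is an index. -/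
theorem exists_above (x y : G.Idx) (i₀ : MV.A) :
    ∃ z : G.Idx, x ≤ z ∧ y ≤ z ∧ i₀ ≤ z.i := by
  obtain ⟨Ex, hEx, ex⟩ := x.good.fg
  obtain ⟨Ey, hEy, ey⟩ := y.good.fg
  obtain ⟨i', hx', hy'⟩ := exists_ge_ge x.i y.i
  obtain ⟨i, hi', hi₀⟩ := exists_ge_ge i' i₀
  have hx := hx'.trans hi'
  have hy := hy'.trans hi'
  obtain ⟨A, hA, hF⟩ := G.exists_idx i (x.hi.trans hx) (G.rho x.hi hx '' Ex ∪ G.rho y.hi hy '' Ey)
    ((hEx.image _).union (hEy.image _)) (by
      rintro _ (⟨p, hp, rfl⟩ | ⟨p, hp, rfl⟩)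
      · exact G.rho_mem_eqPairs _ _ (x.good.le (ex ▸ Subring.subset_closure hp))
      · exact G.rho_mem_eqPairs _ _ (y.good.le (ey ▸ Subring.subset_closure hp)))
  refine ⟨⟨i, _, A, hA⟩, ⟨hx, ?_⟩, ⟨hy, ?_⟩, hi₀⟩
  · rw [ex, Subring.closure_le]
    exact fun p hp => hF (.inl ⟨p, hp, rfl⟩)
  · rw [ey, Subring.closure_le]
    exact fun p hp => hF (.inr ⟨p, hp, rfl⟩)

instance : IsDirectedOrder G.Idx := ⟨fun x y => by
  obtain ⟨z, hx, hy, -⟩ := G.exists_above x y x.i
  exact ⟨z, hx, hy⟩⟩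

instance (x : G.Idx) : IsOpenImmersion (RelSub.β x.A) :=
  x.good.isOpenImmersion (G.cov_at _ _)

/-- The glued scheme at an index. -/
noncomputable abbrev space (x : G.Idx) : Scheme.{u} :=
  pushout (stageOpen MV G.O x.i x.hi).ι (RelSub.β x.A)

/-- The first piece. -/
noncomputable abbrev inl (x : G.Idx) : MV.D.obj (op x.i) ⟶ G.space x :=
  pushout.inl (stageOpen MV G.O x.i x.hi).ι (RelSub.β x.A)

/-- The second piece. -/
noncomputable abbrev inr (x : G.Idx) : RelSub.aff x.A ⟶ G.space x :=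
  pushout.inr (stageOpen MV G.O x.i x.hi).ι (RelSub.β x.A)

variable {G}

theorem Idx.le_i {x y : G.Idx} (h : x ≤ y) : x.i ≤ y.i := h.1

/-- The map of subrings. -/
noncomputable def ringMap {x y : G.Idx} (h : x ≤ y) : CommRingCat.of x.A ⟶ CommRingCat.of y.A :=
  CommRingCat.ofHom (((G.rho x.hi h.1).comp x.A.subtype).codRestrict y.A fun p => h.2 p.2)

theorem ringMap_apply {x y : G.Idx} (h : x ≤ y) (p : x.A) :
    (ringMap h p : y.A).1 = G.rho x.hi h.1 p.1 := rfl

theorem β_ringMap {x y : G.Idx} (h : x ≤ y) :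
    RelSub.β y.A ≫ Spec.map (ringMap h) = stageRes MV G.O x.hi h.1 ≫ RelSub.β x.A := by
  rw [RelSub.β, RelSub.β, Category.assoc, ← Spec.map_comp, Scheme.toSpecΓ_naturality_assoc,
    ← Spec.map_comp]
  rfl

/-- The transition map. -/
noncomputable def trans {x y : G.Idx} (h : x ≤ y) : G.space y ⟶ G.space x :=
  pushout.desc (MV.D.map (homOfLE h.1).op ≫ G.inl x) (Spec.map (ringMap h) ≫ G.inr x) (by
    rw [reassoc_of% β_ringMap h, ← stageRes_ι_assoc MV G.O x.hi h.1, pushout.condition])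

@[reassoc]
theorem inl_trans {x y : G.Idx} (h : x ≤ y) :
    G.inl y ≫ trans h = MV.D.map (homOfLE h.1).op ≫ G.inl x :=
  pushout.inl_desc _ _ _

@[reassoc]
theorem inr_trans {x y : G.Idx} (h : x ≤ y) :
    G.inr y ≫ trans h = Spec.map (ringMap h) ≫ G.inr x :=
  pushout.inr_desc _ _ _

theorem trans_self {x : G.Idx} (h : x ≤ x) : trans h = 𝟙 (G.space x) := by
  refine pushout.hom_ext ?_ ?_
  · rw [inl_trans, MV.map_le_self]
    exact (Category.id_comp _).trans (Category.comp_id _).symm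
  · rw [inr_trans, show ringMap h = 𝟙 _ from CommRingCat.hom_ext
      (RingHom.ext fun p => Subtype.ext (G.rho_self x.hi p.1)), Spec.map_id]
    exact (Category.id_comp _).trans (Category.comp_id _).symm

theorem trans_trans {x y z : G.Idx} (h : x ≤ y) (h' : y ≤ z) :
    trans h' ≫ trans h = trans (h.trans h') := by
  refine pushout.hom_ext ?_ ?_
  · rw [inl_trans_assoc, inl_trans, inl_trans, ← Functor.map_comp_assoc, ← op_comp, homOfLE_comp]
  · rw [inr_trans_assoc, inr_trans, inr_trans, ← Spec.map_comp_assoc,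
      show ringMap h ≫ ringMap h' = ringMap (h.trans h') from CommRingCat.hom_ext
        (RingHom.ext fun p => Subtype.ext (G.rho_rho x.hi h.1 h'.1 p.1))]

variable (G)

/-- The glued system. -/
noncomputable def system : G.Idxᵒᵖ ⥤ Scheme.{u} where
  obj x := G.space x.unop
  map a := trans (leOfHom a.unop)
  map_id x := trans_self _
  map_comp a b := (trans_trans _ _).symm

theorem ftz_space (x : G.Idx) : FTZ (G.space x) := by
  refine FTZ.of_cover (MV.ftz (op x.i)) x.good.ftz (G.inl x) (G.inr x) ?_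
  refine top_le_iff.1 fun z _ => ?_
  exact pushout_cover _ _ z

variable {G}

theorem ringMap_preimage_range {x y : G.Idx} (h : x ≤ y) :
    Spec.map (ringMap h) ⁻¹' Set.range (RelSub.β x.A) = Set.range (RelSub.β y.A) := by
  rw [x.good.range_eq (G.cov_at _ _), y.good.range_eq (G.cov_at _ _)]
  change ((Spec.map (ringMap h) ⁻¹ᵁ (⨆ k, (RelSub.aff x.A).basicOpen (RelSub.fn x.A ⟨_, x.good.mem k⟩)) :
    (RelSub.aff y.A).Opens) : Set (RelSub.aff y.A)) = _
  rw [Scheme.Hom.preimage_iSup]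
  refine congrArg SetLike.coe (congrArg iSup (funext fun k => ?_))
  rw [Scheme.preimage_basicOpen_top]
  congr 1
  refine (congr($((Scheme.ΓSpecIso_inv_naturality (ringMap h)).symm) _)).trans ?_
  refine congrArg (Scheme.ΓSpecIso (CommRingCat.of y.A)).inv (Subtype.ext ?_)
  exact Prod.ext (G.funAt_res x.hi h.1 k) rfl

theorem trans_preimage_inl {x y : G.Idx} (h : x ≤ y) :
    trans h ⁻¹' Set.range (G.inl x) = Set.range (G.inl y) := by
  ext z
  constructor
  · rintro ⟨a, ha⟩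
    rcases pushout_cover _ _ z with hz | ⟨q, rfl⟩
    · exact hz
    · have := ha.trans congr($(inr_trans h) q)
      obtain ⟨o, -, ho⟩ := pushout_overlap _ _ this
      obtain ⟨o', rfl⟩ := (Set.ext_iff.1 (ringMap_preimage_range h) q).1 ⟨o, ho⟩
      exact ⟨(stageOpen MV G.O y.i y.hi).ι o', congr($(pushout.condition (f := (stageOpen MV G.O y.i y.hi).ι) (g := RelSub.β y.A)) o')⟩
  · rintro ⟨a, rfl⟩
    exact ⟨_, congr($(inl_trans h) a).symm⟩

theorem trans_preimage_inr {x y : G.Idx} (h : x ≤ y) :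
    trans h ⁻¹' Set.range (G.inr x) = Set.range (G.inr y) := by
  ext z
  constructor
  · rintro ⟨a, ha⟩
    rcases pushout_cover _ _ z with ⟨q, rfl⟩ | hz
    · have := (ha.trans congr($(inl_trans h) q)).symm
      obtain ⟨o, ho, -⟩ := pushout_overlap _ _ this
      have hq : q ∈ stageOpen MV G.O y.i y.hi := by
        have h1 : MV.D.map (homOfLE h.1).op q ∈ stageOpen MV G.O x.i x.hi := by
          rw [show MV.D.map (homOfLE h.1).op q = _ from ho.symm]
          exact o.2
        have h2 : stageOpen MV G.O y.i y.hi =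
            MV.D.map (homOfLE h.1).op ⁻¹ᵁ stageOpen MV G.O x.i x.hi := by
          rw [stageOpen, stageOpen, ← Scheme.Hom.comp_preimage, ← Functor.map_comp]
          rfl
        rw [h2]
        exact h1
      exact ⟨RelSub.β y.A ⟨q, hq⟩, congr($(pushout.condition (f := (stageOpen MV G.O y.i y.hi).ι) (g := RelSub.β y.A)) ⟨q, hq⟩).symm⟩
    · exact hz
  · rintro ⟨a, rfl⟩
    exact ⟨_, congr($(inr_trans h) a).symm⟩

theorem isAffineHom_trans {x y : G.Idx} (h : x ≤ y) : IsAffineHom (trans h) := by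
  haveI : IsAffineHom (MV.D.map (homOfLE h.1).op) := MV.affine _
  refine isAffineHom_of_two (trans h) (G.inl x) (G.inr x)
    (top_le_iff.1 fun z _ => pushout_cover _ _ z) (G.inl y) (G.inr y)
    (MV.D.map (homOfLE h.1).op) (Spec.map (ringMap h)) (inl_trans h) (inr_trans h) ?_ ?_
  · exact Opens.ext (trans_preimage_inl h)
  · exact Opens.ext (trans_preimage_inr h)

end GlueStage

end Groth.Agent.AlgGlue
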