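import Groth.Agent.MorLib.UltraExistence
import Mathlib.AlgebraicGeometry.Morphisms.ClosedImmersion

/-! The existence part of the valuative criterion for a decreasing family of closed subschemes. -/

set_option autoImplicit false
set_option linter.style.haveILetI false
set_option backward.isDefEq.respectTransparency.types false
universe u

namespace Groth.Agent.AlgGlue

open AlgebraicGeometry CategoryTheory Limits TopologicalSpace Filter
open Groth.Agent.MorLib.Ultra

/-- The existence part of the valuative criterion at the limit gives it at a stage. -/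
theorem exists_existence_stage_sub {I : Type u} [SmallCategory I] [IsCofiltered I] {D : I ⥤ Scheme.{u}}
    {c : Cone D} (hc : IsLimit c) [∀ j, IsAffine (D.obj j)] {i : I} {W : Scheme.{u}} [CompactSpace W]
    (f₀ : W ⟶ D.obj i) [LocallyOfFiniteType f₀] (Z : I → Scheme.{u}) (ζ : ∀ k, Z k ⟶ W)
    [∀ k, IsClosedImmersion (ζ k)]
    (H : ∀ (R K : Type u) [CommRing R] [IsDomain R] [ValuationRing R] [Field K] [Algebra R K]
      [IsFractionRing R K] (a : Spec (.of K) ⟶ W) (b : Spec (.of R) ⟶ c.pt),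
      a ≫ f₀ = gen R K ≫ b ≫ c.π.app i →
      (∀ k, ∃ a' : Spec (.of K) ⟶ Z k, a' ≫ ζ k = a) →
      ∃ l : Spec (.of R) ⟶ W, gen R K ≫ l = a ∧ l ≫ f₀ = b ≫ c.π.app i) :
    ∃ (j : I) (φ : j ⟶ i), ∀ (R K : Type u) [CommRing R] [IsDomain R] [ValuationRing R] [Field K]
      [Algebra R K] [IsFractionRing R K] (a : Spec (.of K) ⟶ W) (b : Spec (.of R) ⟶ D.obj j),
      a ≫ f₀ = gen R K ≫ b ≫ D.map φ →
      (∀ k (_ : j ⟶ k), ∃ a' : Spec (.of K) ⟶ Z k, a' ≫ ζ k = a) →
      ∃ l : Spec (.of R) ⟶ W, gen R K ≫ l = a ∧ l ≫ f₀ = b ≫ D.map φ := by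
  classical
  by_contra hcon
  simp only [not_exists, not_forall] at hcon
  choose jt τ hτ using exists_cone (I := I) i
  choose R K iR iD iV iK iA iF a b hsq hext hno using fun t =>
    hcon (jt t) (τ t (mem_objs_self i t))
  letI := iR; letI := iD; letI := iV; letI := iK; letI := iA; letI := iF
  let U : Ultrafilter (Index I) := Ultrafilter.of atTop
  have hU : (U : Filter (Index I)) ≤ atTop := Ultrafilter.of_le _
  have hO : ∀ k : I, ∀ᶠ t in (U : Filter (Index I)), k ∈ objs i t := fun k =>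
    hU ((eventually_ge_atTop (({k} : Finset I), (∅ : Finset (Σ X Y : I, X ⟶ Y)))).mono fun t ht => by
      have : k ∈ t.1 := ht.1 (Finset.mem_singleton_self k)
      simp [objs, this])
  have hM : ∀ {k k' : I} (m : k ⟶ k'), ∀ᶠ t in (U : Filter (Index I)),
      (⟨k, k', m⟩ : Σ X Y : I, X ⟶ Y) ∈ t.2 := fun {k k'} m =>
    hU ((eventually_ge_atTop ((∅ : Finset I), ({⟨k, k', m⟩} : Finset (Σ X Y : I, X ⟶ Y)))).mono
      fun t ht => ht.2 (Finset.mem_singleton_self _))
  let ψ : ∀ k, Γ(D.obj k, ⊤) →+* Field' U K := fun k =>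
    germ (hO k) fun t hk => pre (gen (R t) (K t) ≫ b t ≫ D.map (τ t hk))
  let V : ValuationSubring (Field' U K) := subring U (K := K) R
  let ψV : ∀ k, Γ(D.obj k, ⊤) →+* V := fun k => (ψ k).codRestrict V.toSubring fun x =>
    germ_mem R (hO k) _ x fun t _ => pre_gen_mem _ _
  have hψV : ∀ k, (algebraMap V (Field' U K)).comp (ψV k) = ψ k := fun k => rfl
  let cV : Cone D :=
    { pt := Spec (.of V)
      π :=
      { app := fun k => toPt (ψV k)
        naturality := fun k k' m => by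
          show 𝟙 _ ≫ toPt (ψV k') = toPt (ψV k) ≫ D.map m
          rw [Category.id_comp]
          refine pre_injective ?_
          rw [pre_comp, pre_toPt, pre_toPt]
          have e : (ψ k).comp (D.map m).appTop.hom = ψ k' :=
            germ_comp_eq_germ (hO k) (hO k') _ _ _ ((hM m).mono fun t ht hp hq => by
              rw [← hτ t m ht hp hq, D.map_comp, ← pre_comp]
              simp only [Category.assoc])
          refine RingHom.ext fun x => Subtype.ext ?_
          exact (RingHom.congr_fun e x).symm } }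
  let bV : Spec (.of V) ⟶ c.pt := hc.lift cV
  have hbV : ∀ k, pre (gen V (Field' U K) ≫ bV ≫ c.π.app k) = ψ k := fun k => by
    rw [hc.fac cV k, pre_specMap]
    show (algebraMap V (Field' U K)).comp (pre (toPt (ψV k))) = _
    rw [pre_toPt, hψV]
  -- the points land in one affine open
  have hcov : ∀ w : W, ∃ P : W.affineOpens, w ∈ P.1 := fun w => by
    obtain ⟨P, hP, hw, -⟩ := exists_isAffineOpen_mem_and_subset (x := w) (U := ⊤) trivial
    exact ⟨⟨P, hP⟩, hw⟩
  choose P hP using hcov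
  obtain ⟨F, hF⟩ := isCompact_univ.elim_finite_subcover (fun w => (((P w).1 : W.Opens) : Set W))
    (fun w => (P w).1.2) fun w _ => Set.mem_iUnion.mpr ⟨w, hP w⟩
  choose pt hptF hpt using fun t =>
    Set.mem_iUnion₂.mp (hF (Set.mem_univ (a t (IsLocalRing.closedPoint (K t)))))
  obtain ⟨⟨p, hpF⟩, hp⟩ := (U.map fun t => (⟨pt t, hptF t⟩ : F)).eq_pure_of_finite
  let A : W.Opens := (P p).1
  haveI : IsAffine (A : Scheme.{u}) := (P p).2
  have hae : ∀ᶠ t in (U : Filter (Index I)),
      ∃ e : Spec (.of (K t)) ⟶ (A : Scheme.{u}), e ≫ A.ι = a t := by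
    have : ∀ᶠ t in (U : Filter (Index I)), (⟨pt t, hptF t⟩ : F) = ⟨p, hpF⟩ := by
      have h1 : ({⟨p, hpF⟩} : Set F) ∈ U.map fun t => (⟨pt t, hptF t⟩ : F) := by rw [hp]; rfl
      exact h1
    refine this.mono fun t ht => ⟨IsOpenImmersion.lift A.ι (a t) ?_, IsOpenImmersion.lift_fac _ _ _⟩
    rw [Scheme.Opens.range_ι]
    rintro _ ⟨x, rfl⟩
    rw [Subsingleton.elim x (IsLocalRing.closedPoint (K t))]
    have e := congrArg Subtype.val ht
    simp only at e
    show _ ∈ ((P p).1 : W.Opens)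
    rw [← e]
    exact hpt t
  let φ : Γ((A : Scheme.{u}), ⊤) →+* Field' U K := germ hae fun t ht => pre ht.choose
  let aA : Spec (.of (Field' U K)) ⟶ (A : Scheme.{u}) := toPt φ
  have hcomm : ∀ (k : I) (g : W ⟶ D.obj k),
      (∀ t (hk : k ∈ objs i t), a t ≫ g = gen (R t) (K t) ≫ b t ≫ D.map (τ t hk)) →
      (aA ≫ A.ι) ≫ g = gen V (Field' U K) ≫ bV ≫ c.π.app k := fun k g hg => by
    refine pre_injective ?_
    rw [hbV k, Category.assoc, pre_comp, pre_toPt]
    refine germ_comp_eq_germ hae (hO k) _ _ _ (Eventually.of_forall fun t ht hk => ?_)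
    rw [← pre_comp, ← Category.assoc, ht.choose_spec, hg t hk]
  have hfac : ∀ k, ∃ a' : Spec (.of (Field' U K)) ⟶ Z k, a' ≫ ζ k = aA ≫ A.ι := fun k => by
    let ZA := pullback (ζ k) A.ι
    let ζA : ZA ⟶ (A : Scheme.{u}) := pullback.snd (ζ k) A.ι
    haveI : IsClosedImmersion ζA := inferInstanceAs (IsClosedImmersion (pullback.snd (ζ k) A.ι))
    haveI : IsAffine ZA := isAffine_of_isAffineHom ζA
    have hsurj : Function.Surjective ζA.appTop :=
      Scheme.Hom.app_surjective ζA ⊤ (isAffineOpen_top _)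
    have hker : RingHom.ker ζA.appTop.hom ≤ RingHom.ker φ := fun x hx => by
      refine (germ_eq_mk hae _ x 0 (((hO k).and hae).mono fun t ht ht' => ?_)).trans (map_zero _)
      obtain ⟨hk, -⟩ := ht
      obtain ⟨a', ha'⟩ := hext t k (τ t hk)
      let l : Spec (.of (K t)) ⟶ ZA := pullback.lift a' ht'.choose (by rw [ha', ht'.choose_spec])
      have hl : ht'.choose = l ≫ ζA := (pullback.lift_snd _ _ _).symm
      rw [hl, pre_comp]
      show pre l (ζA.appTop x) = 0
      rw [RingHom.mem_ker.1 hx, map_zero]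
    let ψ' : Γ(ZA, ⊤) →+* Field' U K := RingHom.liftOfSurjective ζA.appTop.hom hsurj ⟨φ, hker⟩
    refine ⟨toPt ψ' ≫ pullback.fst (ζ k) A.ι, ?_⟩
    rw [Category.assoc, pullback.condition, ← Category.assoc]
    congr 1
    refine pre_injective ?_
    rw [pre_comp, pre_toPt, pre_toPt]
    refine RingHom.ext fun x => ?_
    show RingHom.liftOfSurjective ζA.appTop.hom hsurj ⟨φ, hker⟩ (ζA.appTop x) = φ x
    simp [RingHom.liftOfSurjective, RingHom.liftOfRightInverse_comp_apply]
  obtain ⟨l, hl₁, hl₂⟩ := H V (Field' U K) (aA ≫ A.ι) bV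
    (hcomm i f₀ fun t _ => hsq t)
    hfac
  -- the lift lands in an affine open
  obtain ⟨q, hq⟩ : ∃ q, l (IsLocalRing.closedPoint V) ∈ (P q).1 := ⟨_, hP _⟩
  let B : W.Opens := (P q).1
  haveI : IsAffine (B : Scheme.{u}) := (P q).2
  let lB : Spec (.of V) ⟶ (B : Scheme.{u}) := IsOpenImmersion.lift B.ι l (by
    rw [Scheme.Opens.range_ι]
    rintro _ ⟨x, rfl⟩
    exact ((IsLocalRing.specializes_closedPoint x).map l.continuous).mem_open B.2 hq)
  have hlB : lB ≫ B.ι = l := IsOpenImmersion.lift_fac _ _ _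
  let z : (A : Scheme.{u}) := aA (IsLocalRing.closedPoint (Field' U K))
  have hzB : A.ι z ∈ B := by
    have e : A.ι z = (gen V (Field' U K) ≫ lB ≫ B.ι) (IsLocalRing.closedPoint (Field' U K)) := by
      rw [hlB, hl₁]; rfl
    rw [e, ← Category.assoc, Scheme.Hom.comp_apply]
    exact Subtype.coe_prop _
  obtain ⟨s, hsB, hzs⟩ := (isAffineOpen_top (A : Scheme.{u})).exists_basicOpen_le
    (V := A.ι ⁻¹ᵁ B) ⟨z, hzB⟩ trivial
  let G : (A : Scheme.{u}).Opens := (A : Scheme.{u}).basicOpen s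
  haveI : IsAffine (G : Scheme.{u}) := (isAffineOpen_top (A : Scheme.{u})).basicOpen s
  let ρ : (G : Scheme.{u}) ⟶ (B : Scheme.{u}) := IsOpenImmersion.lift B.ι (G.ι ≫ A.ι) (by
    rw [Scheme.Opens.range_ι]
    rintro _ ⟨x, rfl⟩
    exact hsB x.2)
  have hρ : ρ ≫ B.ι = G.ι ≫ A.ι := IsOpenImmersion.lift_fac _ _ _
  have hmem : ∀ {L : Type u} [Field L] (e : Spec (.of L) ⟶ (A : Scheme.{u})),
      pre e s ≠ 0 → Set.range e ⊆ Set.range G.ι := fun {L} _ e he => by
    rw [Scheme.Opens.range_ι]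
    rintro _ ⟨x, rfl⟩
    refine (mem_preimage_basicOpen e s x).2 ?_
    rw [((Ideal.eq_bot_or_top x.asIdeal).resolve_right x.isPrime.ne_top), Ideal.mem_bot]
    exact he
  have hφs : φ s ≠ 0 := by
    intro h0
    have h1 : pre aA s = 0 := by rw [pre_toPt]; exact h0
    exact (mem_preimage_basicOpen aA s _).1 hzs (h1 ▸ Ideal.zero_mem _)
  have haeG : ∀ᶠ t in (U : Filter (Index I)),
      ∃ e : Spec (.of (K t)) ⟶ (G : Scheme.{u}), e ≫ G.ι ≫ A.ι = a t := by
    have hne : ∀ᶠ t in (U : Filter (Index I)), ∀ ht : ∃ e, e ≫ A.ι = a t, pre ht.choose s ≠ 0 := by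
      by_contra h0
      rw [← Ultrafilter.eventually_not] at h0
      refine hφs ((germ_eq_mk hae _ s 0 (h0.mono fun t ht ht' => ?_)).trans (map_zero _))
      by_contra hne
      exact ht fun ht'' => hne
    refine (hae.and hne).mono fun t ht => ?_
    obtain ⟨⟨e, he⟩, hs⟩ := ht
    have hs' := hs ⟨e, he⟩
    have hch : (⟨e, he⟩ : ∃ e, e ≫ A.ι = a t).choose = e :=
      (cancel_mono A.ι).1 ((Exists.choose_spec (⟨e, he⟩ : ∃ e, e ≫ A.ι = a t)).trans he.symm)
    rw [hch] at hs'
    exact ⟨IsOpenImmersion.lift G.ι e (hmem e hs'), by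
      rw [← Category.assoc, IsOpenImmersion.lift_fac, he]⟩
  let φG : Γ((G : Scheme.{u}), ⊤) →+* Field' U K := germ haeG fun t ht => pre ht.choose
  have hφG : toPt φG ≫ G.ι = aA := by
    refine pre_injective ?_
    rw [pre_comp, pre_toPt, pre_toPt]
    refine germ_comp_eq_germ haeG hae _ _ _ (Eventually.of_forall fun t ht ht' => ?_)
    rw [← pre_comp]
    congr 1
    rw [← cancel_mono A.ι, Category.assoc, ht.choose_spec, ht'.choose_spec]
  have hχ : φG.comp ρ.appTop.hom = (algebraMap V (Field' U K)).comp (pre lB) := by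
    have e : toPt φG ≫ ρ = gen V (Field' U K) ≫ lB := by
      rw [← cancel_mono B.ι, Category.assoc, hρ, ← Category.assoc, hφG, Category.assoc, hlB, hl₁]
    have := congrArg pre e
    rwa [pre_comp, pre_toPt, pre_specMap] at this
  have hx : ∀ x : Γ((B : Scheme.{u}), ⊤), ∀ᶠ t in (U : Filter (Index I)),
      ∀ ht : ∃ e : Spec (.of (K t)) ⟶ (G : Scheme.{u}), e ≫ G.ι ≫ A.ι = a t,
        pre (ht.choose ≫ ρ) x ∈ (algebraMap (R t) (K t)).range := fun x => by
    have h1 : φG (ρ.appTop x) ∈ V := by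
      have := RingHom.congr_fun hχ x
      rw [RingHom.comp_apply, RingHom.comp_apply] at this
      exact this ▸ (pre lB x).2
    exact eventually_mem_of_germ_mem R haeG _ _ h1
  have hft : (B.ι ≫ f₀).appTop.hom.FiniteType :=
    HasRingHomProperty.appTop (P := @LocallyOfFiniteType) (B.ι ≫ f₀) inferInstance
  letI := (B.ι ≫ f₀).appTop.hom.toAlgebra
  haveI : Algebra.FiniteType Γ(D.obj i, ⊤) Γ((B : Scheme.{u}), ⊤) := hft
  obtain ⟨gens, hgens⟩ := (inferInstance : Algebra.FiniteType Γ(D.obj i, ⊤) Γ((B : Scheme.{u}), ⊤)).out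
  obtain ⟨t, ⟨e₀, he₀⟩, htg⟩ :=
    (haeG.and ((eventually_all_finset gens).2 fun x _ => hx x)).exists
  let hte : ∃ e : Spec (.of (K t)) ⟶ (G : Scheme.{u}), e ≫ G.ι ≫ A.ι = a t := ⟨e₀, he₀⟩
  let e : Spec (.of (K t)) ⟶ (B : Scheme.{u}) := hte.choose ≫ ρ
  have he : e ≫ B.ι = a t := by
    show (hte.choose ≫ ρ) ≫ B.ι = a t
    rw [Category.assoc, hρ, hte.choose_spec]
  have hrange : ∀ x, pre e x ∈ (algebraMap (R t) (K t)).range := fun x => by
    have hxm : x ∈ Algebra.adjoin Γ(D.obj i, ⊤) (gens : Set Γ((B : Scheme.{u}), ⊤)) :=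
      hgens.ge trivial
    induction hxm using Algebra.adjoin_induction with
    | mem y hy => exact htg y hy hte
    | algebraMap r =>
      show pre e ((B.ι ≫ f₀).appTop r) ∈ _
      have h2 := RingHom.congr_fun (pre_comp e (B.ι ≫ f₀)) r
      rw [RingHom.comp_apply] at h2
      rw [← h2, ← Category.assoc, he, hsq t]
      exact pre_gen_mem _ _
    | add y y' _ _ hy hy' => rw [map_add]; exact add_mem hy hy'
    | mul y y' _ _ hy hy' => rw [map_mul]; exact mul_mem hy hy'
  let E : R t ≃+* (algebraMap (R t) (K t)).range :=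
    RingEquiv.ofBijective (algebraMap (R t) (K t)).rangeRestrict
      ⟨fun x y hxy => IsFractionRing.injective (R t) (K t) (congrArg Subtype.val hxy),
        (algebraMap (R t) (K t)).rangeRestrict_surjective⟩
  let χ : Γ((B : Scheme.{u}), ⊤) →+* R t := E.symm.toRingHom.comp ((pre e).codRestrict _ hrange)
  have hχe : (algebraMap (R t) (K t)).comp χ = pre e := RingHom.ext fun x =>
    congrArg Subtype.val (E.apply_symm_apply ⟨pre e x, hrange x⟩)
  have hgl : gen (R t) (K t) ≫ toPt χ = e := pre_injective (by rw [pre_specMap, pre_toPt, hχe])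
  refine hno t (toPt χ ≫ B.ι) ⟨?_, ?_⟩
  · rw [← Category.assoc, hgl, he]
  · refine pre_injective (RingHom.ext fun x => IsFractionRing.injective (R t) (K t) ?_)
    have h1 : gen (R t) (K t) ≫ (toPt χ ≫ B.ι) ≫ f₀ =
        gen (R t) (K t) ≫ b t ≫ D.map (τ t (mem_objs_self i t)) := by
      rw [← Category.assoc, ← Category.assoc, hgl, he, hsq t]
    have h2 := congrArg pre h1
    rw [pre_specMap, pre_specMap] at h2
    exact RingHom.congr_fun h2 x

end Groth.Agent.AlgGlue
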