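import Groth.Agent.AlgGlue.Basic
import Mathlib.AlgebraicGeometry.ZariskisMainTheorem

/-!
# Zariski's main theorem: finite factorisation over a quasi-compact quasi-separated base
-/

universe u

set_option autoImplicit false
set_option backward.isDefEq.respectTransparency false
set_option backward.isDefEq.respectTransparency.types false
set_option linter.style.haveILetI false

open CategoryTheory CategoryTheory.Limits AlgebraicGeometry TopologicalSpace Opposite

namespace Groth.Agent.AlgGlue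

open Groth.Agent.QCoh

variable {X Y : Scheme.{u}}

/-- An affine morphism is an isomorphism over a basic open of an affine open if it is so on functions. -/
theorem isIso_restrict_basicOpen (q : X ⟶ Y) [IsAffineHom q] {W : Y.Opens} (hW : IsAffineOpen W)
    (b : Γ(Y, W)) (hinj : Function.Injective (q.app W))
    (hsurj : ∀ z : Γ(X, q ⁻¹ᵁ Y.basicOpen b), ∃ (n : ℕ) (c : Γ(Y, W)),
      res q (Y.basicOpen_le b) (q.app W c) = z * res q (Y.basicOpen_le b) (q.app W b) ^ n) :
    IsIso (q ∣_ Y.basicOpen b) := by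
  haveI : IsAffine (Y.basicOpen b : Scheme.{u}) := hW.basicOpen b
  haveI : IsAffine (q ⁻¹ᵁ Y.basicOpen b : Scheme.{u}) := (hW.basicOpen b).preimage q
  suffices h : IsIso (q.app (Y.basicOpen b)) by
    refine (HasAffineProperty.iff_of_isAffine (P := MorphismProperty.isomorphisms Scheme)).mpr
      ⟨inferInstance, ?_⟩
    rw [morphismRestrict_appTop]
    haveI : IsIso (q.app ((Y.basicOpen b).ι ''ᵁ ⊤)) := (Scheme.Opens.ι_image_top _).symm ▸ h
    infer_instance
  rw [ConcreteCategory.isIso_iff_bijective]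
  haveI := hW.isLocalization_basicOpen b
  letI := (res q (Y.basicOpen_le b)).hom.toAlgebra
  haveI hloc := isLocalization_res q hW b
  have key : ∀ (c : Γ(Y, W)), q.app (Y.basicOpen b) (rf Y (Y.basicOpen_le b) c) =
      res q (Y.basicOpen_le b) (q.app W c) := fun c => (res_app q _ c).symm
  refine ⟨(injective_iff_map_eq_zero _).mpr fun z hz => ?_, fun z => ?_⟩
  · obtain ⟨⟨c, ⟨_, n, rfl⟩⟩, hc⟩ := IsLocalization.surj (Submonoid.powers b) z
    have h0 : res q (Y.basicOpen_le b) (q.app W c) = 0 := by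
      rw [← key]
      refine (congrArg (q.app (Y.basicOpen b)) hc.symm).trans ?_
      rw [map_mul, hz, zero_mul]
    obtain ⟨⟨_, m, rfl⟩, hm⟩ := IsLocalization.exists_of_eq (M := Submonoid.powers (q.app W b))
      (S := Γ(X, q ⁻¹ᵁ Y.basicOpen b)) (x := q.app W c) (y := 0) (h0.trans (map_zero _).symm)
    have h2 : b ^ m * c = 0 := hinj (by rw [map_mul, map_pow, map_zero]; simpa using hm)
    have hu : IsUnit (algebraMap Γ(Y, W) Γ(Y, Y.basicOpen b) (b ^ m) *
        algebraMap Γ(Y, W) Γ(Y, Y.basicOpen b) (b ^ n)) :=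
      (IsLocalization.map_units _ (⟨_, m, rfl⟩ : Submonoid.powers b)).mul
        (IsLocalization.map_units _ (⟨_, n, rfl⟩ : Submonoid.powers b))
    refine hu.mul_right_eq_zero.mp ?_
    rw [mul_assoc, mul_comm _ z, hc, ← map_mul, h2, map_zero]
  · obtain ⟨n, c, hc⟩ := hsurj z
    refine ⟨IsLocalization.mk' _ c (⟨_, n, rfl⟩ : Submonoid.powers b), ?_⟩
    have h1 := congrArg (q.app (Y.basicOpen b))
      (IsLocalization.mk'_spec Γ(Y, Y.basicOpen b) c (⟨_, n, rfl⟩ : Submonoid.powers b))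
    rw [map_mul] at h1
    have h2 := h1.trans ((key c).trans hc)
    have hk : q.app (Y.basicOpen b) (algebraMap Γ(Y, W) Γ(Y, Y.basicOpen b) (b ^ n)) =
        res q (Y.basicOpen_le b) (q.app W b) ^ n := by
      rw [← map_pow, ← map_pow]; exact key (b ^ n)
    rw [hk] at h2
    have hu : IsUnit (res q (Y.basicOpen_le b) (q.app W b) ^ n) := by
      rw [← key]; exact (((isUnit_rf_basicOpen b).map (q.app (Y.basicOpen b)).hom)).pow n
    exact hu.mul_left_injective h2

/-- Finitely many sections over affine opens lie in submodules of finite type. -/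
theorem exists_ftFamily [CompactSpace Y] [QuasiSeparatedSpace Y] (f : X ⟶ Y) [QuasiCompact f]
    [QuasiSeparated f] {ι : Type u} (V : ι → Y.affineOpens) (s : ∀ i, Set Γ(X, f ⁻¹ᵁ (V i).1))
    (hs : ∀ i, (s i).Finite) :
    ∃ N : ι → SubMod (push f), (∀ i, FTOn (N i) ⊤) ∧ ∀ i, s i ⊆ sub f N (V i).1 := by
  choose N hN hmem using fun i => exists_ftOn_contains (isQCoh_push f) (V i).2
    (extStep_qcqs (V i).2.isCompact) (show Set Γ(push f, (V i).1) from s i) (hs i)
  exact ⟨N, hN, fun i x hx => gen_mem f N (hmem i hx)⟩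

/-- The glued scheme is finite over the base if the map was integral. -/
theorem isFinite_proj_of_isIntegralHom (f : X ⟶ Y) [IsIntegralHom f] {ι : Type u} [Finite ι]
    (N : ι → SubMod (push f)) (hN : ∀ i, FTOn (N i) ⊤) : IsFinite (proj f N hN) := by
  refine isFinite_proj f N hN (fun V : {V : Y.affineOpens // ∀ i, ∃ T, GenBy (N i) V.1 T} => V.1)
    (eq_top_iff.mpr fun y _ => ?_) fun ⟨V, hV⟩ => ?_
  · haveI := Fintype.ofFinite ι
    choose W hWaff hyW _ hWgen using fun i => hN i y trivial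
    obtain ⟨_, ⟨V, hV, rfl⟩, hyV, hVW⟩ := Y.isBasis_affineOpens.exists_subset_of_mem_open
      (show y ∈ ((⊤ : Y.Opens) ⊓ Finset.univ.inf W : Y.Opens) from
        ⟨trivial, by simp [hyW]⟩) (⊤ ⊓ Finset.univ.inf W : Y.Opens).isOpen
    refine Opens.mem_iSup.mpr ⟨⟨⟨V, hV⟩, fun i => ?_⟩, hyV⟩
    obtain ⟨T, hT⟩ := hWgen i
    exact ⟨_, hT.restrict ((show V ≤ _ from hVW).trans (inf_le_right.trans (Finset.inf_le (Finset.mem_univ i))))⟩
  · show ((diagMap f N).app (op V.1)).hom.Finite
    choose T hT using hV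
    algebraize [(f.app V.1).hom]
    have hint : Algebra.IsIntegral Γ(Y, V.1) Γ(X, f ⁻¹ᵁ V.1) :=
      ⟨f.isIntegral_app V.1 V.2⟩
    let S : Set Γ(X, f ⁻¹ᵁ V.1) := ⋃ i, toFun f '' T i
    have hS : S.Finite := Set.finite_iUnion fun i => (hT i).fin.image _
    have heq : (Algebra.adjoin Γ(Y, V.1) S).toSubring = sub f N V.1 := by
      rw [Algebra.adjoin_eq_ring_closure]
      refine le_antisymm (Subring.closure_le.mpr (Set.union_subset ?_ ?_))
        (Subring.closure_le.mpr (Set.union_subset ?_ ?_))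
      · rintro _ ⟨a, rfl⟩; exact app_mem f N V.1 a
      · exact Set.iUnion_subset fun i => by rintro _ ⟨t, ht, rfl⟩; exact gen_mem f N ((hT i).mem t ht)
      · exact fun _ hx => Subring.subset_closure (.inl hx)
      · refine Set.iUnion_subset fun i => ?_
        rintro _ ⟨t, ht, rfl⟩
        have := (hT i).mem_span (isQCoh_push f) V.2 ht
        clear ht
        induction this using Submodule.span_induction with
        | mem x hx => exact Subring.subset_closure (.inr (Set.mem_iUnion.2 ⟨i, x, hx, rfl⟩))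
        | zero => exact zero_mem _
        | add x y _ _ hx hy => exact add_mem hx hy
        | smul a x _ hx =>
          exact mul_mem (Subring.subset_closure (.inl ⟨a, rfl⟩)) hx
    haveI : Module.Finite Γ(Y, V.1) (Algebra.adjoin Γ(Y, V.1) S) :=
      Algebra.finite_adjoin_of_finite_of_isIntegral hS fun x _ => Algebra.IsIntegral.isIntegral x
    let e : Algebra.adjoin Γ(Y, V.1) S ≃+* sub f N V.1 := RingEquiv.subringCongr heq
    have hfin : (algebraMap Γ(Y, V.1) (Algebra.adjoin Γ(Y, V.1) S)).Finite :=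
      RingHom.finite_algebraMap.mpr ‹_›
    exact RingHom.Finite.comp (RingHom.Finite.of_surjective e.toRingHom e.surjective) hfin

/-- An open subscheme of finite type of a scheme integral over a quasi-compact quasi-separated base is open in
a scheme finite over the base. -/
theorem exists_finite_factor_of_openImmersion [CompactSpace Y] [QuasiSeparatedSpace Y] {N₀ : Scheme.{u}}
    (ν : N₀ ⟶ Y) [IsIntegralHom ν] (j : X ⟶ N₀) [IsOpenImmersion j] [CompactSpace X]
    [LocallyOfFiniteType (j ≫ ν)] :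
    ∃ (T : Scheme.{u}) (i : X ⟶ T) (π : T ⟶ Y),
      IsOpenImmersion i ∧ QuasiCompact i ∧ IsFinite π ∧ i ≫ π = j ≫ ν := by
  -- data: finitely many basic opens of preimages of affine opens covering the open subscheme
  have hpt : ∀ x : X, ∃ (V : Y.affineOpens) (g : Γ(N₀, ν ⁻¹ᵁ V.1)),
      j x ∈ N₀.basicOpen g ∧ (N₀.basicOpen g : Set N₀) ⊆ Set.range j := by
    intro x
    obtain ⟨_, ⟨V, hV, rfl⟩, hxV, -⟩ := Y.isBasis_affineOpens.exists_subset_of_mem_open
      (Set.mem_univ (ν (j x))) isOpen_univ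
    obtain ⟨g, hg, hxg⟩ := (hV.preimage ν).exists_basicOpen_le (V := j.opensRange ⊓ ν ⁻¹ᵁ V)
      ⟨j x, ⟨x, rfl⟩, hxV⟩ hxV
    exact ⟨⟨V, hV⟩, g, hxg, fun y hy => (hg hy).1⟩
  choose V g hxg hg using hpt
  obtain ⟨t, ht⟩ := (isCompact_range j.continuous).elim_finite_subcover
    (fun x : X => (N₀.basicOpen (g x) : Set N₀)) (fun x => (N₀.basicOpen (g x)).isOpen)
    (by rintro _ ⟨x, rfl⟩; exact Set.mem_iUnion.mpr ⟨x, hxg x⟩)
  -- each basic open has finitely generated functions, with chosen numerators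
  have hnum : ∀ x : X, ∃ s : Set Γ(N₀, ν ⁻¹ᵁ (V x).1), s.Finite ∧ g x ∈ s ∧
      ∀ (B : Subring Γ(N₀, ν ⁻¹ᵁ (V x).1)), Set.range (ν.app (V x).1) ⊆ B → s ⊆ B →
        ∀ z : Γ(N₀, N₀.basicOpen (g x)), ∃ (n : ℕ), ∃ c ∈ B,
          rf N₀ (N₀.basicOpen_le (g x)) c = z * rf N₀ (N₀.basicOpen_le (g x)) (g x) ^ n := by
    intro x
    let D := N₀.basicOpen (g x)
    let L := Γ(N₀, D)
    haveI := ((V x).2.preimage ν).isLocalization_basicOpen (g x)
    have hle : D ≤ ν ⁻¹ᵁ (V x).1 := N₀.basicOpen_le _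
    let φ := ν.appLE (V x).1 D hle
    have hft : φ.hom.FiniteType := by
      have hDj : D ≤ j.opensRange := fun y hy => hg x hy
      have h1 : (j ⁻¹ᵁ D : X.Opens) ≤ (j ≫ ν) ⁻¹ᵁ (V x).1 := fun y hy => hle hy
      have haff : IsAffineOpen (j ⁻¹ᵁ D) :=
        (((V x).2.preimage ν).basicOpen (g x)).preimage_of_isOpenImmersion j (by
          simpa using hDj)
      have h2 := LocallyOfFiniteType.finiteType_appLE (f := j ≫ ν) (V x).2 haff h1
      rw [← Scheme.Hom.appLE_comp_appLE j ν (V x).1 D (j ⁻¹ᵁ D) hle le_rfl] at h2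
      haveI : IsIso (j.appLE D (j ⁻¹ᵁ D) le_rfl) := by
        rw [Scheme.Hom.appLE_eq_app]; exact j.isIso_app D hDj
      exact (RingHom.finiteType_respectsIso.cancel_right_isIso φ (j.appLE D (j ⁻¹ᵁ D) le_rfl)).mp h2
    algebraize [φ.hom]
    obtain ⟨gens, hgens⟩ := (RingHom.finiteType_algebraMap (A := Γ(Y, (V x).1)) (B := L)).mp hft |>.out
    choose num hnum' using fun z : L => IsLocalization.surj (Submonoid.powers (g x)) z
    refine ⟨insert (g x) ((fun z => (num z).1) '' (gens : Set L)),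
      (gens.finite_toSet.image _).insert _, Set.mem_insert _ _, fun B hB hs z => ?_⟩
    have hz : z ∈ Algebra.adjoin Γ(Y, (V x).1) (gens : Set L) := by rw [hgens]; trivial
    have hgB : g x ∈ B := hs (Set.mem_insert _ _)
    induction hz using Algebra.adjoin_induction with
    | mem z hz =>
      obtain ⟨n, hn⟩ := (num z).2.2
      refine ⟨n, (num z).1, hs (Set.mem_insert_of_mem _ ⟨z, hz, rfl⟩), ?_⟩
      have := hnum' z
      rw [← hn, map_pow] at this
      exact this.symm
    | algebraMap r =>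
      refine ⟨0, ν.app (V x).1 r, hB ⟨r, rfl⟩, ?_⟩
      rw [pow_zero, mul_one]
      rfl
    | add z w _ _ hz hw =>
      obtain ⟨n, c, hc, hcz⟩ := hz
      obtain ⟨m, d, hd, hdw⟩ := hw
      refine ⟨n + m, c * g x ^ m + d * g x ^ n, add_mem (mul_mem hc (pow_mem hgB _))
        (mul_mem hd (pow_mem hgB _)), ?_⟩
      simp only [rf, map_add, map_mul, map_pow] at hcz hdw ⊢
      rw [hcz, hdw]; ring
    | mul z w _ _ hz hw =>
      obtain ⟨n, c, hc, hcz⟩ := hz
      obtain ⟨m, d, hd, hdw⟩ := hw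
      refine ⟨n + m, c * d, mul_mem hc hd, ?_⟩
      simp only [rf, map_mul] at hcz hdw ⊢
      rw [hcz, hdw]; ring
  choose s hsfin hgs hsB using hnum
  obtain ⟨N, hN, hsN⟩ := exists_ftFamily ν (fun x : t => V x.1) (fun x => s x.1) (fun x => hsfin x.1)
  let T := space ν N hN
  let q := toSpace ν N hN
  let π := proj ν N hN
  haveI : IsFinite π := isFinite_proj_of_isIntegralHom ν N hN
  haveI : IsAffineHom (q ≫ π) := by rw [show q ≫ π = ν from toSpace_proj ν N hN]; infer_instance
  haveI : IsAffineHom q := IsAffineHom.of_comp q π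
  -- over each of the basic opens `q` is an isomorphism
  have hU : ∀ x : t, ∃ O : T.Opens, IsIso (q ∣_ O) ∧ q ⁻¹ᵁ O = N₀.basicOpen (g x.1) := by
    intro x
    let VV := V x.1
    have hpre : q ⁻¹ᵁ π ⁻¹ᵁ VV.1 = ν ⁻¹ᵁ VV.1 := by
      rw [← Scheme.Hom.comp_preimage]; exact congrArg (· ⁻¹ᵁ VV.1) (toSpace_proj ν N hN)
    let e := N₀.presheaf.map (eqToHom hpre).op
    have hlift : ∀ c ∈ sub ν N VV.1, ∃ b, q.app (π ⁻¹ᵁ VV.1) b = e c := fun c hc =>
      mem_range_toSpace_app ν N hN VV hc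
    obtain ⟨b, hb⟩ := hlift (g x.1) (hsN x (hgs x.1))
    have hbg : q ⁻¹ᵁ T.basicOpen b = N₀.basicOpen (g x.1) := by
      rw [Scheme.preimage_basicOpen, hb]
      exact Scheme.basicOpen_res_eq _ _ _
    refine ⟨T.basicOpen b, isIso_restrict_basicOpen q (VV.2.preimage π) b
      (toSpace_app_injective ν N hN VV) fun z => ?_, hbg⟩
    let z' : Γ(N₀, N₀.basicOpen (g x.1)) := N₀.presheaf.map (eqToHom hbg.symm).op z
    obtain ⟨n, c, hc, hcz⟩ := hsB x.1 (sub ν N VV.1)
      (by rintro _ ⟨a, rfl⟩; exact app_mem ν N VV.1 a) (hsN x) z'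
    obtain ⟨c', hc'⟩ := hlift c hc
    refine ⟨n, c', ?_⟩
    have h3 := congrArg (N₀.presheaf.map (eqToHom hbg).op) hcz
    rw [map_mul, map_pow] at h3
    have comb : ∀ a : Γ(N₀, ν ⁻¹ᵁ VV.1), res q (T.basicOpen_le b) (e a) =
        N₀.presheaf.map (eqToHom hbg).op (rf N₀ (N₀.basicOpen_le (g x.1)) a) := fun a => by
      simp only [res, rf, e, ← ConcreteCategory.comp_apply, ← Functor.map_comp]
      rfl
    rw [hc', hb, comb, comb, h3]
    congr 1
    simp only [z', ← ConcreteCategory.comp_apply, ← Functor.map_comp]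
    simp
  choose O hO hOpre using hU
  let Oall : T.Opens := ⨆ x, O x
  haveI : IsIso (q ∣_ Oall) := by
    refine IsZariskiLocalAtTarget.of_iSup_eq_top (P := MorphismProperty.isomorphisms Scheme.{u})
      (fun x => Oall.ι ⁻¹ᵁ O x) ?_ fun x => ?_
    · refine top_le_iff.1 fun y _ => ?_
      obtain ⟨x, hx⟩ := Opens.mem_iSup.1 y.2
      exact Opens.mem_iSup.2 ⟨x, hx⟩
    · refine ((MorphismProperty.isomorphisms Scheme.{u}).arrow_mk_iso_iff
        (morphismRestrictRestrict q Oall _ ≪≫ morphismRestrictEq q ?_)).2 (hO x)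
      rw [Scheme.Hom.image_preimage_eq_opensRange_inf, Scheme.Opens.opensRange_ι, inf_eq_right]
      exact le_iSup O x
  have hrange : Set.range j ⊆ (q ⁻¹ᵁ Oall : Set N₀) := fun y hy => by
    obtain ⟨x, hx, hyx⟩ := Set.mem_iUnion₂.1 (ht hy)
    have : y ∈ q ⁻¹ᵁ O ⟨x, hx⟩ := by rw [hOpre]; exact hyx
    exact Opens.mem_iSup.2 ⟨⟨x, hx⟩, this⟩
  let j' : X ⟶ (q ⁻¹ᵁ Oall : N₀.Opens) :=
    IsOpenImmersion.lift (q ⁻¹ᵁ Oall).ι j (by rw [Scheme.Opens.range_ι]; exact hrange)
  haveI : IsOpenImmersion (j' ≫ (q ⁻¹ᵁ Oall).ι) := by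
    rw [IsOpenImmersion.lift_fac]; infer_instance
  haveI : IsOpenImmersion j' := IsOpenImmersion.of_comp j' (q ⁻¹ᵁ Oall).ι
  have hi : j ≫ q = (j' ≫ (q ∣_ Oall)) ≫ Oall.ι := by
    rw [Category.assoc, morphismRestrict_ι, ← Category.assoc, IsOpenImmersion.lift_fac]
  haveI : IsOpenImmersion (j ≫ q) := by rw [hi]; infer_instance
  have hfac : (j ≫ q) ≫ π = j ≫ ν := by rw [Category.assoc]; exact congrArg _ (toSpace_proj ν N hN)
  haveI : QuasiSeparatedSpace T := by
    haveI : QuasiSeparated π := inferInstance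
    exact quasiSeparatedSpace_of_quasiSeparated π
  exact ⟨T, j ≫ q, π, inferInstance, inferInstance, inferInstance, hfac⟩

/-- Zariski's main theorem over a quasi-compact quasi-separated base. -/
theorem exists_finite_factor [CompactSpace Y] [QuasiSeparatedSpace Y] (f : X ⟶ Y) [IsSeparated f]
    [QuasiCompact f] [LocallyOfFiniteType f] [LocallyQuasiFinite f] :
    ∃ (T : Scheme.{u}) (i : X ⟶ T) (π : T ⟶ Y),
      IsOpenImmersion i ∧ QuasiCompact i ∧ IsFinite π ∧ i ≫ π = f := by
  haveI : CompactSpace X := QuasiCompact.compactSpace_of_compactSpace f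
  haveI : LocallyOfFiniteType (f.toNormalization ≫ f.fromNormalization) := by
    rw [Scheme.Hom.toNormalization_fromNormalization]; infer_instance
  obtain ⟨T, i, π, h1, h2, h3, h4⟩ :=
    exists_finite_factor_of_openImmersion f.fromNormalization f.toNormalization
  exact ⟨T, i, π, h1, h2, h3, h4.trans f.toNormalization_fromNormalization⟩

end Groth.Agent.AlgGlue
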